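import Cfsg.Agent.Lib.Transfer.PGroup

/-!
# Thompson's critical subgroup
-/

set_option autoImplicit false

namespace CfsgLib.Transfer

open Cfsg
open scoped commutatorElement

universe u

variable {G : Type u} [Group G] {p : ℕ}

theorem exists_critical [Finite G] [hp : Fact p.Prime] (hG : IsPGroup p G) :
    ∃ H : Subgroup G, H.Characteristic ∧
      (frattini H).map H.subtype ≤ Subgroup.centralizer (H : Set G) ∧
      ⁅H, (⊤ : Subgroup G)⁆ ≤ H ⊓ Subgroup.centralizer (H : Set G) ∧
      Subgroup.centralizer (H : Set G) ≤ H := by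
  have := hG.isNilpotent
  obtain ⟨D, hD, hmax⟩ :=
    (Set.toFinite {D : Subgroup G | D.Characteristic ∧ IsMulCommutative D}).exists_maximal
      ⟨⊥, inferInstance, inferInstance⟩
  obtain ⟨hDc, hDab⟩ := hD
  have hDn : D.Normal := Subgroup.normal_of_characteristic D
  let H : Subgroup G :=
    { carrier := {x | x ∈ Subgroup.centralizer (D : Set G) ∧ (∀ g : G, ⁅x, g⁆ ∈ D) ∧ x ^ p ∈ D}
      one_mem' := ⟨one_mem _, fun g => by simp, by simp⟩
      mul_mem' := by
        rintro x y ⟨hxc, hx, hxp⟩ ⟨hyc, hy, hyp⟩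
        refine ⟨mul_mem hxc hyc, fun g => ?_, ?_⟩
        · have h : ⁅x * y, g⁆ = x * ⁅y, g⁆ * x⁻¹ * ⁅x, g⁆ := by
            simp only [commutatorElement_def]; group
          rw [h]
          exact mul_mem (hDn.conj_mem _ (hy g) x) (hx g)
        · rw [← QuotientGroup.eq_one_iff, QuotientGroup.mk_pow, QuotientGroup.mk_mul]
          have hc : Commute (x : G ⧸ D) (y : G ⧸ D) := by
            refine commutatorElement_eq_one_iff_commute.mp ?_
            exact (QuotientGroup.eq_one_iff _).mpr (hx y)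
          rw [hc.mul_pow, ← QuotientGroup.mk_pow, ← QuotientGroup.mk_pow,
            (QuotientGroup.eq_one_iff _).mpr hxp, (QuotientGroup.eq_one_iff _).mpr hyp, one_mul]
      inv_mem' := by
        rintro x ⟨hxc, hx, hxp⟩
        refine ⟨inv_mem hxc, fun g => ?_, by rw [inv_pow]; exact inv_mem hxp⟩
        have h : ⁅x⁻¹, g⁆ = x⁻¹ * (⁅x, g⁆)⁻¹ * x⁻¹⁻¹ := by
          simp only [commutatorElement_def]; group
        rw [h]
        exact hDn.conj_mem _ (inv_mem (hx g)) _ }
  have hDH : D ≤ H := fun d hd => by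
    refine ⟨D.le_centralizer hd, fun g => ?_, pow_mem hd p⟩
    rw [commutatorElement_def, mul_assoc d g, mul_assoc d]
    exact mul_mem hd (hDn.conj_mem _ (inv_mem hd) g)
  have hDstab : ∀ (e : G ≃* G) (d : G), d ∈ D → e d ∈ D := fun e d hd => by
    have h := hDc.fixed e
    rw [← h] at hd
    exact hd
  have hHc : H.Characteristic := by
    refine Subgroup.characteristic_iff_le_comap.mpr fun e x hx => ?_
    obtain ⟨hxc, hx, hxp⟩ := hx
    refine ⟨Subgroup.mem_centralizer_iff.mpr fun d hd => ?_, fun g => ?_, ?_⟩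
    · have h := Subgroup.mem_centralizer_iff.mp hxc (e.symm d) (hDstab e.symm d hd)
      have h' := congrArg e h
      simpa using h'
    · have h := hDstab e _ (hx (e.symm g))
      rw [map_commutatorElement, MulEquiv.apply_symm_apply] at h
      exact h
    · rw [MulEquiv.coe_toMonoidHom, ← map_pow]
      exact hDstab e _ hxp
  have hHC : H ≤ Subgroup.centralizer (D : Set G) := fun x hx => hx.1
  have hDZ : D ≤ Subgroup.centralizer (H : Set G) := fun d hd => by
    refine Subgroup.mem_centralizer_iff.mpr fun h hh => ?_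
    exact (Subgroup.mem_centralizer_iff.mp (hHC hh) d hd).symm
  have hZH : H ⊓ Subgroup.centralizer (H : Set G) ≤ D := by
    have : H.Normal := Subgroup.normal_of_characteristic H
    refine hmax ⟨?_, ?_⟩ (le_inf hDH hDZ)
    · refine Subgroup.characteristic_iff_le_comap.mpr fun e x hx => ⟨?_, ?_⟩
      · exact (Subgroup.characteristic_iff_le_comap.mp hHc e) hx.1
      · refine Subgroup.mem_centralizer_iff.mpr fun h hh => ?_
        have h2 : e.symm h ∈ H := (Subgroup.characteristic_iff_le_comap.mp hHc e.symm) hh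
        simpa using congrArg e (Subgroup.mem_centralizer_iff.mp hx.2 _ h2)
    · exact ⟨⟨fun a b => Subtype.ext (Subgroup.mem_centralizer_iff.mp b.2.2 a a.2.1)⟩⟩
  refine ⟨H, hHc, ?_, ?_, ?_⟩
  · have h1 : frattini H ≤ D.subgroupOf H := by
      refine frattini_le_of_quotient_elementary (p := p) _ ?_ fun x => x.2.2.2
      rw [commutator_def, Subgroup.commutator_le]
      exact fun x _ y _ => x.2.2.1 y
    exact (Subgroup.map_mono h1).trans ((Subgroup.map_comap_le _ _).trans hDZ)
  · rw [Subgroup.commutator_le]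
    exact fun x hx g _ => ⟨hDH (hx.2.1 g), hDZ (hx.2.1 g)⟩
  · set Q := Subgroup.centralizer (H : Set G) with hQ
    by_contra hne
    have hHn : H.Normal := Subgroup.normal_of_characteristic H
    have : Q.Normal := inferInstance
    let q := QuotientGroup.mk' D
    have : (Q.map q).Normal := Subgroup.Normal.map inferInstance q (QuotientGroup.mk'_surjective D)
    have : Group.IsNilpotent (G ⧸ D) := (hG.to_quotient D).isNilpotent
    have hQne : Q.map q ≠ ⊥ := by
      intro h
      rw [Subgroup.map_eq_bot_iff, QuotientGroup.ker_mk'] at h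
      exact hne (h.trans hDH)
    obtain ⟨w, hw, hw1⟩ := (Subgroup.ne_bot_iff_exists_ne_one.mp (inf_center_ne_bot hQne)) |>
      (fun ⟨w, hw⟩ => (⟨w.1, w.2, fun h => hw (Subtype.ext h)⟩ :
        ∃ w, w ∈ Q.map q ⊓ Subgroup.center (G ⧸ D) ∧ w ≠ 1))
    obtain ⟨j, hj⟩ := IsPGroup.iff_orderOf.mp (hG.to_quotient D) w
    have hj1 : 1 ≤ j := by
      by_contra h
      exact hw1 (orderOf_eq_one_iff.mp (by rw [hj, show j = 0 by omega, pow_zero]))
    set v := w ^ p ^ (j - 1) with hv
    have hvp : v ^ p = 1 := by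
      rw [hv, ← pow_mul, ← pow_succ, Nat.sub_add_cancel hj1, ← hj]
      exact pow_orderOf_eq_one w
    have hv1 : v ≠ 1 := fun h => by
      have h1 := orderOf_dvd_of_pow_eq_one h
      rw [hj, Nat.pow_dvd_pow_iff_le_right hp.out.one_lt] at h1
      omega
    obtain ⟨⟨x, hxQ, hxv⟩, hvc⟩ := pow_mem hw (p ^ (j - 1))
    rw [← hv] at hxv hvc
    have hxC : x ∈ Subgroup.centralizer (D : Set G) :=
      Subgroup.centralizer_le (SetLike.coe_subset_coe.mpr hDH) hxQ
    have hxH : x ∈ H := by
      refine ⟨hxC, fun g => ?_, ?_⟩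
      · rw [← QuotientGroup.eq_one_iff]
        change q ⁅x, g⁆ = 1
        rw [map_commutatorElement, hxv, commutatorElement_eq_one_iff_mul_comm]
        exact (Subgroup.mem_center_iff.mp hvc (q g)).symm
      · rw [← QuotientGroup.eq_one_iff]
        change q (x ^ p) = 1
        rw [map_pow, hxv, hvp]
    exact hv1 (hxv ▸ (QuotientGroup.eq_one_iff x).mpr (hZH ⟨hxH, hxQ⟩))

end CfsgLib.Transfer
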