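import Cfsg.Prelude.Def_Transfer
import Mathlib.GroupTheory.Nilpotent
import Mathlib.GroupTheory.SpecificGroups.Cyclic
import Mathlib.Tactic.Group

/-!
# Frattini subgroup of finite nilpotent groups and p-groups
-/

set_option autoImplicit false

namespace CfsgLib.Transfer

open scoped commutatorElement

universe u

variable {G : Type u} [Group G] {p : ℕ}

/-- Maximal subgroups of nilpotent groups are normal and contain the derived subgroup. -/
theorem commutator_le_coatom [Group.IsNilpotent G] {M : Subgroup G} (hM : IsCoatom M) :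
    commutator G ≤ M := by
  have hn : M.Normal := Subgroup.NormalizerCondition.normal_of_coatom M
    Group.normalizerCondition_of_isNilpotent hM
  rw [← Subgroup.Normal.quotient_commutative_iff_commutator_le]
  obtain ⟨x, hx⟩ : ∃ x, x ∉ M := by
    by_contra h
    exact hM.1 (eq_top_iff.mpr fun x _ => not_not.mp (fun hx => h ⟨x, hx⟩))
  have htop : M ⊔ Subgroup.zpowers x = ⊤ :=
    hM.2 _ (lt_of_le_of_ne le_sup_left fun h => hx (h ▸ Subgroup.mem_sup_right
      (Subgroup.mem_zpowers x)))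
  have : IsCyclic (G ⧸ M) := by
    refine ⟨⟨(x : G ⧸ M), fun q => ?_⟩⟩
    induction q using QuotientGroup.induction_on with
    | H g =>
      obtain ⟨m, hm, y, hy, rfl⟩ :=
        (Subgroup.mem_sup_of_normal_left).mp (show g ∈ M ⊔ Subgroup.zpowers x by simp [htop])
      obtain ⟨k, rfl⟩ := Subgroup.mem_zpowers_iff.mp hy
      exact ⟨k, by simp [(QuotientGroup.eq_one_iff m).mpr hm]⟩
  infer_instance

theorem commutator_le_frattini [Group.IsNilpotent G] : commutator G ≤ frattini G :=
  le_iInf₂ fun _ hM => commutator_le_coatom hM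

theorem eq_top_of_sup_commutator [Finite G] [Group.IsNilpotent G] {X : Subgroup G}
    (h : X ⊔ commutator G = ⊤) : X = ⊤ :=
  frattini_nongenerating (top_le_iff.mp (h ▸ sup_le_sup_left commutator_le_frattini X))

/-- In a nilpotent group, `L ≤ R ⊔ [L, G]` forces `L ≤ R` for normal `R`. -/
theorem le_of_le_sup_commutator [Group.IsNilpotent G] {L R : Subgroup G} [R.Normal]
    (h : L ≤ R ⊔ ⁅L, ⊤⁆) : L ≤ R := by
  obtain ⟨n, hn⟩ := Subgroup.nilpotent_iff_lowerCentralSeries.mp (inferInstance : Group.IsNilpotent G)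
  have key : ∀ i, L ≤ R ⊔ (⊤ : Subgroup G).lowerCentralSeries i := by
    intro i
    induction i with
    | zero => simp [Subgroup.lowerCentralSeries_zero]
    | succ i ih =>
      refine h.trans (sup_le le_sup_left ((Subgroup.commutator_le).mpr fun l hl g _ => ?_))
      obtain ⟨r, hr, c, hc, rfl⟩ := Subgroup.mem_sup_of_normal_left.mp (ih hl)
      have : ⁅r * c, g⁆ = (r * ⁅c, g⁆ * r⁻¹) * ⁅r, g⁆ := by
        simp only [commutatorElement_def]; group
      rw [this]
      refine mul_mem ?_ (Subgroup.mem_sup_left ?_)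
      · have h1 : ⁅c, g⁆ ∈ (⊤ : Subgroup G).lowerCentralSeries (i + 1) := by
          rw [Subgroup.lowerCentralSeries_succ]
          exact Subgroup.commutator_mem_commutator hc (Subgroup.mem_top g)
        exact Subgroup.mul_mem _ (Subgroup.mul_mem _ (Subgroup.mem_sup_left hr)
          (Subgroup.mem_sup_right h1)) (inv_mem (Subgroup.mem_sup_left hr))
      · rw [commutatorElement_def, mul_assoc, mul_assoc, ← mul_assoc g]
        exact mul_mem hr (Subgroup.Normal.conj_mem inferInstance _ (inv_mem hr) g)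
  exact (key n).trans (by rw [hn, sup_bot_eq])

/-- In a `p`-group every `p`-th power lies in the Frattini subgroup. -/
theorem pow_mem_frattini [Finite G] [hp : Fact p.Prime] (hG : IsPGroup p G) (x : G) :
    x ^ p ∈ frattini G := by
  have := hG.isNilpotent
  refine Subgroup.mem_iInf.mpr fun M => Subgroup.mem_iInf.mpr fun (hM : IsCoatom M) => ?_
  have hn : M.Normal := Subgroup.NormalizerCondition.normal_of_coatom M
    Group.normalizerCondition_of_isNilpotent hM
  by_contra hxp
  have hx : x ∉ M := fun h => hxp (pow_mem h p)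
  have htop : M ⊔ Subgroup.zpowers (x ^ p) = ⊤ :=
    hM.2 _ (lt_of_le_of_ne le_sup_left fun h => hxp (h ▸ Subgroup.mem_sup_right
      (Subgroup.mem_zpowers _)))
  obtain ⟨m, hm, y, hy, hxy⟩ :=
    (Subgroup.mem_sup_of_normal_left).mp (show x ∈ M ⊔ Subgroup.zpowers (x ^ p) by simp [htop])
  obtain ⟨k, rfl⟩ := Subgroup.mem_zpowers_iff.mp hy
  have h1 : (x : G ⧸ M) ^ (1 - (p : ℤ) * k) = 1 := by
    rw [← QuotientGroup.mk_zpow, QuotientGroup.eq_one_iff]
    convert hm using 1
    rw [zpow_sub, zpow_one, zpow_mul, zpow_natCast]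
    exact mul_inv_eq_iff_eq_mul.mpr hxy.symm
  refine hx ((QuotientGroup.eq_one_iff x).mp (orderOf_eq_one_iff.mp ?_))
  obtain ⟨j, hj⟩ := IsPGroup.iff_orderOf.mp (hG.to_quotient M) (x : G ⧸ M)
  rcases j with _ | j
  · simpa using hj
  · exfalso
    have h2 := orderOf_dvd_iff_zpow_eq_one.mpr h1
    rw [hj, pow_succ, Nat.cast_mul] at h2
    have h3 : (p : ℤ) ∣ 1 := by
      have h4 := dvd_add ((dvd_mul_left (p : ℤ) _).trans h2) (dvd_mul_right (p : ℤ) k)
      rwa [sub_add_cancel] at h4
    exact hp.out.ne_one (by exact_mod_cast Int.eq_one_of_dvd_one (Int.natCast_nonneg p) h3)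

/-- For `N` normal with elementary abelian quotient, the Frattini subgroup lies in `N`. -/
theorem frattini_le_of_quotient_elementary [hp : Fact p.Prime] (N : Subgroup G)
    (hc : commutator G ≤ N) (hpow : ∀ x : G, x ^ p ∈ N) [Finite G] : frattini G ≤ N := by
  intro y hy
  by_contra hyN
  obtain ⟨M, -, hM⟩ := Finite.exists_le_maximal (p := fun M : Subgroup G => N ≤ M ∧ y ∉ M) (a := N) ⟨le_rfl, hyN⟩
  have hn : M.Normal :=
    ⟨fun m hm g => by
      have : g * m * g⁻¹ = ⁅g, m⁆ * m := by simp only [commutatorElement_def]; group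
      rw [this]
      exact mul_mem (hM.prop.1 (hc (Subgroup.commutator_mem_commutator (Subgroup.mem_top g)
        (Subgroup.mem_top m)))) hm⟩
  refine hM.prop.2 (Subgroup.mem_iInf.mp (Subgroup.mem_iInf.mp hy M) ⟨fun h => hM.prop.2 (h ▸ Subgroup.mem_top y),
    fun L hL => ?_⟩)
  have hyL : y ∈ L := by
    by_contra hyL
    exact hL.not_ge (hM.le_of_ge ⟨hM.prop.1.trans hL.le, hyL⟩ hL.le)
  refine eq_top_iff.mpr fun g _ => ?_
  by_cases hg : g ∈ M
  · exact hL.le hg
  have hyg : y ∈ M ⊔ Subgroup.zpowers g := by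
    by_contra h
    exact hg ((hM.le_of_ge ⟨hM.prop.1.trans le_sup_left, h⟩ le_sup_left)
      (Subgroup.mem_sup_right (Subgroup.mem_zpowers g)))
  obtain ⟨m, hm, z, hz, hmz⟩ := Subgroup.mem_sup_of_normal_left.mp hyg
  obtain ⟨k, rfl⟩ := Subgroup.mem_zpowers_iff.mp hz
  have hk : ¬ (p : ℤ) ∣ k := fun ⟨c, hc'⟩ => hM.prop.2 (by
    rw [← hmz, hc', zpow_mul, zpow_natCast]
    exact mul_mem hm (zpow_mem (hM.prop.1 (hpow g)) c))
  have hab : k * Int.gcdA k p + (p : ℤ) * Int.gcdB k p = 1 := by
    rw [← Int.gcd_eq_gcd_ab, show Int.gcd k p = 1 from ?_]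
    · rfl
    · rw [Int.gcd_comm, Int.gcd, Int.natAbs_natCast]
      exact hp.out.coprime_iff_not_dvd.mpr fun h => hk (Int.natCast_dvd.mpr h)
  have hgk : g ^ k ∈ L := by
    rw [eq_inv_mul_of_mul_eq hmz]; exact mul_mem (inv_mem (hL.le hm)) hyL
  have e : g = (g ^ k) ^ Int.gcdA k p * (g ^ p) ^ Int.gcdB k p := by
    rw [← zpow_natCast g p, ← zpow_mul, ← zpow_mul, ← zpow_add, hab, zpow_one]
  rw [e]
  exact mul_mem (zpow_mem hgk _) (zpow_mem (hL.le (hM.prop.1 (hpow g))) _)

/-- The Frattini subgroup of a finite `p`-group is `G' G^p`. -/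
theorem frattini_eq_commutator_sup_pow [Finite G] [Fact p.Prime] (hG : IsPGroup p G) :
    frattini G = commutator G ⊔ Subgroup.closure (Set.range fun x : G => x ^ p) := by
  have := hG.isNilpotent
  refine le_antisymm (frattini_le_of_quotient_elementary _ le_sup_left fun x =>
    Subgroup.mem_sup_right (Subgroup.subset_closure ⟨x, rfl⟩)) (sup_le commutator_le_frattini ?_)
  rw [Subgroup.closure_le]
  rintro _ ⟨x, rfl⟩
  exact pow_mem_frattini hG x

/-- A non-trivial normal subgroup of a finite nilpotent group meets the centre non-trivially. -/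
theorem inf_center_ne_bot [Finite G] [Group.IsNilpotent G] {N : Subgroup G} [hn : N.Normal]
    (hN : N ≠ ⊥) : N ⊓ Subgroup.center G ≠ ⊥ := by
  intro h
  obtain ⟨M, hM, hmin⟩ := (Set.toFinite {M : Subgroup G | M.Normal ∧ M ≤ N ∧ M ≠ ⊥}).exists_minimal
    ⟨N, hn, le_rfl, hN⟩
  obtain ⟨hMn, hMN, hMb⟩ := hM
  have hcomm : ⁅M, (⊤ : Subgroup G)⁆ = ⊥ := by
    by_contra hne
    refine hMb (le_bot_iff.mp (le_of_le_sup_commutator (L := M) ?_))
    rw [bot_sup_eq]
    exact hmin ⟨inferInstance, (Subgroup.commutator_le_left _ _).trans hMN, hne⟩ (Subgroup.commutator_le_left _ _)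
  refine hMb (le_bot_iff.mp (h ▸ le_inf hMN fun m hm => Subgroup.mem_center_iff.mpr fun g => ?_))
  have := Subgroup.commutator_mem_commutator (H₂ := ⊤) hm (Subgroup.mem_top g)
  rw [hcomm, Subgroup.mem_bot, commutatorElement_eq_one_iff_mul_comm] at this
  exact this.symm

end CfsgLib.Transfer
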