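import Cfsg.Prelude.Def_Transfer
import Mathlib.GroupTheory.Index
import Mathlib.Data.Nat.Factorization.Basic
import Mathlib.GroupTheory.Abelianization.Defs

/-!
# The residual `O^p(G)` and normal p-complements

Basic API for `Cfsg.pResidual` and `Cfsg.HasNormalPComplement`.
-/

set_option autoImplicit false

namespace CfsgLib.Transfer

open Cfsg

universe u v

variable {G : Type u} [Group G] {H : Type v} [Group H] {p : ℕ}

theorem coprime_orderOf_iff [hp : Fact p.Prime] (g : G) :
    Nat.Coprime (orderOf g) p ↔ ¬ p ∣ orderOf g := by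
  rw [Nat.coprime_comm, hp.out.coprime_iff_not_dvd]

theorem mem_pResidual_of_coprime {g : G} (hg : Nat.Coprime (orderOf g) p) : g ∈ pResidual p G :=
  Subgroup.subset_closure hg

theorem map_pResidual_le (f : G →* H) : (pResidual p G).map f ≤ pResidual p H := by
  rw [pResidual, MonoidHom.map_closure, Subgroup.closure_le]
  rintro _ ⟨g, hg, rfl⟩
  exact Subgroup.subset_closure (Nat.Coprime.coprime_dvd_left (orderOf_map_dvd f g) hg)

theorem map_pResidual_equiv (e : G ≃* H) : (pResidual p G).map e.toMonoidHom = pResidual p H := by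
  refine le_antisymm (map_pResidual_le _) fun x hx => ?_
  have h := map_pResidual_le (p := p) e.symm.toMonoidHom (Subgroup.mem_map_of_mem _ hx)
  exact ⟨e.symm x, h, by simp⟩

instance pResidual_characteristic : (pResidual p G).Characteristic :=
  Subgroup.characteristic_iff_map_eq.mpr fun e => map_pResidual_equiv e

instance pResidual_normal : (pResidual p G).Normal :=
  Subgroup.normal_of_characteristic _

/-- `g ^ p ^ k` has order prime to `p` for a suitable `k`. -/
theorem exists_pow_coprime_orderOf [Finite G] [hp : Fact p.Prime] (g : G) :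
    ∃ k : ℕ, Nat.Coprime (orderOf (g ^ p ^ k)) p := by
  refine ⟨(orderOf g).factorization p, ?_⟩
  rw [orderOf_pow_of_dvd (pow_ne_zero _ hp.out.ne_zero) (Nat.ordProj_dvd _ _)]
  exact (Nat.coprime_ordCompl hp.out (orderOf_pos g).ne').symm

theorem isPGroup_quotient_pResidual [Finite G] [Fact p.Prime] :
    IsPGroup p (G ⧸ pResidual p G) := by
  refine isPGroup_iff_pow_pow_eq_one.mpr fun x => ?_
  induction x using QuotientGroup.induction_on with
  | H g =>
    obtain ⟨k, hk⟩ := exists_pow_coprime_orderOf (p := p) g
    refine ⟨k, ?_⟩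
    rw [← QuotientGroup.mk_pow, QuotientGroup.eq_one_iff]
    exact mem_pResidual_of_coprime hk

theorem index_pResidual_eq_pow [Finite G] [Fact p.Prime] :
    ∃ k : ℕ, (pResidual p G).index = p ^ k :=
  IsPGroup.exists_card_eq isPGroup_quotient_pResidual

theorem pResidual_le_ker_of_isPGroup (hH : IsPGroup p H) (f : G →* H) [hp : Fact p.Prime] :
    pResidual p G ≤ f.ker := by
  rw [pResidual, Subgroup.closure_le]
  intro g hg
  by_contra hne
  have h1 : p ∣ orderOf (f g) := hH.dvd_orderOf hne
  exact hp.out.ne_one (Nat.dvd_one.mp (hg ▸ Nat.dvd_gcd (h1.trans (orderOf_map_dvd f g)) dvd_rfl))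

theorem pResidual_le_of_isPGroup_quotient (N : Subgroup G) [N.Normal] [Fact p.Prime]
    (hN : IsPGroup p (G ⧸ N)) : pResidual p G ≤ N := by
  have := pResidual_le_ker_of_isPGroup hN (QuotientGroup.mk' N)
  rwa [QuotientGroup.ker_mk'] at this

theorem pResidual_le_of_index_eq_pow (N : Subgroup G) [N.Normal] [Fact p.Prime] {k : ℕ}
    (hN : N.index = p ^ k) : pResidual p G ≤ N :=
  pResidual_le_of_isPGroup_quotient N (IsPGroup.of_card hN)

/-- A normal subgroup whose index is prime to `p` ... contains every `p`-element; dually, a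
normal subgroup with `p`-power index contains every `p'`-element. -/
theorem mem_of_coprime_of_index_eq_pow (N : Subgroup G) [N.Normal] [Fact p.Prime] {k : ℕ}
    (hN : N.index = p ^ k) {g : G} (hg : Nat.Coprime (orderOf g) p) : g ∈ N :=
  pResidual_le_of_index_eq_pow N hN (mem_pResidual_of_coprime hg)

/-- Under a surjection `O^p` maps onto `O^p`. -/
theorem map_pResidual_of_surjective [Finite G] [Fact p.Prime] (f : G →* H)
    (hf : Function.Surjective f) : (pResidual p G).map f = pResidual p H := by
  refine le_antisymm (map_pResidual_le f) ?_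
  have : ((pResidual p G).map f).Normal := Subgroup.Normal.map inferInstance f hf
  refine pResidual_le_of_isPGroup_quotient _ (isPGroup_iff_pow_pow_eq_one.mpr fun x => ?_)
  induction x using QuotientGroup.induction_on with
  | H h =>
    obtain ⟨g, rfl⟩ := hf h
    obtain ⟨k, hk⟩ := exists_pow_coprime_orderOf (p := p) g
    refine ⟨k, ?_⟩
    rw [← QuotientGroup.mk_pow, QuotientGroup.eq_one_iff, ← map_pow]
    exact Subgroup.mem_map_of_mem f (mem_pResidual_of_coprime hk)

/-- `O^p` of a subgroup, inside the group, is generated by the `p'`-elements of the subgroup. -/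
theorem map_subtype_pResidual (K : Subgroup G) :
    (pResidual p K).map K.subtype =
      Subgroup.closure {g : G | g ∈ K ∧ Nat.Coprime (orderOf g) p} := by
  rw [pResidual, MonoidHom.map_closure]
  congr 1
  ext g
  constructor
  · rintro ⟨x, hx, rfl⟩
    refine ⟨x.2, ?_⟩
    simp only [Set.mem_setOf_eq, Subgroup.subtype_apply] at hx ⊢
    rwa [Subgroup.orderOf_coe]
  · rintro ⟨hgK, hg⟩
    refine ⟨⟨g, hgK⟩, ?_, rfl⟩
    simp only [Set.mem_setOf_eq]
    rwa [← Subgroup.orderOf_coe]

theorem map_subtype_pResidual_le (K : Subgroup G) :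
    (pResidual p K).map K.subtype ≤ pResidual p G :=
  map_pResidual_le _

theorem map_subtype_pResidual_mono {K L : Subgroup G} (h : K ≤ L) :
    (pResidual p K).map K.subtype ≤ (pResidual p L).map L.subtype := by
  rw [map_subtype_pResidual, map_subtype_pResidual]
  exact Subgroup.closure_mono fun g hg => ⟨h hg.1, hg.2⟩

/-- A subgroup containing all `p'`-elements has the same residual. -/
theorem map_subtype_pResidual_of_le (K : Subgroup G) (h : pResidual p G ≤ K) :
    (pResidual p K).map K.subtype = pResidual p G := by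
  refine le_antisymm (map_subtype_pResidual_le K) ?_
  rw [map_subtype_pResidual]
  exact Subgroup.closure_mono fun g hg => ⟨h (mem_pResidual_of_coprime hg), hg⟩

theorem pResidual_pResidual : pResidual p (pResidual p G) = ⊤ := by
  have h := map_subtype_pResidual_of_le (p := p) (pResidual p G) le_rfl
  refine eq_top_iff.mpr fun x _ => ?_
  have hx : (x : G) ∈ (pResidual p (pResidual p G)).map (pResidual p G).subtype := by
    rw [h]; exact x.2
  obtain ⟨y, hy, hyx⟩ := hx
  exact (Subtype.ext hyx : y = x) ▸ hy

/-- A Sylow `p`-subgroup together with `O^p(G)` generates `G`. -/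
theorem sylow_sup_pResidual [Finite G] [hp : Fact p.Prime] (P : Sylow p G) :
    (P : Subgroup G) ⊔ pResidual p G = ⊤ := by
  obtain ⟨k, hk⟩ := index_pResidual_eq_pow (G := G) (p := p)
  rw [← Subgroup.index_eq_one]
  have h2 : ((P : Subgroup G) ⊔ pResidual p G).index ∣ p ^ k := by
    rw [← hk]; exact Subgroup.index_dvd_of_le le_sup_right
  have hcop : Nat.Coprime (P : Subgroup G).index (p ^ k) :=
    (((hp.out.coprime_iff_not_dvd).mpr P.not_dvd_index).symm).pow_right k
  exact Nat.eq_one_of_dvd_coprimes hcop (Subgroup.index_dvd_of_le le_sup_left) h2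

theorem pResidual_sup_of_sylow [Finite G] [Fact p.Prime] (P : Sylow p G) :
    pResidual p G ⊔ (P : Subgroup G) = ⊤ := by
  rw [sup_comm, sylow_sup_pResidual]

/-- `O^p(G) = ⊤` as soon as every hom to a `p`-group is trivial. -/
theorem pResidual_eq_top_iff_forall_normal [Finite G] [hp : Fact p.Prime] :
    pResidual p G = ⊤ ↔ ∀ N : Subgroup G, N.Normal → (∃ k, N.index = p ^ k) → N = ⊤ := by
  constructor
  · intro h N hN ⟨k, hk⟩
    exact top_le_iff.mp (h ▸ pResidual_le_of_index_eq_pow N hk)
  · exact fun h => h _ pResidual_normal index_pResidual_eq_pow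

/-! ### Normal p-complements -/

theorem isComplement'_pResidual_of_not_dvd [Finite G] [hp : Fact p.Prime]
    (h : ¬ p ∣ Nat.card (pResidual p G)) (P : Sylow p G) :
    (pResidual p G).IsComplement' (P : Subgroup G) := by
  refine Subgroup.isComplement'_of_disjoint_and_mul_eq_univ ?_ ?_
  · rw [disjoint_iff, ← Subgroup.card_eq_one]
    obtain ⟨k, hk⟩ := P.2.exists_card_eq
    have hcop : Nat.Coprime (Nat.card (pResidual p G)) (p ^ k) :=
      (hp.out.coprime_iff_not_dvd.mpr h).symm.pow_right k
    have h2 : Nat.card (pResidual p G ⊓ (P : Subgroup G) : Subgroup G) ∣ p ^ k := by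
      rw [← hk]; exact Subgroup.card_dvd_of_le inf_le_right
    exact Nat.eq_one_of_dvd_coprimes hcop (Subgroup.card_dvd_of_le inf_le_left) h2
  · rw [← Subgroup.normal_mul, pResidual_sup_of_sylow, Subgroup.coe_top]

theorem hasNormalPComplement_iff_not_dvd [Finite G] [hp : Fact p.Prime] :
    HasNormalPComplement p G ↔ ¬ p ∣ Nat.card (pResidual p G) := by
  constructor
  · rintro ⟨P, N, hN, hc⟩ hdvd
    obtain ⟨k, hk⟩ := P.2.exists_card_eq
    have hle : pResidual p G ≤ N :=
      pResidual_le_of_index_eq_pow N (k := k) (hc.symm.index_eq_card.trans hk)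
    refine P.not_dvd_index ?_
    rw [hc.index_eq_card]
    exact hdvd.trans (Subgroup.card_dvd_of_le hle)
  · intro h
    exact ⟨default, _, pResidual_normal, isComplement'_pResidual_of_not_dvd h _⟩

theorem HasNormalPComplement.isComplement' [Finite G] [Fact p.Prime]
    (h : HasNormalPComplement p G) (P : Sylow p G) :
    (pResidual p G).IsComplement' (P : Subgroup G) :=
  isComplement'_pResidual_of_not_dvd (hasNormalPComplement_iff_not_dvd.mp h) P

/-- The normal `p`-complement is unique: it is `O^p(G)`. -/
theorem eq_pResidual_of_isComplement' [Finite G] [hp : Fact p.Prime] (P : Sylow p G)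
    (N : Subgroup G) [N.Normal] (hc : N.IsComplement' (P : Subgroup G)) : N = pResidual p G := by
  obtain ⟨k, hk⟩ := P.2.exists_card_eq
  refine le_antisymm (fun x hx => mem_pResidual_of_coprime ?_)
    (pResidual_le_of_index_eq_pow N (k := k) (hc.symm.index_eq_card.trans hk))
  refine Nat.Coprime.coprime_dvd_left (Subgroup.orderOf_dvd_natCard N hx) ?_
  rw [← hc.index_eq_card, Nat.coprime_comm, hp.out.coprime_iff_not_dvd]
  exact P.not_dvd_index

theorem mem_pResidual_iff_of_hasNormalPComplement [Finite G] [hp : Fact p.Prime]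
    (h : HasNormalPComplement p G) (x : G) :
    x ∈ pResidual p G ↔ Nat.Coprime (orderOf x) p := by
  refine ⟨fun hx => ?_, mem_pResidual_of_coprime⟩
  refine Nat.Coprime.coprime_dvd_left (Subgroup.orderOf_dvd_natCard _ hx) ?_
  rw [Nat.coprime_comm, hp.out.coprime_iff_not_dvd]
  exact hasNormalPComplement_iff_not_dvd.mp h

/-- Criterion: a normal `p'`-subgroup with `p`-power index. -/
theorem hasNormalPComplement_of_normal [Finite G] [hp : Fact p.Prime] (N : Subgroup G) [N.Normal]
    (hN : ¬ p ∣ Nat.card N) {k : ℕ} (hk : N.index = p ^ k) : HasNormalPComplement p G :=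
  hasNormalPComplement_iff_not_dvd.mpr fun h =>
    hN (h.trans (Subgroup.card_dvd_of_le (pResidual_le_of_index_eq_pow N hk)))

theorem hasNormalPComplement_iff_exists_normal [Finite G] [hp : Fact p.Prime] :
    HasNormalPComplement p G ↔
      ∃ N : Subgroup G, N.Normal ∧ ¬ p ∣ Nat.card N ∧ ∃ k, N.index = p ^ k := by
  refine ⟨fun h => ⟨_, pResidual_normal, hasNormalPComplement_iff_not_dvd.mp h,
    index_pResidual_eq_pow⟩, ?_⟩
  rintro ⟨N, hN, hd, k, hk⟩
  exact hasNormalPComplement_of_normal N hd hk

/-- The form with a given Sylow subgroup. -/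
theorem exists_normal_isComplement'_iff [Finite G] [Fact p.Prime] (P : Sylow p G) :
    (∃ N : Subgroup G, N.Normal ∧ N.IsComplement' (P : Subgroup G)) ↔
      HasNormalPComplement p G :=
  ⟨fun ⟨N, hN, hc⟩ => ⟨P, N, hN, hc⟩,
    fun h => ⟨_, pResidual_normal, HasNormalPComplement.isComplement' h P⟩⟩

theorem hasNormalPComplement_of_injective [Finite G] [Fact p.Prime] (f : H →* G)
    (hf : Function.Injective f) (h : HasNormalPComplement p G) : HasNormalPComplement p H := by
  have : Finite H := Finite.of_injective f hf
  rw [hasNormalPComplement_iff_not_dvd] at h ⊢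
  refine fun hd => h (hd.trans ?_)
  rw [← Subgroup.card_map_of_injective (f := f) hf]
  exact Subgroup.card_dvd_of_le (map_pResidual_le f)

theorem hasNormalPComplement_subgroup [Finite G] [Fact p.Prime] (h : HasNormalPComplement p G)
    (K : Subgroup G) : HasNormalPComplement p K :=
  hasNormalPComplement_of_injective K.subtype K.subtype_injective h

theorem hasNormalPComplement_of_le [Finite G] [Fact p.Prime] {K L : Subgroup G} (hle : K ≤ L)
    (h : HasNormalPComplement p L) : HasNormalPComplement p K :=
  hasNormalPComplement_of_injective (Subgroup.inclusion hle) (Subgroup.inclusion_injective hle) h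

theorem hasNormalPComplement_of_surjective [Finite G] [Fact p.Prime] (f : G →* H)
    (hf : Function.Surjective f) (h : HasNormalPComplement p G) : HasNormalPComplement p H := by
  have : Finite H := Finite.of_surjective f hf
  rw [hasNormalPComplement_iff_not_dvd] at h ⊢
  refine fun hd => h (hd.trans ?_)
  rw [← map_pResidual_of_surjective f hf]
  exact Subgroup.card_map_dvd _ f

theorem hasNormalPComplement_quotient [Finite G] [Fact p.Prime] (N : Subgroup G) [N.Normal]
    (h : HasNormalPComplement p G) : HasNormalPComplement p (G ⧸ N) :=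
  hasNormalPComplement_of_surjective _ (QuotientGroup.mk'_surjective N) h

theorem hasNormalPComplement_congr [Finite G] [Fact p.Prime] (e : G ≃* H) :
    HasNormalPComplement p G ↔ HasNormalPComplement p H := by
  have : Finite H := Finite.of_equiv G e.toEquiv
  exact ⟨hasNormalPComplement_of_surjective e.toMonoidHom e.surjective,
    hasNormalPComplement_of_surjective e.symm.toMonoidHom e.symm.surjective⟩

theorem hasNormalPComplement_of_not_dvd [Finite G] [Fact p.Prime] (h : ¬ p ∣ Nat.card G) :
    HasNormalPComplement p G :=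
  hasNormalPComplement_iff_not_dvd.mpr fun hd => h (hd.trans (Subgroup.card_subgroup_dvd_card _))

theorem hasNormalPComplement_of_isPGroup [Finite G] [hp : Fact p.Prime] (h : IsPGroup p G) :
    HasNormalPComplement p G := by
  refine hasNormalPComplement_iff_not_dvd.mpr ?_
  have hle : pResidual p G ≤ (MonoidHom.id G).ker := pResidual_le_ker_of_isPGroup h _
  rw [show pResidual p G = ⊥ from le_bot_iff.mp (hle.trans (by simp)), Subgroup.card_bot]
  exact hp.out.not_dvd_one

/-- Transitivity: a normal `p'`-subgroup may be factored out. -/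
theorem hasNormalPComplement_of_quotient [Finite G] [hp : Fact p.Prime] (N : Subgroup G) [N.Normal]
    (hN : ¬ p ∣ Nat.card N) (h : HasNormalPComplement p (G ⧸ N)) : HasNormalPComplement p G := by
  obtain ⟨M, hM, hd, k, hk⟩ := hasNormalPComplement_iff_exists_normal.mp h
  refine hasNormalPComplement_of_normal (M.comap (QuotientGroup.mk' N)) ?_ (k := k) ?_
  · intro hdvd
    have h1 : Nat.card (M.comap (QuotientGroup.mk' N)) = Nat.card N * Nat.card M := by
      have := Subgroup.index_comap_of_surjective M (QuotientGroup.mk'_surjective N)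
      have e1 := Subgroup.card_mul_index (M.comap (QuotientGroup.mk' N))
      have e2 := Subgroup.card_mul_index M
      have e3 := Subgroup.card_mul_index N
      have e4 : N.index = Nat.card (G ⧸ N) := rfl
      rw [this] at e1
      rw [e4, ← e2, ← mul_assoc, ← e1] at e3
      exact (Nat.eq_of_mul_eq_mul_right (Nat.pos_of_ne_zero Subgroup.index_ne_zero_of_finite) e3).symm
    rw [h1] at hdvd
    exact (hp.out.dvd_mul.mp hdvd).elim hN hd
  · rw [Subgroup.index_comap_of_surjective M (QuotientGroup.mk'_surjective N), hk]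

end CfsgLib.Transfer
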