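import Cfsg.Agent.Lib.Transfer.Focal

/-!
# Abelian and cyclic Sylow subgroups
-/

set_option autoImplicit false

namespace CfsgLib.Transfer

open Cfsg
open scoped commutatorElement

universe u

variable {G : Type u} [Group G] {p : ℕ}

/-- For abelian `P` with normalizer `N`: `P = [P, N] · C_P(N)`. -/
theorem abelian_sylow_sup [Finite G] [Fact p.Prime] (P : Sylow p G)
    (hP : IsMulCommutative (P : Subgroup G)) :
    ⁅(P : Subgroup G), Subgroup.normalizer (P : Set G)⁆ ⊔
      ((P : Subgroup G) ⊓ Subgroup.centralizer (Subgroup.normalizer (P : Set G) : Set G)) = P :=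
  abelian_normalized_eq_sup_centralizer Subgroup.le_normalizer le_rfl
    (P.card_coprime_index.coprime_dvd_right (Subgroup.relIndex_dvd_index_of_le Subgroup.le_normalizer))

theorem abelian_sylow_focal_eq [Finite G] [Fact p.Prime] (P : Sylow p G)
    (hP : IsMulCommutative (P : Subgroup G)) :
    (P : Subgroup G).focalSubgroup = ⁅(P : Subgroup G), Subgroup.normalizer (P : Set G)⁆ := by
  refine le_antisymm (focalSubgroup_le_of_controls fun x hx g hy => ?_) ?_
  · exact burnside_fusion_central P (P.1.le_centralizer hx) (P.1.le_centralizer hy) rfl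
  · rw [← Subgroup.commutator_inf_eq_focalSubgroup P]
    exact le_inf ((Subgroup.commutator_mono le_top le_top).trans_eq (commutator_def G).symm)
      (Subgroup.le_normalizer_iff_commutator_le_left.mp le_rfl)

/-- `C_P(N_G(P))` meets `G'` trivially when `P` is abelian. -/
theorem abelian_sylow_centralPart_inf_commutator [Finite G] [Fact p.Prime] (P : Sylow p G)
    (hP : IsMulCommutative (P : Subgroup G)) {z : G} (hz : z ∈ (P : Subgroup G))
    (hzN : z ∈ Subgroup.centralizer (Subgroup.normalizer (P : Set G) : Set G))
    (hzG : z ∈ commutator G) : z = 1 := by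
  have hzF : z ∈ ⁅(P : Subgroup G), Subgroup.normalizer (P : Set G)⁆ := by
    rw [← abelian_sylow_focal_eq P hP, ← Subgroup.commutator_inf_eq_focalSubgroup P]
    exact ⟨hzG, hz⟩
  let N := Subgroup.normalizer ((P : Subgroup G) : Set G)
  have hz' : (⟨z, Subgroup.le_normalizer hz⟩ : N) ∈
      Subgroup.center N ⊓ commutator N ⊓ (P : Subgroup G).subgroupOf N := by
    refine ⟨⟨Subgroup.mem_center_iff.mpr fun n =>
      Subtype.ext (Subgroup.mem_centralizer_iff.mp hzN n n.2), ?_⟩, hz⟩
    have h1 := Subgroup.commutator_mono (Subgroup.le_normalizer (H := (P : Subgroup G))) (le_refl N) hzF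
    rw [← N.map_subtype_commutator] at h1
    obtain ⟨w, hw, hwz⟩ := h1
    rwa [← Subtype.ext (a2 := (⟨z, Subgroup.le_normalizer hz⟩ : N)) hwz]
  have hc : IsMulCommutative ((P : Subgroup G).subgroupOf N) :=
    ⟨⟨fun a b => Subtype.ext (Subtype.ext (congrArg (Subtype.val (p := fun g : G => g ∈ (P : Subgroup G)))
      (mul_comm' (⟨((a : N) : G), a.2⟩ : (P : Subgroup G)) ⟨((b : N) : G), b.2⟩)))⟩⟩
  have h2 := center_inf_commutator_inf_le (coprime_card_index_sylow (P.subtype (N := N) Subgroup.le_normalizer)) hz'
  rw [show ((P.subtype (N := N) Subgroup.le_normalizer : Sylow p N) : Subgroup N) =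
    (P : Subgroup G).subgroupOf N from rfl, Subgroup.commutator_self_eq_bot_iff.mpr hc,
    Subgroup.mem_bot] at h2
  exact congrArg Subtype.val h2

/-- `P / P* ≅ C_P(N_G(P))` for abelian `P`. -/
noncomputable def quotientFocalEquivCentralPart [Finite G] [Fact p.Prime] (P : Sylow p G)
    (hP : IsMulCommutative (P : Subgroup G)) :
    (P : Subgroup G) ⧸ (P : Subgroup G).focalSubgroupOf ≃*
      ((P : Subgroup G) ⊓ Subgroup.centralizer (Subgroup.normalizer (P : Set G) : Set G) :
        Subgroup G) :=
  let f : ((P : Subgroup G) ⊓ Subgroup.centralizer (Subgroup.normalizer (P : Set G) : Set G) :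
      Subgroup G) →* (P : Subgroup G) ⧸ (P : Subgroup G).focalSubgroupOf :=
    (QuotientGroup.mk' _).comp (Subgroup.inclusion inf_le_left)
  (MulEquiv.ofBijective f (by
    constructor
    · refine (injective_iff_map_eq_one f).mpr fun c hc => ?_
      have h1 := (QuotientGroup.eq_one_iff _).mp hc
      exact Subtype.ext (abelian_sylow_centralPart_inf_commutator P hP c.2.1 c.2.2
        ((P : Subgroup G).focalSubgroup_le_commutator h1))
    · intro x
      induction x using QuotientGroup.induction_on with
      | H x =>
        have hx := x.2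
        rw [show (x : G) ∈ (P : Subgroup G) ↔ (x : G) ∈
          ((P : Subgroup G) ⊓ Subgroup.centralizer (Subgroup.normalizer (P : Set G) : Set G)) ⊔
          ⁅(P : Subgroup G), Subgroup.normalizer (P : Set G)⁆ by rw [sup_comm, abelian_sylow_sup P hP]] at hx
        have hn : (Subgroup.normalizer ((P : Subgroup G) : Set G)) ≤
            Subgroup.normalizer ((⁅(P : Subgroup G), Subgroup.normalizer (P : Set G)⁆ : Subgroup G) : Set G) :=
          fun n hn => by
            rw [Subgroup.mem_normalizer_iff_map_conj_eq, Subgroup.map_commutator,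
              Subgroup.mem_normalizer_iff_map_conj_eq.mp hn,
              Subgroup.mem_normalizer_iff_map_conj_eq.mp
                (Subgroup.le_normalizer (H := Subgroup.normalizer (P : Set G)) hn)]
        rw [← SetLike.mem_coe, Subgroup.coe_mul_of_left_le_normalizer_right _ _
          ((inf_le_left.trans Subgroup.le_normalizer).trans hn)] at hx
        obtain ⟨c, hc, d, hd, hcd⟩ := hx
        refine ⟨⟨c, hc⟩, QuotientGroup.eq.mpr ?_⟩
        rw [Subgroup.focalSubgroupOf_def, Subgroup.mem_subgroupOf, abelian_sylow_focal_eq P hP]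
        have e : c⁻¹ * (x : G) = d := by rw [← hcd]; exact inv_mul_cancel_left c d
        simpa [e] using hd)).symm

/-- With a cyclic Sylow `p`-subgroup there is a normal `p`-complement or no `p`-quotient. -/
theorem cyclic_sylow_dichotomy [Finite G] [hp : Fact p.Prime] (P : Sylow p G)
    (hP : IsCyclic (P : Subgroup G)) : HasNormalPComplement p G ∨ pResidual p G = ⊤ := by
  have hPc : IsMulCommutative (P : Subgroup G) := inferInstance
  let A := ⁅(P : Subgroup G), Subgroup.normalizer (P : Set G)⁆
  let C := (P : Subgroup G) ⊓ Subgroup.centralizer (Subgroup.normalizer (P : Set G) : Set G)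
  have hAP : A ≤ (P : Subgroup G) := Subgroup.le_normalizer_iff_commutator_le_left.mp le_rfl
  by_cases hA : A = ⊥
  · left
    have hCP : (P : Subgroup G) ≤ C := by
      have := abelian_sylow_sup P hPc
      rw [show ⁅(P : Subgroup G), Subgroup.normalizer (P : Set G)⁆ = ⊥ from hA, bot_sup_eq] at this
      exact this.ge
    refine ⟨P, _, inferInstance, MonoidHom.ker_transferSylow_isComplement' P fun n hn => ?_⟩
    refine Subgroup.mem_centralizer_iff.mpr fun x hx => ?_
    exact (Subgroup.mem_centralizer_iff.mp (hCP hx).2 n hn).symm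
  · right
    have hC : C = ⊥ := by
      by_contra hC
      obtain ⟨a, ha⟩ := exists_prime_orderOf_dvd_card' (G := A) p
        (((P.2.to_le hAP).card_eq_or_dvd).resolve_left (fun h => hA (Subgroup.card_eq_one.mp h)))
      obtain ⟨c, hc⟩ := exists_prime_orderOf_dvd_card' (G := C) p
        (((P.2.to_le inf_le_left).card_eq_or_dvd).resolve_left (fun h => hC (Subgroup.card_eq_one.mp h)))
      let a' : (P : Subgroup G) := ⟨a, hAP a.2⟩
      let c' : (P : Subgroup G) := ⟨c, c.2.1⟩
      open scoped IsMulCommutative in
      have h1 : Subgroup.zpowers a' = Subgroup.zpowers c' := by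
        have key : ∀ x : (P : Subgroup G), orderOf x = p →
            Subgroup.zpowers x = (powMonoidHom p : (P : Subgroup G) →* (P : Subgroup G)).ker := by
          intro x hx
          refine Subgroup.eq_of_le_of_card_ge ?_ ?_
          · rw [Subgroup.zpowers_le, MonoidHom.mem_ker, powMonoidHom_apply]
            have h5 := pow_orderOf_eq_one x
            rwa [hx] at h5
          · rw [IsCyclic.card_powMonoidHom_ker, Nat.card_zpowers, hx]
            exact Nat.gcd_le_right _ hp.out.pos
        rw [key a', key c'] <;> rw [Subgroup.orderOf_mk, Subgroup.orderOf_coe] <;> assumption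
      obtain ⟨k, hk⟩ := Subgroup.mem_zpowers_iff.mp (h1 ▸ Subgroup.mem_zpowers c' :
        c' ∈ Subgroup.zpowers a')
      have hcA : (c : G) ∈ A := by
        have := congrArg Subtype.val hk
        simp only [SubgroupClass.coe_zpow, a', c'] at this
        rw [← this]; exact zpow_mem a.2 k
      have h2 := abelian_sylow_centralPart_inf_commutator P hPc c.2.1 c.2.2
        ((Subgroup.commutator_mono le_top le_top).trans_eq (commutator_def G).symm hcA)
      rw [← Subgroup.orderOf_coe, h2, orderOf_one] at hc
      exact hp.out.ne_one hc.symm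
    have hle : (P : Subgroup G) ≤ pResidual p G := by
      have := abelian_sylow_sup P hPc
      rw [show ((P : Subgroup G) ⊓ Subgroup.centralizer (Subgroup.normalizer (P : Set G) : Set G)) = ⊥
        from hC, sup_bot_eq] at this
      rw [← this]
      exact ((Subgroup.commutator_mono le_top le_top).trans_eq (commutator_def G).symm).trans
        (commutator_le_pResidual P hPc)
    exact top_le_iff.mp ((sylow_sup_pResidual P).symm.le.trans (sup_le hle le_rfl))

end CfsgLib.Transfer
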