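import Cfsg.Agent.Lib.Transfer.Focal
import Cfsg.Agent.Lib.Transfer.PGroup

/-!
# Tate's theorem and Frobenius' normal p-complement theorem
-/

set_option autoImplicit false

namespace CfsgLib.Transfer

open Cfsg
open scoped commutatorElement Pointwise

universe u v w

variable {G : Type u} [Group G] {p : ℕ}

/-- A lift along a central extension that exists on a subgroup of index prime to the kernel exists
on the whole group. -/
theorem exists_lift_of_central [Finite G] {A : Type v} {B : Type w} [Group A] [Group B] [Finite A]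
    (π : A →* B) (hπ : Function.Surjective π) (hc : π.ker ≤ Subgroup.center A) (φ : G →* B)
    (H : Subgroup G) (ψ : H →* A) (hψ : ∀ h : H, π (ψ h) = φ h)
    (hcop : Nat.Coprime H.index (Nat.card π.ker)) : ∃ θ : G →* A, ∀ g, π (θ g) = φ g := by
  let : CommGroup π.ker :=
    { (inferInstance : Group π.ker) with
      mul_comm := fun a b => Subtype.ext (Subgroup.mem_center_iff.mp (hc b.2) a) }
  let E : Subgroup (G × A) :=
    { carrier := {x | φ x.1 = π x.2}
      one_mem' := by simp
      mul_mem' := fun {a b} ha hb => by simp only [Set.mem_setOf_eq] at ha hb ⊢; simp [ha, hb]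
      inv_mem' := fun {a} ha => by simp only [Set.mem_setOf_eq] at ha ⊢; simp [ha] }
  let pr : E →* G := (MonoidHom.fst G A).comp E.subtype
  have hpr : Function.Surjective pr := fun g => by
    obtain ⟨a, ha⟩ := hπ (φ g)
    exact ⟨⟨(g, a), ha.symm⟩, rfl⟩
  let Hl : Subgroup E := H.comap pr
  let sh : Hl → A := fun e => (ψ ⟨(e : E).1.1, e.2⟩)⁻¹ * (e : E).1.2
  have hsh : ∀ e, sh e ∈ π.ker := fun e => by
    rw [MonoidHom.mem_ker, map_mul, map_inv, hψ,
      show φ (e : E).1.1 = π (e : E).1.2 from (e : E).2, inv_mul_cancel]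
  let lam : Hl →* π.ker :=
    MonoidHom.mk' (fun e => ⟨sh e, hsh e⟩) fun a b => by
      refine Subtype.ext ?_
      change sh (a * b) = sh a * sh b
      have e1 : ψ ⟨((a * b : Hl) : E).1.1, (a * b).2⟩ =
          ψ ⟨(a : E).1.1, a.2⟩ * ψ ⟨(b : E).1.1, b.2⟩ := by
        rw [← map_mul]; rfl
      have e2 : ((a * b : Hl) : E).1.2 = (a : E).1.2 * (b : E).1.2 := rfl
      have e3 := Subgroup.mem_center_iff.mp (hc (hsh a)) (ψ ⟨(b : E).1.1, b.2⟩)⁻¹
      simp only [sh, e1, e2, mul_inv_rev]
      simp only [sh] at e3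
      rw [← mul_assoc, mul_assoc (ψ ⟨(b : E).1.1, b.2⟩)⁻¹, e3]
      simp [mul_assoc]
  have hidx : Hl.index = H.index := Subgroup.index_comap_of_surjective H hpr
  let τ : E →* π.ker := MonoidHom.transfer lam
  let emb : π.ker → E := fun c => ⟨(1, c.1), (map_one φ).trans c.2.symm⟩
  have hτ : ∀ c : π.ker, τ (emb c) = c ^ H.index := by
    intro c
    have key : ∀ (k : ℕ) (g₀ : E), g₀⁻¹ * emb c ^ k * g₀ ∈ Hl →
        g₀⁻¹ * emb c ^ k * g₀ = emb c ^ k := by
      intro k g₀ _
      refine Subtype.ext (Prod.ext ?_ ?_)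
      · simp [emb]
      · have := Subgroup.mem_center_iff.mp (pow_mem (hc c.2) k) g₀.1.2
        simp [emb, mul_assoc, ← this]
    refine (MonoidHom.transfer_eq_pow lam (emb c) key).trans (Subtype.ext ?_)
    change (ψ ⟨((emb c) ^ Hl.index).1.1, _⟩)⁻¹ * ((emb c) ^ Hl.index).1.2 = _
    have e1 : (⟨((emb c) ^ Hl.index).1.1, MonoidHom.transfer_eq_pow_aux _ key⟩ : H) = 1 :=
      Subtype.ext (by simp [emb])
    rw [e1, map_one]
    simp [emb, hidx]
  let pr' : τ.ker →* G := pr.comp τ.ker.subtype
  have hbij : Function.Bijective pr' := by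
    constructor
    · refine (injective_iff_map_eq_one pr').mpr fun e he => ?_
      have he1 : (e : E).1.1 = 1 := he
      have he2 : (e : E).1.2 ∈ π.ker := by
        rw [MonoidHom.mem_ker, ← show φ (e : E).1.1 = π (e : E).1.2 from (e : E).2, he1, map_one]
      have h1 : (e : E) = emb ⟨_, he2⟩ := Subtype.ext (Prod.ext he1 rfl)
      have h2 : (⟨_, he2⟩ : π.ker) ^ H.index = 1 := by
        rw [← hτ, ← h1]; exact e.2
      have h3 : (⟨_, he2⟩ : π.ker) = 1 :=
        (powCoprime hcop.symm).injective (by simpa using h2)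
      refine Subtype.ext (Subtype.ext (Prod.ext he1 ?_))
      exact congrArg Subtype.val h3
    · intro g
      obtain ⟨e, he⟩ := hpr g
      obtain ⟨c, hcc⟩ := (powCoprime (G := π.ker) hcop.symm).surjective (τ e)
      replace hcc : c ^ H.index = τ e := hcc
      refine ⟨⟨e * emb c⁻¹, ?_⟩, ?_⟩
      · rw [MonoidHom.mem_ker, map_mul, hτ, inv_pow, hcc, mul_inv_cancel]
      · change e.1.1 * 1 = g
        rw [mul_one]; exact he
  let inv := (MulEquiv.ofBijective pr' hbij).symm.toMonoidHom
  refine ⟨(MonoidHom.snd G A).comp (E.subtype.comp (τ.ker.subtype.comp inv)), fun g => ?_⟩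
  have h1 : φ (inv g : E).1.1 = π (inv g : E).1.2 := (inv g : E).2
  have h2 : (inv g : E).1.1 = g := (MulEquiv.ofBijective pr' hbij).apply_symm_apply g
  rw [h2] at h1
  exact h1.symm

/-- **Tate's theorem**, core form. `H` contains a Sylow `p`-subgroup, and `O^p(G) ∩ H` is
negligible above `O^p(H)`. -/
theorem tate_core [Finite G] [Fact p.Prime] (P : Sylow p G) (H : Subgroup G)
    (hPH : (P : Subgroup G) ≤ H)
    (hX : ∀ X : Subgroup H, pResidual p H ≤ X → X ⊔ (pResidual p G).subgroupOf H = ⊤ → X = ⊤) :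
    (pResidual p G).subgroupOf H = pResidual p H := by
  let L := (pResidual p G).subgroupOf H
  have hle : pResidual p H ≤ L := Subgroup.map_le_iff_le_comap.mp (map_subtype_pResidual_le H)
  refine le_antisymm ?_ hle
  let M := pResidual p H ⊔ ⁅L, (⊤ : Subgroup H)⁆
  have hML : M ≤ L := sup_le hle (Subgroup.commutator_le_left L ⊤)
  let π : H ⧸ M →* G ⧸ pResidual p G :=
    QuotientGroup.map M (pResidual p G) H.subtype hML
  have hπ : Function.Surjective π := by
    intro x
    induction x using QuotientGroup.induction_on with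
    | H g =>
      obtain ⟨k, hk, y, hy, rfl⟩ := Subgroup.mem_sup_of_normal_left.mp
        (show g ∈ pResidual p G ⊔ (P : Subgroup G) by simp [pResidual_sup_of_sylow])
      refine ⟨((⟨y, hPH hy⟩ : H) : H ⧸ M), ?_⟩
      refine (QuotientGroup.map_mk ..).trans ?_
      simp [(QuotientGroup.eq_one_iff k).mpr hk]
  have hkerL : ∀ h : H, π (h : H ⧸ M) = 1 ↔ h ∈ L := fun h => by
    change ((h : G) : G ⧸ pResidual p G) = 1 ↔ _
    exact QuotientGroup.eq_one_iff _
  have hc : π.ker ≤ Subgroup.center (H ⧸ M) := by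
    intro a ha
    induction a using QuotientGroup.induction_on with
    | H h =>
      refine Subgroup.mem_center_iff.mpr fun b => ?_
      induction b using QuotientGroup.induction_on with
      | H b =>
        rw [← QuotientGroup.mk_mul, ← QuotientGroup.mk_mul, QuotientGroup.eq]
        have h1 : ⁅h⁻¹, b⁻¹⁆ ∈ M := Subgroup.mem_sup_right (Subgroup.commutator_mem_commutator
          (inv_mem ((hkerL h).mp ha)) (Subgroup.mem_top _))
        simpa [commutatorElement_def, mul_assoc] using h1
  have hA : IsPGroup p (H ⧸ M) :=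
    IsPGroup.of_surjective isPGroup_quotient_pResidual
      (QuotientGroup.map (pResidual p H) M (MonoidHom.id H) le_sup_left)
      (fun x => by
        induction x using QuotientGroup.induction_on with
        | H h => exact ⟨h, rfl⟩)
  have hcop : Nat.Coprime H.index (Nat.card π.ker) := by
    obtain ⟨k, hk⟩ := (hA.to_subgroup π.ker).exists_card_eq
    rw [hk]
    exact (((Fact.out : p.Prime).coprime_iff_not_dvd.mpr
      fun h => P.not_dvd_index (h.trans (Subgroup.index_dvd_of_le hPH))).symm).pow_right k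
  obtain ⟨θ, hθ⟩ := exists_lift_of_central π hπ hc (QuotientGroup.mk' (pResidual p G)) H
    (QuotientGroup.mk' M) (fun h => rfl) hcop
  have hrange : θ.range = ⊤ := by
    refine Subgroup.comap_injective (QuotientGroup.mk'_surjective M) ?_
    rw [Subgroup.comap_top]
    refine hX _ ?_ ?_
    · intro h hh
      rw [Subgroup.mem_comap, QuotientGroup.mk'_apply,
        (QuotientGroup.eq_one_iff h).mpr (Subgroup.mem_sup_left hh)]
      exact one_mem _
    · refine eq_top_iff.mpr fun h _ => ?_
      obtain ⟨h', hh'⟩ := QuotientGroup.mk'_surjective M (θ h)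
      have e : h = h' * (h'⁻¹ * h) := by simp
      rw [e]
      refine mul_mem (Subgroup.mem_sup_left ⟨h, hh'.symm⟩) (Subgroup.mem_sup_right ?_)
      refine (hkerL _).mp ?_
      rw [QuotientGroup.mk_mul, QuotientGroup.mk_inv, map_mul, map_inv,
        show (h' : H ⧸ M) = θ h from hh', hθ]
      exact inv_mul_cancel _
  have hinj : Function.Injective π := by
    refine (Function.Surjective.bijective_of_nat_card_le hπ ?_).injective
    calc Nat.card (H ⧸ M) = Nat.card θ.range := by rw [hrange, Subgroup.card_top]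
      _ = θ.ker.index := (Subgroup.index_ker θ).symm
      _ ≤ (pResidual p G).index :=
        Nat.le_of_dvd (Nat.pos_of_ne_zero Subgroup.index_ne_zero_of_finite)
          (Subgroup.index_dvd_of_le (pResidual_le_ker_of_isPGroup hA θ))
  have hLM : L ≤ M := fun h hh => (QuotientGroup.eq_one_iff h).mp
    (hinj (((hkerL h).mpr hh).trans (map_one π).symm))
  let q := QuotientGroup.mk' (pResidual p H)
  have := (isPGroup_quotient_pResidual (G := H) (p := p)).isNilpotent
  have : (L.map q).Normal := Subgroup.Normal.map inferInstance q (QuotientGroup.mk'_surjective _)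
  have h1 : L.map q ≤ ⊥ ⊔ ⁅L.map q, ⊤⁆ := by
    refine (Subgroup.map_mono hLM).trans ?_
    rw [Subgroup.map_sup, Subgroup.map_commutator,
      Subgroup.map_top_of_surjective q (QuotientGroup.mk'_surjective _)]
    exact sup_le_sup_right (by simp [q, Subgroup.map_eq_bot_iff]) _
  have h2 := le_of_le_sup_commutator h1
  rw [le_bot_iff, Subgroup.map_eq_bot_iff, QuotientGroup.ker_mk'] at h2
  exact h2

/-- A supplement of `O^p(H) H'` above `O^p(H)` is everything. -/
theorem eq_top_of_le_sup_commutator {H : Type u} [Group H] [Finite H] [Fact p.Prime]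
    {X : Subgroup H} (h1 : pResidual p H ≤ X) (h2 : X ⊔ commutator H = ⊤) : X = ⊤ := by
  have := (isPGroup_quotient_pResidual (G := H) (p := p)).isNilpotent
  let q := QuotientGroup.mk' (pResidual p H)
  have hq : Function.Surjective q := QuotientGroup.mk'_surjective _
  have h3 : X.map q = ⊤ := by
    refine eq_top_of_sup_commutator ?_
    rw [← Subgroup.map_top_of_surjective q hq, ← h2, Subgroup.map_sup,
      show (commutator H).map q = commutator (H ⧸ pResidual p H) by
        rw [commutator_def, Subgroup.map_commutator, Subgroup.map_top_of_surjective q hq,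
          commutator_def]]
  have h4 := congrArg (Subgroup.comap q) h3
  rw [Subgroup.comap_map_eq, QuotientGroup.ker_mk', Subgroup.comap_top, sup_eq_left.mpr h1] at h4
  exact h4

/-- **Tate's theorem**: if `H ≥ P` has `P ∩ G' ≤ H'`, then `H ∩ O^p(G) = O^p(H)`. -/
theorem tate_of_commutator [Finite G] [Fact p.Prime] (P : Sylow p G) (H : Subgroup G)
    (hPH : (P : Subgroup G) ≤ H) (h : commutator G ⊓ (P : Subgroup G) ≤ ⁅H, H⁆) :
    (pResidual p G).subgroupOf H = pResidual p H := by
  refine tate_core P H hPH fun X hX htop => eq_top_of_le_sup_commutator (p := p) hX ?_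
  refine top_le_iff.mp (htop ▸ sup_le le_sup_left ?_)
  intro x hx
  obtain ⟨a, ha, y, hy, rfl⟩ := Subgroup.mem_sup_of_normal_left.mp
    (show x ∈ pResidual p H ⊔ (P.subtype hPH : Subgroup H) by
      rw [pResidual_sup_of_sylow]; exact Subgroup.mem_top x)
  refine mul_mem (Subgroup.mem_sup_left (hX ha)) (Subgroup.mem_sup_right ?_)
  have ha' : (a : G) ∈ pResidual p G := map_subtype_pResidual_le H (Subgroup.mem_map_of_mem _ ha)
  have hyK : (y : G) ∈ pResidual p G := by
    have h5 : ((a * y : H) : G) ∈ pResidual p G := hx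
    rw [Subgroup.coe_mul] at h5
    exact (Subgroup.mul_mem_cancel_left _ ha').mp h5
  have hyP : (y : G) ∈ (P : Subgroup G) := hy
  have h6 : (y : G) ∈ commutator G ⊓ (P : Subgroup G) :=
    ⟨(P : Subgroup G).focalSubgroup_le_commutator
      (sylow_inf_pResidual_le_focal P ⟨hyP, hyK⟩), hyP⟩
  have h7 := h h6
  rw [← H.map_subtype_commutator] at h7
  obtain ⟨z, hz, hzy⟩ := h7
  rwa [← Subtype.ext (a1 := z) (a2 := y) hzy]

/-- Tate's theorem, intersected with `P`. -/
theorem sylow_inf_pResidual_eq_of_commutator [Finite G] [Fact p.Prime] (P : Sylow p G)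
    (H : Subgroup G) (hPH : (P : Subgroup G) ≤ H)
    (h : commutator G ⊓ (P : Subgroup G) ≤ ⁅H, H⁆) :
    (P : Subgroup G) ⊓ pResidual p G = (P : Subgroup G) ⊓ (pResidual p H).map H.subtype := by
  refine le_antisymm (fun x hx => ⟨hx.1, ?_⟩) (inf_le_inf_left _ (map_subtype_pResidual_le H))
  exact ⟨⟨x, hPH hx.1⟩, (tate_of_commutator P H hPH h) ▸ hx.2, rfl⟩

/-- The `p`-residual of a `p`-group is trivial. -/
theorem pResidual_eq_bot_of_isPGroup [Fact p.Prime] (h : IsPGroup p G) : pResidual p G = ⊥ :=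
  le_bot_iff.mp ((pResidual_le_ker_of_isPGroup h (MonoidHom.id G)).trans (by simp))

theorem hasNormalPComplement_of_sylow_inf_pResidual [Finite G] [hp : Fact p.Prime]
    (P : Sylow p G) (h : (P : Subgroup G) ⊓ pResidual p G = ⊥) : HasNormalPComplement p G := by
  refine hasNormalPComplement_of_normal (pResidual p G) ?_ index_pResidual_eq_pow.choose_spec
  intro hd
  obtain ⟨x, hx⟩ := exists_prime_orderOf_dvd_card' p hd
  obtain ⟨Q, hQ⟩ := (IsPGroup.of_card (p := p) (n := 1)
    (show Nat.card (Subgroup.zpowers (x : G)) = p ^ 1 by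
      rw [Nat.card_zpowers, Subgroup.orderOf_coe, hx, pow_one])).exists_le_sylow
  obtain ⟨g, rfl⟩ := MulAction.exists_smul_eq G P Q
  have hxP : g⁻¹ * (x : G) * g ∈ P :=
    (mem_sylow_smul_iff g P _).mp (hQ (Subgroup.mem_zpowers _))
  have hxK : g⁻¹ * (x : G) * g ∈ pResidual p G :=
    pResidual_normal.conj_mem' _ x.2 g
  have h1 : g⁻¹ * (x : G) * g = 1 := Subgroup.mem_bot.mp (h ▸ ⟨hxP, hxK⟩)
  have h2 : x = 1 := by
    refine Subtype.ext ?_
    have h3 := congrArg (fun y => g * y * g⁻¹) h1
    simpa [mul_assoc] using h3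
  rw [h2, orderOf_one] at hx
  exact hp.out.ne_one hx.symm

/-- `P ∩ G' ≤ P'` gives a normal `p`-complement. -/
theorem hasNormalPComplement_of_commutator_inf_le [Finite G] [Fact p.Prime] (P : Sylow p G)
    (h : commutator G ⊓ (P : Subgroup G) ≤ ⁅(P : Subgroup G), (P : Subgroup G)⁆) :
    HasNormalPComplement p G := by
  refine hasNormalPComplement_of_sylow_inf_pResidual P ?_
  rw [sylow_inf_pResidual_eq_of_commutator P _ le_rfl h, pResidual_eq_bot_of_isPGroup P.2,
    Subgroup.map_bot, inf_bot_eq]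

/-- If elements of `P` conjugate in `G` are conjugate in `P`, then `G` has a normal
`p`-complement. -/
theorem hasNormalPComplement_of_fusion [Finite G] [Fact p.Prime] (P : Sylow p G)
    (h : ∀ x ∈ (P : Subgroup G), ∀ g : G, g * x * g⁻¹ ∈ (P : Subgroup G) →
      ∃ z ∈ (P : Subgroup G), z * x * z⁻¹ = g * x * g⁻¹) : HasNormalPComplement p G := by
  refine hasNormalPComplement_of_commutator_inf_le P ?_
  rw [Subgroup.commutator_inf_eq_focalSubgroup P]
  exact focalSubgroup_le_of_controls h

/-- **Tate's normal p-complement theorem.** -/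
theorem hasNormalPComplement_of_inf_le_frattini [Finite G] [Fact p.Prime] (P : Sylow p G)
    (N : Subgroup G) [N.Normal]
    (h : N ⊓ (P : Subgroup G) ≤ (frattini P).map (P : Subgroup G).subtype) :
    HasNormalPComplement p N := by
  let K := N ⊔ (P : Subgroup G)
  refine hasNormalPComplement_of_le (L := K) le_sup_left ?_
  have hPK : (P : Subgroup G) ≤ K := le_sup_right
  let Q : Sylow p K := P.subtype hPK
  have hQ : (Q : Subgroup K) = (P : Subgroup G).subgroupOf K := rfl
  refine hasNormalPComplement_of_sylow_inf_pResidual Q ?_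
  have hNK : (N.subgroupOf K).Normal := inferInstance
  have hres : pResidual p K ≤ N.subgroupOf K := by
    refine pResidual_le_of_isPGroup_quotient _ ?_
    refine IsPGroup.of_surjective Q.2
      ((QuotientGroup.mk' (N.subgroupOf K)).comp (Q : Subgroup K).subtype) ?_
    intro x
    induction x using QuotientGroup.induction_on with
    | H k =>
      obtain ⟨n, hn, y, hy, hny⟩ := Subgroup.mem_sup_of_normal_left.mp k.2
      refine ⟨⟨⟨y, hPK hy⟩, hy⟩, ?_⟩
      refine (QuotientGroup.eq.mpr ?_)
      rw [Subgroup.mem_subgroupOf]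
      have e : y⁻¹ * (k : G) = y⁻¹ * n * y := by rw [← hny, mul_assoc]
      simp only [Subgroup.coe_mul, Subgroup.coe_inv, Subgroup.subtype_apply, e]
      exact Subgroup.Normal.conj_mem' inferInstance n hn y
  have hX : ∀ X : Subgroup (Q : Subgroup K), pResidual p (Q : Subgroup K) ≤ X →
      X ⊔ (pResidual p K).subgroupOf Q = ⊤ → X = ⊤ := by
    intro X _ htop
    refine frattini_nongenerating (top_le_iff.mp (htop ▸ sup_le_sup_left ?_ X))
    intro a ha
    have ha1 : ((a : K) : G) ∈ N ⊓ (P : Subgroup G) := ⟨hres ha, a.2⟩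
    obtain ⟨b, hb, hba⟩ := h ha1
    let e : (P : Subgroup G) →* (Q : Subgroup K) :=
      MonoidHom.mk' (fun b => ⟨⟨b, hPK b.2⟩, b.2⟩) (fun _ _ => rfl)
    have he : Function.Surjective e := fun a => ⟨⟨((a : K) : G), a.2⟩, rfl⟩
    have h2 := frattini_le_comap_frattini_of_surjective he hb
    rwa [Subgroup.mem_comap, show e b = a from Subtype.ext (Subtype.ext hba)] at h2
  have h3 := tate_core Q (Q : Subgroup K) le_rfl hX
  rw [pResidual_eq_bot_of_isPGroup Q.2] at h3
  rw [eq_bot_iff]
  intro x hx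
  have h4 : (⟨x, hx.1⟩ : (Q : Subgroup K)) ∈ (pResidual p K).subgroupOf Q := hx.2
  rw [h3, Subgroup.mem_bot] at h4
  exact congrArg Subtype.val h4

/-! ### Frobenius -/

/-- The local condition in Frobenius' theorem. -/
theorem sylow_conj_centralizer_inter [Finite G] [hp : Fact p.Prime]
    (h : ∀ D : Subgroup G, IsPGroup p D → ∀ g ∈ Subgroup.normalizer (D : Set G),
      Nat.Coprime (orderOf g) p → g ∈ Subgroup.centralizer (D : Set G)) :
    ∀ S T : Sylow p G, ∃ c ∈ Subgroup.centralizer (((S : Subgroup G) ⊓ T : Subgroup G) : Set G),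
      c • S = T := by
  suffices key : ∀ (n : ℕ) (S T : Sylow p G),
      Nat.card S - Nat.card ((S : Subgroup G) ⊓ T : Subgroup G) ≤ n →
      ∃ c ∈ Subgroup.centralizer (((S : Subgroup G) ⊓ T : Subgroup G) : Set G), c • S = T from
    fun S T => key _ S T le_rfl
  intro n
  induction n using Nat.strong_induction_on with
  | _ n ih =>
    intro S T hn
    set D := (S : Subgroup G) ⊓ T with hD
    rcases eq_or_lt_of_le (inf_le_left : D ≤ S) with heq | hlt
    · refine ⟨1, one_mem _, ?_⟩
      rw [one_smul]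
      have h1 : (S : Subgroup G) ≤ T := heq ▸ inf_le_right
      exact Sylow.ext (S.is_maximal' T.2 h1).symm
    have hDp : IsPGroup p D := S.2.to_le inf_le_left
    let N := Subgroup.normalizer (D : Set G)
    -- elements of N are (centralizing) * (Sylow)
    have key2 : ∀ R : Sylow p N, ∀ x : N, ∃ c : N, (c : G) ∈ Subgroup.centralizer (D : Set G) ∧
        x • R = c • R := by
      intro R x
      let C := (Subgroup.centralizer (D : Set G)).subgroupOf N
      have : C.Normal := by
        refine ⟨fun c hc g => ?_⟩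
        rw [Subgroup.mem_subgroupOf, Subgroup.mem_centralizer_iff] at hc ⊢
        intro d hd
        have h1 := hc _ ((Subgroup.mem_normalizer_iff''.mp g.2 d).mp hd)
        calc d * ((g * c * g⁻¹ : N) : G) = g * ((g : G)⁻¹ * d * g * c) * (g : G)⁻¹ := by
              simp [mul_assoc]
          _ = g * (c * ((g : G)⁻¹ * d * g)) * (g : G)⁻¹ := by rw [h1]
          _ = _ := by simp [mul_assoc]
      have hres : pResidual p N ≤ C := by
        rw [pResidual, Subgroup.closure_le]
        intro y hy
        exact h D hDp y y.2 (by rwa [Subgroup.orderOf_coe])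
      obtain ⟨c, hc, r, hr, rfl⟩ := Subgroup.mem_sup_of_normal_left.mp
        (show x ∈ pResidual p N ⊔ (R : Subgroup N) by simp [pResidual_sup_of_sylow])
      refine ⟨c, hres hc, ?_⟩
      rw [mul_smul, Sylow.smul_eq_iff_mem_normalizer.mpr (Subgroup.le_normalizer hr)]
    have grow : ∀ U : Sylow p G, D ≤ U → D ≠ (U : Subgroup G) →
        ∃ U' : Subgroup G, U' ≤ U ∧ U' ≤ N ∧ D < U' ∧ IsPGroup p U' := by
      intro U hU hne
      refine ⟨(U : Subgroup G) ⊓ N, inf_le_left, inf_le_right, ?_, U.2.to_inf_left⟩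
      refine lt_of_le_of_ne (le_inf hU Subgroup.le_normalizer) fun hcon => ?_
      have := (U.2).isNilpotent
      have h1 := Group.normalizerCondition_of_isNilpotent (G := (U : Subgroup G)) (D.subgroupOf U)
        (lt_top_iff_ne_top.mpr fun h2 => hne (le_antisymm hU (Subgroup.subgroupOf_eq_top.mp h2)))
      obtain ⟨y, hy, hyD⟩ := SetLike.exists_of_lt h1
      refine hyD ?_
      rw [Subgroup.mem_subgroupOf, hcon]
      refine ⟨y.2, Subgroup.mem_normalizer_iff.mpr fun d => ⟨fun hd => ?_, fun hd => ?_⟩⟩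
      · exact (Subgroup.mem_normalizer_iff.mp hy ⟨d, hU hd⟩).mp hd
      · have hdU : d ∈ (U : Subgroup G) := by
          have h3 := mul_mem (mul_mem (inv_mem y.2) (hU hd)) y.2
          simpa [mul_assoc] using h3
        exact (Subgroup.mem_normalizer_iff.mp hy ⟨d, hdU⟩).mpr hd
    have hne' : D ≠ (T : Subgroup G) := fun heq => by
      have h1 : (T : Subgroup G) ≤ S := heq ▸ inf_le_left
      have h2 := T.is_maximal' S.2 h1
      exact hlt.ne (heq.trans h2.symm)
    obtain ⟨S', hS'S, hS'N, hDS', hS'p⟩ := grow S inf_le_left hlt.ne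
    obtain ⟨T', hT'T, hT'N, hDT', hT'p⟩ := grow T inf_le_right hne'
    obtain ⟨S₁, hS₁⟩ := (hS'p.comap_subtype (K := N)).exists_le_sylow
    obtain ⟨T₁, hT₁⟩ := (hT'p.comap_subtype (K := N)).exists_le_sylow
    obtain ⟨x, hx⟩ := MulAction.exists_smul_eq N S₁ T₁
    obtain ⟨c, hc, hxc⟩ := key2 S₁ x
    rw [hx] at hxc
    obtain ⟨S₂, hS₂⟩ := (S₁.2.map N.subtype).exists_le_sylow
    have step : ∀ U V : Sylow p G, D < ((U : Subgroup G) ⊓ V : Subgroup G) →
        Nat.card U = Nat.card S →
        ∃ d ∈ Subgroup.centralizer (D : Set G), d • U = V := by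
      intro U V hlt2 hcard
      have h1 : Nat.card D < Nat.card ((U : Subgroup G) ⊓ V : Subgroup G) := by
        refine lt_of_le_of_ne (Subgroup.card_le_of_le hlt2.le) fun he => hlt2.ne ?_
        exact Subgroup.eq_of_le_of_card_ge hlt2.le he.ge
      have h2 : Nat.card ((U : Subgroup G) ⊓ V : Subgroup G) ≤ Nat.card U :=
        Subgroup.card_le_of_le inf_le_left
      obtain ⟨d, hd, hdU⟩ := ih _ (by omega) U V le_rfl
      exact ⟨d, Subgroup.centralizer_le (SetLike.coe_subset_coe.mpr hlt2.le) hd, hdU⟩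
    have hcardS : ∀ U : Sylow p G, Nat.card U = Nat.card S := fun U => by
      rw [U.card_eq_multiplicity, S.card_eq_multiplicity]
    have hmS : ∀ s ∈ S', s ∈ (S₂ : Subgroup G) := fun s hs =>
      hS₂ ⟨⟨s, hS'N hs⟩, hS₁ hs, rfl⟩
    obtain ⟨d₁, hd₁, hd₁e⟩ := step S S₂
      (hDS'.trans_le (le_inf hS'S hmS)) rfl
    have hmT : ∀ t ∈ T', t ∈ ((c : G) • S₂ : Sylow p G) := by
      intro t ht
      rw [mem_sylow_smul_iff]
      have h1 : (⟨t, hT'N ht⟩ : N) ∈ c • S₁ := by
        rw [← hxc]; exact hT₁ ht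
      rw [mem_sylow_smul_iff] at h1
      exact hS₂ ⟨_, h1, rfl⟩
    obtain ⟨d₂, hd₂, hd₂e⟩ := step ((c : G) • S₂) T
      (hDT'.trans_le (le_inf hmT hT'T)) (hcardS _)
    exact ⟨d₂ * c * d₁, mul_mem (mul_mem hd₂ hc) hd₁, by rw [mul_smul, mul_smul, hd₁e, hd₂e]⟩

/-- **Frobenius' normal p-complement theorem** (element form). -/
theorem hasNormalPComplement_of_frobenius [Finite G] [Fact p.Prime]
    (h : ∀ D : Subgroup G, IsPGroup p D → ∀ g ∈ Subgroup.normalizer (D : Set G),
      Nat.Coprime (orderOf g) p → g ∈ Subgroup.centralizer (D : Set G)) :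
    HasNormalPComplement p G := by
  obtain ⟨P⟩ : Nonempty (Sylow p G) := inferInstance
  refine hasNormalPComplement_of_fusion P fun x hx g hy => ?_
  obtain ⟨c, hc, hce⟩ := sylow_conj_centralizer_inter h (g • P) P
  rw [← mul_smul] at hce
  have hn : c * g ∈ Subgroup.normalizer (P : Set G) := Sylow.smul_eq_iff_mem_normalizer.mp hce
  have hy' : g * x * g⁻¹ ∈ ((g • P : Sylow p G) : Subgroup G) ⊓ P :=
    ⟨(mem_sylow_smul_iff g P _).mpr (show g⁻¹ * (g * x * g⁻¹) * g ∈ (P : Subgroup G) by
      simpa [mul_assoc] using hx), hy⟩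
  have hcy := Subgroup.mem_centralizer_iff.mp hc _ hy'
  let N := Subgroup.normalizer ((P : Subgroup G) : Set G)
  have hsup := sylow_sup_pResidual (P.subtype (N := N) Subgroup.le_normalizer)
  obtain ⟨d, hd, u, hu, hdu⟩ := Subgroup.mem_sup_of_normal_left.mp
    (show (⟨c * g, hn⟩ : N) ∈ pResidual p N ⊔ (P.subtype (N := N) Subgroup.le_normalizer : Subgroup N)
      by rw [sup_comm, hsup]; exact Subgroup.mem_top _)
  have hdc : (d : G) ∈ Subgroup.centralizer ((P : Subgroup G) : Set G) := by
    have hle : pResidual p N ≤ (Subgroup.centralizer ((P : Subgroup G) : Set G)).subgroupOf N := by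
      rw [pResidual, Subgroup.closure_le]
      intro y hy
      exact h P P.2 y y.2 (by rwa [Subgroup.orderOf_coe])
    exact hle hd
  have huP : (u : G) ∈ (P : Subgroup G) := hu
  refine ⟨u, huP, ?_⟩
  have e1 : c * g = (d : G) * u := (congrArg Subtype.val hdu).symm
  have e2 : (c * g) * x * (c * g)⁻¹ = g * x * g⁻¹ := by
    calc (c * g) * x * (c * g)⁻¹ = c * (g * x * g⁻¹) * c⁻¹ := by simp [mul_assoc]
      _ = (g * x * g⁻¹) * c * c⁻¹ := by rw [hcy]
      _ = _ := mul_inv_cancel_right _ _
  have h3 := Subgroup.mem_centralizer_iff.mp hdc _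
    (mul_mem (mul_mem huP hx) (inv_mem huP))
  calc (u : G) * x * (u : G)⁻¹ = (d : G) * ((u : G) * x * (u : G)⁻¹) * (d : G)⁻¹ := by
        rw [← h3, mul_inv_cancel_right]
    _ = (c * g) * x * (c * g)⁻¹ := by rw [e1]; simp [mul_assoc]
    _ = _ := e2

/-- A `p'`-element normalizing a `p`-group centralizes it, if there is a normal `p`-complement. -/
theorem HasNormalPComplement.mem_centralizer [Finite G] [hp : Fact p.Prime]
    (h : HasNormalPComplement p G) {D : Subgroup G} (hD : IsPGroup p D) {g : G}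
    (hg : g ∈ Subgroup.normalizer (D : Set G)) (hgc : Nat.Coprime (orderOf g) p) :
    g ∈ Subgroup.centralizer (D : Set G) := by
  rw [Subgroup.mem_centralizer_iff]
  intro d hd
  have hgK := mem_pResidual_of_coprime (p := p) hgc
  have h2 : g * d * g⁻¹ * d⁻¹ ∈ D :=
    mul_mem ((Subgroup.mem_normalizer_iff.mp hg d).mp hd) (inv_mem hd)
  have h3 : g * d * g⁻¹ * d⁻¹ ∈ pResidual p G := by
    rw [mul_assoc g, mul_assoc g, mul_assoc d]
    have := pResidual_normal.conj_mem _ (inv_mem hgK) d
    rw [mul_assoc] at this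
    exact mul_mem hgK (by simpa [mul_assoc] using this)
  have h4 : orderOf (g * d * g⁻¹ * d⁻¹) = 1 := by
    obtain ⟨k, hk⟩ := IsPGroup.iff_orderOf.mp hD ⟨_, h2⟩
    rw [Subgroup.orderOf_mk] at hk
    have h5 := (mem_pResidual_iff_of_hasNormalPComplement h _).mp h3
    rw [hk] at h5 ⊢
    rcases Nat.eq_zero_or_pos k with rfl | hk0
    · simp
    · exact absurd ((Nat.coprime_pow_left_iff hk0 p p).mp h5) (by simp [hp.out.ne_one])
  have h6 := orderOf_eq_one_iff.mp h4
  rw [mul_inv_eq_one, mul_inv_eq_iff_eq_mul] at h6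
  exact h6.symm

theorem hasNormalPComplement_iff_frobenius [Finite G] [Fact p.Prime] :
    HasNormalPComplement p G ↔
      ∀ D : Subgroup G, IsPGroup p D → ∀ g ∈ Subgroup.normalizer (D : Set G),
        Nat.Coprime (orderOf g) p → g ∈ Subgroup.centralizer (D : Set G) :=
  ⟨fun h _ hD _ hg hgc => HasNormalPComplement.mem_centralizer h hD hg hgc,
    hasNormalPComplement_of_frobenius⟩

/-- **Frobenius' criterion, local form.** -/
theorem hasNormalPComplement_of_local [Finite G] [Fact p.Prime]
    (h : ∀ D : Subgroup G, IsPGroup p D → D ≠ ⊥ →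
      HasNormalPComplement p (Subgroup.normalizer (D : Set G))) :
    HasNormalPComplement p G := by
  refine hasNormalPComplement_of_frobenius fun D hD g hg hgc => ?_
  by_cases hb : D = ⊥
  · subst hb; exact Subgroup.mem_centralizer_iff.mpr fun d hd => by
      rw [SetLike.mem_coe, Subgroup.mem_bot] at hd; simp [hd]
  have hD' : IsPGroup p (D.subgroupOf (Subgroup.normalizer (D : Set G))) :=
    hD.comap_subtype
  have h1 := HasNormalPComplement.mem_centralizer (h D hD hb) hD'
    (g := ⟨g, hg⟩) ?_ (by rwa [Subgroup.orderOf_mk])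
  · rw [Subgroup.mem_centralizer_iff] at h1 ⊢
    exact fun d hd => congrArg Subtype.val (h1 ⟨d, Subgroup.le_normalizer hd⟩ hd)
  · exact Subgroup.mem_normalizer_iff.mpr fun d => Subgroup.mem_normalizer_iff.mp hg d

end CfsgLib.Transfer
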