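import Cfsg.Agent.Lib.PLocal.Factorization
import Cfsg.Agent.Lib.PLocal.ActionStable
import Cfsg.Agent.Lib.PLocal.Replacement
import Cfsg.Agent.Lib.PLocal.HallHigman
import Mathlib.GroupTheory.Solvable

/-! Thompson factorization from `p`-stability, and its solvable case. -/

set_option autoImplicit false

open scoped commutatorElement

universe u

namespace CfsgLib.ThompsonFactor

open CfsgLib.PLocal

variable {G : Type u} [Group G] [Finite G] {p : ℕ} [hp : Fact p.Prime]

omit hp in
theorem eq_bot_of_le_commutator {S X A : Subgroup G} (hS : Group.IsNilpotent S) (hX : X ≤ S)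
    (hA : A ≤ S) (h : X ≤ ⁅X, A⁆) : X = ⊥ := by
  have hall : ∀ k, X ≤ S.lowerCentralSeries k := by
    intro k
    induction k with
    | zero => exact hX
    | succ k ih =>
      rw [Subgroup.lowerCentralSeries_succ]
      exact h.trans (Subgroup.commutator_mono ih hA)
  obtain ⟨k, hk⟩ := (Subgroup.isNilpotent_iff_lowerCentralSeries (S := S)).mp hS
  exact le_bot_iff.mp (hk ▸ hall k)

/-- An elementary abelian subgroup of largest order centralizes a normal elementary abelian
subgroup on which `G` is `p`-stable with trivial `p`-core modulo the centralizer. -/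
theorem maxEA_le_centralizer {V : Subgroup G} [V.Normal] (hV : Cfsg.IsElementaryAbelian p V)
    (hst : Cfsg.IsPStableOn p V) (hO : Cfsg.pCore p (G ⧸ Subgroup.centralizer (V : Set G)) = ⊥)
    {A : Subgroup G} (hA : A ∈ Cfsg.maxElementaryAbelianSubgroups p G) :
    A ≤ Subgroup.centralizer (V : Set G) := by
  have hAV : A ≤ Subgroup.normalizer (V : Set G) := by
    rw [Subgroup.normalizer_eq_top_iff.mpr (inferInstance : V.Normal)]; exact le_top
  obtain ⟨-, h2, -⟩ :=
    bestOffender_replacement hV.1 hAV (maxEA_isBestOffenderOn hV hA) (U := V) le_rfl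
  set B := A ⊓ Subgroup.centralizer ((⁅V, A⁆ : Subgroup G) : Set G) with hB
  have hquad : ⁅⁅V, B⁆, B⁆ = ⊥ := by
    refine le_bot_iff.mp ((Subgroup.commutator_mono
      (Subgroup.commutator_mono le_rfl (inf_le_left : B ≤ A)) le_rfl).trans (le_of_eq ?_))
    rw [Subgroup.commutator_eq_bot_iff_le_centralizer]
    exact Subgroup.le_centralizer_iff.mp (inf_le_right : B ≤ _)
  have hBC : B ≤ Subgroup.centralizer (V : Set G) := by
    intro a ha
    have h := hst a (le_bot_iff.mp (le_trans
      (Subgroup.commutator_mono (Subgroup.commutator_mono le_rfl (Subgroup.zpowers_le.mpr ha))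
        (Subgroup.zpowers_le.mpr ha)) hquad.le))
    rw [hO, Subgroup.mem_bot, QuotientGroup.eq_one_iff] at h
    exact h
  rw [inf_eq_left.mpr (Subgroup.le_centralizer_iff.mp hBC)] at h2
  set D := V ⊓ Subgroup.centralizer (A : Set G) with hD
  set X := ⁅V, A⁆ with hX
  have hXV : X ≤ V := Subgroup.commutator_le_left V A
  have hXe : X ≤ ⁅X, A⁆ := by
    refine Subgroup.commutator_le.mpr fun v hv a ha => ?_
    haveI : IsMulCommutative V := hV.1
    have hDA : ∀ d ∈ D, ⁅d, a⁆ = 1 := fun d hd =>
      commutatorElement_eq_one_iff_mul_comm.mpr (hd.2 a ha).symm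
    rw [h2, Subgroup.sup_eq_closure] at hv
    have main : ∀ v ∈ Subgroup.closure ((X : Set G) ∪ (D : Set G)),
        ∃ x ∈ X, ∃ d ∈ D, v = x * d := by
      intro v hv
      induction hv using Subgroup.closure_induction with
      | mem w hw =>
        exact hw.elim (fun h => ⟨w, h, 1, one_mem _, (mul_one w).symm⟩)
          (fun h => ⟨1, one_mem _, w, h, (one_mul w).symm⟩)
      | one => exact ⟨1, one_mem _, 1, one_mem _, (one_mul 1).symm⟩
      | mul w z _ _ ihw ihz =>
        obtain ⟨x, hx, d, hd, rfl⟩ := ihw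
        obtain ⟨y, hy, e, he, rfl⟩ := ihz
        refine ⟨x * y, mul_mem hx hy, d * e, mul_mem hd he, ?_⟩
        rw [mul_assoc x d, ← mul_assoc d y e, (commute_of_mem_comm hV.1 hd.1 (hXV hy)).eq]
        simp only [mul_assoc]
      | inv w _ ihw =>
        obtain ⟨x, hx, d, hd, rfl⟩ := ihw
        refine ⟨x⁻¹, inv_mem hx, d⁻¹, inv_mem hd, ?_⟩
        rw [mul_inv_rev]
        exact (commute_of_mem_comm hV.1 (V.inv_mem hd.1) (V.inv_mem (hXV hx))).eq
    obtain ⟨x, hx, d, hd, rfl⟩ := main v hv
    have he : ⁅x * d, a⁆ = ⁅x, a⁆ := by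
      have h1 : ⁅x * d, a⁆ = x * ⁅d, a⁆ * x⁻¹ * ⁅x, a⁆ := by
        simp only [commutatorElement_def]; group
      rw [h1, hDA d hd]; simp
    rw [he]
    exact Subgroup.commutator_mem_commutator hx ha
  have hS : IsPGroup p ↥(V ⊔ A) := IsPGroup.to_sup_of_normal_left' (isEA_isPGroup hV)
    (isEA_isPGroup hA.1) hAV
  have hX1 : X = ⊥ := eq_bot_of_le_commutator hS.isNilpotent (hXV.trans le_sup_left) le_sup_right hXe
  exact Subgroup.le_centralizer_iff.mp (Subgroup.commutator_eq_bot_iff_le_centralizer.mp hX1)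

/-- Thompson factorization under a stability condition. -/
theorem isThompsonFactorizable_of_cond (hp2 : p ≠ 2) (hc : StableCond p G)
    (hC : Subgroup.centralizer (Cfsg.pCore p G : Set G) ≤ Cfsg.pCore p G)
    (hO : Cfsg.pPrimeCore p G = ⊥) : Cfsg.IsThompsonFactorizable p G := by
  haveI := omegaCenterClosure_normal (p := p) (G := G)
  have hV := omegaCenterClosure_isEA (p := p) (G := G) hC
  refine (isThompsonFactorizable_iff hO).mpr (sSup_le fun A hA => ?_)
  exact maxEA_le_centralizer hV (isPStableOn_of_cond hp2 hc _ hV)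
    (pCore_quotient_centralizer_eq_bot _ omegaCenterClosure_eq_fixed) hA

theorem eq_normalizer_mul_centralizer (hO : Cfsg.pPrimeCore p G = ⊥)
    (hF : Cfsg.IsThompsonFactorizable p G) (P : Sylow p G) (g : G) :
    ∃ a ∈ Subgroup.normalizer (Cfsg.thompsonSubgroupOf p (P : Subgroup G) : Set G),
      ∃ c ∈ Subgroup.centralizer
          (Cfsg.omegaOne p ((P : Subgroup G) ⊓ Subgroup.centralizer ((P : Subgroup G) : Set G)) : Set G),
        g = a * c := by
  obtain ⟨x, hx, c, hc, n, hn, hg⟩ := hF P g⁻¹
  rw [hO, Subgroup.mem_bot] at hx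
  rw [hx, one_mul] at hg
  exact ⟨n⁻¹, inv_mem hn, c⁻¹, inv_mem hc, by rw [← mul_inv_rev, ← hg, inv_inv]⟩

/-! ### Solvable groups are `p`-soluble -/

omit hp in
theorem omegaOne_normal {A : Subgroup G} (hA : A.Normal) : (Cfsg.omegaOne p A).Normal := by
  refine ⟨fun n hn g => ?_⟩
  have h1 : A.map (MulAut.conj g).toMonoidHom = A := by
    refine Subgroup.eq_of_le_of_card_ge ?_ (by
      rw [Subgroup.card_map_of_injective (MulAut.conj g).injective])
    rintro _ ⟨x, hx, rfl⟩
    exact hA.conj_mem x hx g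
  have h2 := Subgroup.mem_map_of_mem (MulAut.conj g).toMonoidHom hn
  rw [omegaOne_map (MulAut.conj g).injective, h1] at h2
  exact h2

theorem exists_normal_pgroup_or_coprime [Group.IsSolvable G] [Nontrivial G] :
    ∃ N : Subgroup G, N.Normal ∧ N ≠ ⊥ ∧ (IsPGroup p N ∨ (Nat.card N).Coprime p) := by
  obtain ⟨n, hn⟩ := (inferInstance : Group.IsSolvable G).solvable
  have hex : ∃ k, derivedSeries G (k + 1) = ⊥ ∧ derivedSeries G k ≠ ⊥ := by
    induction n with
    | zero => exact absurd hn (by rw [derivedSeries_zero]; exact top_ne_bot)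
    | succ k ih =>
      by_cases h : derivedSeries G k = ⊥
      · exact ih h
      · exact ⟨k, hn, h⟩
  obtain ⟨k, hk, hk'⟩ := hex
  set A := derivedSeries G k with hA
  have hAn : A.Normal := derivedSeries_normal G k
  have hAc : IsMulCommutative A := by
    refine Subgroup.le_centralizer_iff_isMulCommutative.mp ?_
    rw [← Subgroup.commutator_eq_bot_iff_le_centralizer, ← derivedSeries_succ]
    exact hk
  by_cases hd : p ∣ Nat.card A
  · refine ⟨Cfsg.omegaOne p A, omegaOne_normal hAn, fun h => ?_,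
      Or.inl (isEA_isPGroup (omegaOne_isEA hAc))⟩
    obtain ⟨x, hx⟩ := exists_prime_orderOf_dvd_card' (G := A) p hd
    have h1 : (x : G) ∈ Cfsg.omegaOne p A :=
      mem_omegaOne x.2 (by rw [← Subgroup.coe_pow, ← hx, pow_orderOf_eq_one, Subgroup.coe_one])
    rw [h, Subgroup.mem_bot, ← orderOf_eq_one_iff, Subgroup.orderOf_coe, hx] at h1
    exact hp.out.ne_one h1
  · exact ⟨A, hAn, hk', Or.inr (Nat.Coprime.symm (hp.out.coprime_iff_not_dvd.mpr hd))⟩

theorem isPSolvable_aux : ∀ (n : ℕ) (G : Type u) [Group G] [Finite G], Nat.card G = n →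
    Group.IsSolvable G → Cfsg.IsPSolvable p G := by
  intro n
  induction n using Nat.strong_induction_on with
  | _ n ih =>
  intro G _ _ hn hs
  rcases subsingleton_or_nontrivial G with hG | hG
  · exact ⟨0, fun _ => ⊥, rfl, Subsingleton.elim _ _, monotone_const, fun _ => inferInstance,
      fun i => i.elim0⟩
  obtain ⟨N, hNn, hN1, hN⟩ := exists_normal_pgroup_or_coprime (G := G) (p := p)
  have hsurj := QuotientGroup.mk'_surjective N
  have hlt : Nat.card (G ⧸ N) < n := by
    rw [← hn, ← Subgroup.card_mul_index N, ← Subgroup.index_eq_card]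
    exact lt_mul_left (Nat.pos_of_ne_zero Subgroup.index_ne_zero_of_finite)
      (Subgroup.one_lt_card_iff_ne_bot N |>.2 hN1)
  obtain ⟨m, H, h0, hl, hm, hnor, hfac⟩ :=
    ih _ hlt (G ⧸ N) rfl (Group.isSolvable_of_surjective hsurj)
  have h0' : (H 0).comap (QuotientGroup.mk' N) = N := by
    rw [h0, MonoidHom.comap_bot, QuotientGroup.ker_mk']
  refine ⟨m + 1, Fin.cons ⊥ fun i => (H i).comap (QuotientGroup.mk' N), rfl, ?_, ?_, ?_, ?_⟩
  · rw [← Fin.succ_last, Fin.cons_succ, hl, Subgroup.comap_top]
  · refine Fin.monotone_iff_le_succ.mpr fun i => ?_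
    induction i using Fin.cases with
    | zero => exact bot_le
    | succ i =>
      rw [Fin.cons_succ, ← Fin.succ_castSucc, Fin.cons_succ]
      exact Subgroup.comap_mono (hm i.castSucc_le_succ)
  · intro i
    induction i using Fin.cases with
    | zero => rw [Fin.cons_zero]; infer_instance
    | succ i => rw [Fin.cons_succ]; exact (hnor i).comap _
  · intro i
    induction i using Fin.cases with
    | zero =>
      rw [Fin.cons_succ, Fin.castSucc_zero, Fin.cons_zero, h0', Subgroup.relIndex_bot_left]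
      rcases hN with hN | hN
      · exact Or.inl (IsPGroup.iff_card.mp hN)
      · exact Or.inr hN
    | succ i =>
      rw [Fin.cons_succ, ← Fin.succ_castSucc, Fin.cons_succ, Subgroup.relIndex_comap,
        Subgroup.map_comap_eq_self_of_surjective hsurj]
      exact hfac i

/-- A finite solvable group is `p`-soluble. -/
theorem isPSolvable_of_isSolvable (hs : Group.IsSolvable G) : Cfsg.IsPSolvable p G :=
  isPSolvable_aux _ G rfl hs

/-- Thompson factorization for solvable groups. -/
theorem isThompsonFactorizable_of_solvable (hp2 : p ≠ 2) (hs : Group.IsSolvable G)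
    (h3 : p = 3 → ∀ T : Sylow 2 G, IsMulCommutative T) (hO : Cfsg.pPrimeCore p G = ⊥) :
    Cfsg.IsThompsonFactorizable p G := by
  have hsep := isPSolvable_of_isSolvable (p := p) hs
  refine isThompsonFactorizable_of_cond hp2 ?_ (CfsgLib.PLoc.centralizer_pCore_le_self hsep hO) hO
  by_cases h : p = 3
  · exact Or.inl (h3 h)
  · refine Or.inr ⟨?_, hsep⟩
    have h2 := hp.out.two_le
    have h4 : p ≠ 4 := fun h4 => by have := hp.out; rw [h4] at this; norm_num at this
    omega

end CfsgLib.ThompsonFactor
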