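import Cfsg.Agent.Lib.Transfer.PResidual
import Mathlib.Tactic.Group

/-!
# Sylow conjugation helpers and Burnside's fusion lemma
-/

set_option autoImplicit false

namespace CfsgLib.Transfer

open Cfsg MulAction
open scoped Pointwise

universe u

variable {G : Type u} [Group G] {p : ℕ}

theorem mem_sylow_smul_iff (g : G) (P : Sylow p G) (x : G) :
    x ∈ g • P ↔ g⁻¹ * x * g ∈ P := by
  change x ∈ MulAut.conj g • (P : Subgroup G) ↔ g⁻¹ * x * g ∈ (P : Subgroup G)
  rw [Subgroup.mem_pointwise_smul_iff_inv_smul_mem]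
  simp [MulAut.smul_def, mul_assoc]

/-- Two Sylow subgroups of `G` inside `K` are conjugate by an element of `K`. -/
theorem exists_mem_smul_eq [Finite G] [Fact p.Prime] {K : Subgroup G} (P Q : Sylow p G)
    (hP : (P : Subgroup G) ≤ K) (hQ : (Q : Subgroup G) ≤ K) : ∃ m ∈ K, m • P = Q := by
  obtain ⟨m, hm⟩ := exists_smul_eq K (P.subtype hP) (Q.subtype hQ)
  rw [Sylow.smul_subtype] at hm
  exact ⟨m, m.2, Sylow.subtype_injective hm⟩

/-- The conjugating element may be moved into `K · N_G(P)`: if `P` and `g • P` lie in `K`,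
then some element of `K * g` normalizes `P`. -/
theorem exists_mul_mem_normalizer [Finite G] [Fact p.Prime] {K : Subgroup G} (P : Sylow p G)
    (hP : (P : Subgroup G) ≤ K) {g : G} (hg : ((g • P : Sylow p G) : Subgroup G) ≤ K) :
    ∃ m ∈ K, m * g ∈ Subgroup.normalizer (P : Set G) := by
  obtain ⟨m, hm, h⟩ := exists_mem_smul_eq (g • P) P hg hP
  rw [← mul_smul] at h
  exact ⟨m, hm, Sylow.smul_eq_iff_mem_normalizer.mp h⟩

/-- **Burnside's fusion lemma** for `P`-invariant sets. -/
theorem burnside_fusion_sets [Finite G] [Fact p.Prime] (P : Sylow p G) {X Y : Set G}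
    (hX : (P : Subgroup G) ≤ Subgroup.normalizer X) (hY : (P : Subgroup G) ≤ Subgroup.normalizer Y)
    {g : G} (hg : (fun y => g * y * g⁻¹) '' X = Y) :
    ∃ n ∈ Subgroup.normalizer (P : Set G), (fun y => n * y * n⁻¹) '' X = Y := by
  have hgY : ((g • P : Sylow p G) : Subgroup G) ≤ Subgroup.normalizer Y := by
    intro x hx
    replace hx : g⁻¹ * x * g ∈ P := (mem_sylow_smul_iff g P x).mp hx
    have h1 : MulAut.conj (g⁻¹ * x * g) '' X = X :=
      Subgroup.mem_normalizer_iff_conj_image_eq.mp (hX hx)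
    rw [Subgroup.mem_normalizer_iff_conj_image_eq, ← hg, Set.image_image]
    conv_rhs => rw [← h1, Set.image_image]
    exact Set.image_congr fun y _ => by simp [mul_assoc]
  obtain ⟨m, hm, hmg⟩ := exists_mul_mem_normalizer P hY hgY
  refine ⟨m * g, hmg, ?_⟩
  have h2 : MulAut.conj m '' Y = Y := Subgroup.mem_normalizer_iff_conj_image_eq.mp hm
  conv_rhs => rw [← h2, ← hg, Set.image_image]
  exact Set.image_congr fun y _ => by simp [mul_assoc]

/-- Elements of `P` centralized by `P` that are conjugate in `G` are conjugate in `N_G(P)`. -/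
theorem burnside_fusion_central [Finite G] [Fact p.Prime] (P : Sylow p G) {x y g : G}
    (hx : x ∈ Subgroup.centralizer (P : Set G)) (hy : y ∈ Subgroup.centralizer (P : Set G))
    (hg : g * x * g⁻¹ = y) : ∃ n ∈ Subgroup.normalizer (P : Set G), n * x * n⁻¹ = y := by
  obtain ⟨n, hn, h⟩ := P.conj_eq_normalizer_conj_of_mem_centralizer x g⁻¹ hx
    (by rw [inv_inv, hg]; exact hy)
  rw [inv_inv, hg] at h
  exact ⟨n⁻¹, inv_mem hn, by rw [inv_inv, h]⟩

/-- A conjugate of a weakly closed subgroup that is normalized by `P` is the subgroup itself. -/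
theorem le_normalizer_of_isWeaklyClosed {W P : Subgroup G} (h : IsWeaklyClosed W P) :
    Subgroup.normalizer (P : Set G) ≤ Subgroup.normalizer (W : Set G) := by
  intro n hn
  refine Subgroup.mem_normalizer_iff_map_conj_eq.mpr (h.2 n ?_)
  exact le_of_le_of_eq (Subgroup.map_mono h.1) (Subgroup.mem_normalizer_iff_map_conj_eq.mp hn)

/-- A normal complement `N` of `P` forces elements of `P` conjugate in `G` to be conjugate
in `P`. -/
theorem fusion_of_isComplement' {P N : Subgroup G} [N.Normal] (hc : N.IsComplement' P) {x y g : G}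
    (hx : x ∈ P) (hy : y ∈ P) (hg : g * x * g⁻¹ = y) : ∃ z ∈ P, z * x * z⁻¹ = y := by
  obtain ⟨⟨⟨n, hn⟩, ⟨z, hz⟩⟩, hnz, -⟩ := (Subgroup.isComplement_iff_existsUnique.mp hc g)
  simp only at hnz
  refine ⟨z, hz, ?_⟩
  have h1 : y * (z * x * z⁻¹)⁻¹ ∈ P := mul_mem hy (inv_mem (mul_mem (mul_mem hz hx) (inv_mem hz)))
  have h2 : y * (z * x * z⁻¹)⁻¹ ∈ N := by
    have : y * (z * x * z⁻¹)⁻¹ = n * ((z * x * z⁻¹) * n⁻¹ * (z * x * z⁻¹)⁻¹) := by
      rw [← hg, ← hnz]; group
    rw [this]
    exact mul_mem hn (Subgroup.Normal.conj_mem inferInstance _ (inv_mem hn) _)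
  exact (mul_inv_eq_one.mp ((Subgroup.disjoint_def.mp hc.disjoint) h2 h1)).symm

end CfsgLib.Transfer
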