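import Cfsg.Agent.Lib.Transfer.Fusion
import Mathlib.GroupTheory.Focal
import Mathlib.Data.ZMod.QuotientGroup
import Mathlib.GroupTheory.IndexNormal
import Mathlib.Tactic.FinCases

/-!
# Focal subgroups, transfer and abelian normal subgroups of coprime index
-/

set_option autoImplicit false

namespace CfsgLib.Transfer

open Cfsg
open scoped commutatorElement

universe u

variable {G : Type u} [Group G] {p : ℕ}

theorem coprime_card_quotient_focal {H : Subgroup G}
    (h : Nat.Coprime H.index (⁅H, H⁆.relIndex H)) :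
    Nat.Coprime H.index (Nat.card (H ⧸ H.focalSubgroupOf)) :=
  h.coprime_dvd_right (Subgroup.relIndex_dvd_of_le_left H H.commutator_le_focalSubgroup)

theorem coprime_index_relIndex_of_coprime_card {H : Subgroup G}
    (h : Nat.Coprime (Nat.card H) H.index) : Nat.Coprime H.index (⁅H, H⁆.relIndex H) :=
  h.symm.coprime_dvd_right (Subgroup.index_dvd_card (⁅H, H⁆.subgroupOf H))

theorem coprime_card_index_sylow [Finite G] [Fact p.Prime] (P : Sylow p G) :
    Nat.Coprime (P : Subgroup G).index (⁅(P : Subgroup G), (P : Subgroup G)⁆.relIndex P) :=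
  coprime_index_relIndex_of_coprime_card P.card_coprime_index

theorem transferFocal_surjective_of_coprime [Finite G] {H : Subgroup G}
    (h : Nat.Coprime H.index (Nat.card (H ⧸ H.focalSubgroupOf))) :
    Function.Surjective H.transferFocal := by
  intro x
  obtain ⟨y, rfl⟩ := (powCoprime h.symm).surjective x
  obtain ⟨z, rfl⟩ := QuotientGroup.mk'_surjective _ y
  exact ⟨z, H.transferFocal_eq_pow z⟩

theorem ker_transferFocal_inf_of_coprime [Finite G] {H : Subgroup G}
    (h : Nat.Coprime H.index (Nat.card (H ⧸ H.focalSubgroupOf))) :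
    H.transferFocal.ker ⊓ H = H.focalSubgroup := by
  ext x
  constructor
  · rintro ⟨h1, h2⟩
    have h3 := H.transferFocal_eq_pow ⟨x, h2⟩
    rw [MonoidHom.mem_ker.mp h1] at h3
    have h4 : ((⟨x, h2⟩ : H) : H ⧸ H.focalSubgroupOf) = 1 :=
      (powCoprime h.symm).injective (by simpa using h3.symm)
    exact (QuotientGroup.eq_one_iff (⟨x, h2⟩ : H)).mp h4
  · intro hx
    have h2 := H.focalSubgroup_le hx
    refine ⟨?_, h2⟩
    change H.transferFocal x = 1
    rw [show x = ((⟨x, h2⟩ : H) : G) from rfl, H.transferFocal_eq_pow,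
      (QuotientGroup.eq_one_iff (⟨x, h2⟩ : H)).mpr hx, one_pow]

theorem commutator_le_ker_transferFocal [Finite G] (H : Subgroup G) :
    commutator G ≤ H.transferFocal.ker := by
  rw [commutator_def, Subgroup.commutator_le]
  intro a _ b _
  rw [MonoidHom.mem_ker, map_commutatorElement, commutatorElement_eq_one_iff_mul_comm]
  exact mul_comm' _ _

theorem commutator_inf_eq_focal_of_coprime [Finite G] {H : Subgroup G}
    (h : Nat.Coprime H.index (Nat.card (H ⧸ H.focalSubgroupOf))) :
    commutator G ⊓ H = H.focalSubgroup :=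
  le_antisymm
    ((inf_le_inf_right _ (commutator_le_ker_transferFocal H)).trans
      (ker_transferFocal_inf_of_coprime h).le)
    (le_inf H.focalSubgroup_le_commutator H.focalSubgroup_le)

theorem pResidual_le_ker_transferFocal [Finite G] [Fact p.Prime] (P : Sylow p G) :
    pResidual p G ≤ (P : Subgroup G).transferFocal.ker :=
  pResidual_le_ker_of_isPGroup (P.2.to_quotient _) _

theorem sylow_inf_pResidual_le_focal [Finite G] [Fact p.Prime] (P : Sylow p G) :
    (P : Subgroup G) ⊓ pResidual p G ≤ (P : Subgroup G).focalSubgroup := by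
  rw [inf_comm, ← Subgroup.ker_transferFocal_inf_eq_focalSubgroup P]
  exact inf_le_inf_right _ (pResidual_le_ker_transferFocal P)

/-- For an abelian Sylow `p`-subgroup, `G' ≤ O^p(G)`. -/
theorem commutator_le_pResidual [Finite G] [Fact p.Prime] (P : Sylow p G)
    (hP : IsMulCommutative (P : Subgroup G)) : commutator G ≤ pResidual p G := by
  rw [← Subgroup.Normal.quotient_commutative_iff_commutator_le]
  refine ⟨⟨fun a b => ?_⟩⟩
  have h : Function.Surjective
      ((QuotientGroup.mk' (pResidual p G)).comp (P : Subgroup G).subtype) := by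
    intro x
    induction x using QuotientGroup.induction_on with
    | H g =>
      obtain ⟨k, hk, y, hy, rfl⟩ := Subgroup.mem_sup_of_normal_left.mp
        (show g ∈ pResidual p G ⊔ (P : Subgroup G) by simp [pResidual_sup_of_sylow])
      exact ⟨⟨y, hy⟩, by simp [(QuotientGroup.eq_one_iff k).mpr hk]⟩
  obtain ⟨a, rfl⟩ := h a
  obtain ⟨b, rfl⟩ := h b
  rw [← map_mul, ← map_mul, mul_comm' a b]

/-- If `K` controls fusion in `H`, the focal subgroup lies in `[H, K]`. -/
theorem focalSubgroup_le_of_controls {H K : Subgroup G}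
    (h : ∀ x ∈ H, ∀ g : G, g * x * g⁻¹ ∈ H → ∃ k ∈ K, k * x * k⁻¹ = g * x * g⁻¹) :
    H.focalSubgroup ≤ ⁅H, K⁆ := by
  rw [Subgroup.focalSubgroup_def, Subgroup.closure_le]
  rintro _ ⟨hg, x, hx, u, rfl⟩
  have h1 : u * x⁻¹ * u⁻¹ ∈ H := by
    have := mul_mem (inv_mem hx) hg
    rw [commutatorElement_def] at this
    simpa [mul_assoc] using this
  obtain ⟨k, hk, he⟩ := h x⁻¹ (inv_mem hx) u h1
  have : ⁅x, u⁆ = ⁅x, k⁆ := by
    rw [commutatorElement_def, commutatorElement_def, mul_assoc x u, mul_assoc x, ← he]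
    simp [mul_assoc]
  rw [this]
  exact Subgroup.commutator_mem_commutator hx hk

/-- Central elements of `G'` in `H` lie in `H'` when `[G:H]` is prime to `|H : H'|`. -/
theorem center_inf_commutator_inf_le [Finite G] {H : Subgroup G}
    (h : Nat.Coprime H.index (⁅H, H⁆.relIndex H)) :
    Subgroup.center G ⊓ commutator G ⊓ H ≤ ⁅H, H⁆ := by
  rintro z ⟨⟨hz, hzc⟩, hzH⟩
  have key : ∀ (k : ℕ) (g₀ : G), g₀⁻¹ * z ^ k * g₀ ∈ H → g₀⁻¹ * z ^ k * g₀ = z ^ k :=
    fun k g₀ _ => by
      rw [mul_assoc, ← (Subgroup.mem_center_iff.mp (pow_mem hz k) g₀), inv_mul_cancel_left]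
  have h1 := MonoidHom.transfer_eq_pow (Abelianization.of : H →* Abelianization H) z key
  rw [show MonoidHom.transfer (Abelianization.of : H →* Abelianization H) z = 1 from
    (Abelianization.commutator_subset_ker _) hzc] at h1
  have h2 : (Abelianization.of (⟨z, hzH⟩ : H)) ^ H.index = 1 := by
    rw [← map_pow, h1]; rfl
  have hc : Nat.card (Abelianization H) = ⁅H, H⁆.relIndex H := by
    change (_root_.commutator H).index = _
    rw [Subgroup.relIndex, ← H.map_subtype_commutator, Subgroup.subgroupOf,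
      Subgroup.comap_map_eq_self_of_injective H.subtype_injective]
  have h3 : (Abelianization.of (⟨z, hzH⟩ : H)) = 1 :=
    (powCoprime (G := Abelianization H) (hc ▸ h).symm).injective (by simpa using h2)
  have h4 : (⟨z, hzH⟩ : H) ∈ _root_.commutator H := (QuotientGroup.eq_one_iff _).mp h3
  rw [← H.map_subtype_commutator]
  exact ⟨_, h4, rfl⟩

/-- The normal abelian `A` of index prime to its order is `[A, G] · C_A(G)`. -/
theorem abelian_normal_le_sup_center [Finite G] {A : Subgroup G} [hn : A.Normal]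
    [hc : IsMulCommutative A] (h : Nat.Coprime (Nat.card A) A.index) :
    A ≤ ⁅A, (⊤ : Subgroup G)⁆ ⊔ (A ⊓ Subgroup.center G) := by
  open scoped IsMulCommutative in
  classical
  have : Fintype (G ⧸ A) := Fintype.ofFinite _
  have hker : A ≤ (MulAut.conjNormal : G →* MulAut A).ker := fun a ha => by
    refine MonoidHom.mem_ker.mpr (MulEquiv.ext fun b => Subtype.ext ?_)
    have e := congrArg Subtype.val (mul_comm (⟨a, ha⟩ : A) b)
    simp only [Subgroup.coe_mul] at e
    simp [e]
  let ψ : G ⧸ A →* MulAut A := QuotientGroup.lift A MulAut.conjNormal hker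
  let f : A → A := fun a => ∏ q, ψ q a
  have hf : ∀ a, (f a : G) ∈ Subgroup.center G := fun a => by
    refine Subgroup.mem_center_iff.mpr fun g => ?_
    have h1 : ψ (g : G ⧸ A) (f a) = f a := by
      simp only [f, map_prod]
      rw [← Equiv.prod_comp (Equiv.mulLeft (g : G ⧸ A)) (fun q => ψ q a)]
      exact Finset.prod_congr rfl fun q _ => by simp [map_mul]
    have h2 := congrArg Subtype.val h1
    simp only [ψ, QuotientGroup.lift_mk, MulAut.conjNormal_apply] at h2
    exact mul_inv_eq_iff_eq_mul.mp h2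
  let D : Subgroup A := (⁅A, (⊤ : Subgroup G)⁆).subgroupOf A
  intro x hx
  obtain ⟨a, ha⟩ := (powCoprime (G := A) h).surjective ⟨x, hx⟩
  replace ha : a ^ A.index = ⟨x, hx⟩ := ha
  have h3 : QuotientGroup.mk' D (f a) = QuotientGroup.mk' D (a ^ A.index) := by
    rw [map_pow, map_prod, Subgroup.index_eq_card, Nat.card_eq_fintype_card]
    rw [Finset.prod_congr rfl (g := fun _ => QuotientGroup.mk' D a), Finset.prod_const,
      Finset.card_univ]
    intro q _
    induction q using QuotientGroup.induction_on with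
    | H g =>
      refine QuotientGroup.eq.mpr ?_
      rw [Subgroup.mem_subgroupOf]
      simp only [ψ, QuotientGroup.lift_mk, Subgroup.coe_mul, Subgroup.coe_inv,
        MulAut.conjNormal_apply]
      have hm : ⁅(a : G), g⁆ ∈ ⁅A, (⊤ : Subgroup G)⁆ :=
        Subgroup.commutator_mem_commutator a.2 (Subgroup.mem_top _)
      have hcomm : g * (a : G)⁻¹ * g⁻¹ * a = a * (g * (a : G)⁻¹ * g⁻¹) :=
        congrArg Subtype.val (mul_comm'
          (⟨g * (a : G)⁻¹ * g⁻¹, hn.conj_mem _ (inv_mem a.2) g⟩ : A) a)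
      convert hm using 1
      rw [commutatorElement_def, mul_inv_rev, mul_inv_rev, inv_inv]
      simpa [mul_assoc] using hcomm
  rw [ha] at h3
  replace h3 := QuotientGroup.eq.mp h3
  rw [Subgroup.mem_subgroupOf] at h3
  simp only [Subgroup.coe_mul, Subgroup.coe_inv] at h3
  refine (show x = (f a : G) * ((f a : G)⁻¹ * x) by simp).symm ▸ mul_mem ?_ ?_
  · exact Subgroup.mem_sup_right ⟨(f a).2, hf a⟩
  · exact Subgroup.mem_sup_left h3

/-- Relative version: `A` abelian, normalized by `N`, of index in `N` prime to its order. -/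
theorem abelian_normalized_eq_sup_centralizer [Finite G] {A N : Subgroup G} (hAN : A ≤ N)
    (hN : N ≤ Subgroup.normalizer (A : Set G)) [IsMulCommutative A]
    (h : Nat.Coprime (Nat.card A) (A.relIndex N)) :
    ⁅A, N⁆ ⊔ (A ⊓ Subgroup.centralizer (N : Set G)) = A := by
  refine le_antisymm (sup_le ?_ inf_le_left) ?_
  · rw [Subgroup.commutator_le]
    intro a ha n hn
    have := (Subgroup.mem_normalizer_iff.mp (hN hn) a⁻¹).mp (inv_mem ha)
    rw [commutatorElement_def, mul_assoc a n, mul_assoc a]
    exact mul_mem ha this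
  have : (A.subgroupOf N).Normal := (Subgroup.normal_subgroupOf_iff_le_normalizer hAN).mpr hN
  have : IsMulCommutative (A.subgroupOf N) :=
    ⟨⟨fun a b => Subtype.ext (Subtype.ext (congrArg (Subtype.val (p := fun g : G => g ∈ A))
      (mul_comm' (⟨((a : N) : G), a.2⟩ : A) ⟨((b : N) : G), b.2⟩)))⟩⟩
  have h1 := abelian_normal_le_sup_center (A := A.subgroupOf N)
    (by rwa [Nat.card_congr (Subgroup.subgroupOfEquivOfLe hAN).toEquiv])
  intro a ha
  have h2 := Subgroup.mem_map_of_mem N.subtype (h1 (show (⟨a, hAN ha⟩ : N) ∈ A.subgroupOf N from ha))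
  rw [Subgroup.map_sup, Subgroup.map_commutator, Subgroup.map_subgroupOf_eq_of_le hAN,
    ← MonoidHom.range_eq_map, Subgroup.range_subtype] at h2
  refine SetLike.le_def.mp (sup_le_sup_left ?_ _) h2
  rintro _ ⟨x, ⟨hxA, hxc⟩, rfl⟩
  refine ⟨hxA, Subgroup.mem_centralizer_iff.mpr fun n hn => ?_⟩
  exact congrArg Subtype.val (Subgroup.mem_center_iff.mp hxc ⟨n, hn⟩)

/-- **Thompson transfer lemma**. -/
theorem exists_conj_mem_of_pResidual_eq_top [Finite G] (T : Sylow 2 G) (h : pResidual 2 G = ⊤)
    (M : Subgroup (T : Subgroup G)) (hM : M.index = 2) (u : G) (hu : u ^ 2 = 1) :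
    ∃ (g : G) (hg : g * u * g⁻¹ ∈ (T : Subgroup G)), (⟨g * u * g⁻¹, hg⟩ : (T : Subgroup G)) ∈ M := by
  classical
  by_contra hne
  have : M.Normal := Subgroup.normal_of_index_eq_two hM
  have h2 : Nat.card ((T : Subgroup G) ⧸ M) = 2 := hM
  have hA : ∀ a b : (T : Subgroup G) ⧸ M, a * b = b * a := by
    have := (isCyclic_of_prime_card (hp := ⟨Nat.prime_two⟩) h2)
    exact fun a b => mul_comm' a b
  let : CommGroup ((T : Subgroup G) ⧸ M) := { (inferInstance : Group _) with mul_comm := hA }
  have : Fintype (Quotient (MulAction.orbitRel (Subgroup.zpowers u) (G ⧸ (T : Subgroup G)))) :=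
    Fintype.ofFinite _
  let V := MonoidHom.transfer (QuotientGroup.mk' M)
  have hV : V u = 1 := by
    have h1 := pResidual_le_ker_of_isPGroup (p := 2) (G := G) (T.2.to_quotient M) V
    rw [h] at h1
    exact h1 (Subgroup.mem_top u)
  obtain ⟨s, hs⟩ : ∃ s : (T : Subgroup G) ⧸ M, s ≠ 1 := by
    have : Nontrivial ((T : Subgroup G) ⧸ M) :=
      Finite.one_lt_card_iff_nontrivial.mp (by omega)
    exact exists_ne 1
  have hall : ∀ a : (T : Subgroup G) ⧸ M, a = 1 ∨ a = s := fun a => by
    by_contra hcon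
    rw [not_or] at hcon
    have hle : Fintype.card (Fin 3) ≤ Nat.card ((T : Subgroup G) ⧸ M) := by
      rw [← Nat.card_eq_fintype_card]
      refine Nat.card_le_card_of_injective ![1, s, a] ?_
      intro i j hij
      fin_cases i <;> fin_cases j <;> simp [hcon.1, hcon.2, hs, Ne.symm hcon.1, Ne.symm hcon.2, Ne.symm hs] at hij ⊢
    simp only [Fintype.card_fin] at hle
    omega
  have hs2 : s ^ 2 = 1 := by
    have := pow_card_eq_one' (x := s)
    rwa [h2] at this
  let per : Quotient (MulAction.orbitRel (Subgroup.zpowers u) (G ⧸ (T : Subgroup G))) → ℕ :=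
    fun q => Function.minimalPeriod (u • ·) q.out
  have hterm : ∀ q, (QuotientGroup.mk' M) (⟨q.out.out⁻¹ * u ^ per q * q.out.out,
      QuotientGroup.out_conj_pow_minimalPeriod_mem (T : Subgroup G) u q.out⟩) = s ^ per q := by
    intro q
    have hd : per q ∣ 2 := by
      refine Function.IsPeriodicPt.minimalPeriod_dvd ?_
      change ((u • ·)^[2]) q.out = q.out
      rw [smul_iterate_apply, hu, one_smul]
    rcases (Nat.dvd_prime Nat.prime_two).mp hd with h3 | h3
    · have hmem : q.out.out⁻¹ * u * q.out.out ∈ (T : Subgroup G) := by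
        have := QuotientGroup.out_conj_pow_minimalPeriod_mem (T : Subgroup G) u q.out
        rwa [show Function.minimalPeriod (u • ·) q.out = 1 from h3, pow_one] at this
      have e : QuotientGroup.mk' M ⟨q.out.out⁻¹ * u * q.out.out, hmem⟩ = s :=
        (hall _).resolve_left fun he => hne ⟨q.out.out⁻¹, by simpa using hmem,
          by simpa using (QuotientGroup.eq_one_iff _).mp he⟩
      rw [show s ^ per q = s by rw [h3, pow_one], ← e]
      congr 1
      exact Subtype.ext (by simp [h3])
    · rw [show s ^ per q = 1 by rw [h3, hs2]]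
      convert map_one (QuotientGroup.mk' M)
      exact (congrArg (fun k => q.out.out⁻¹ * u ^ k * q.out.out) h3).trans (by simp [hu])
  have h4 : V u = s ^ (T : Subgroup G).index := by
    rw [MonoidHom.transfer_eq_prod_quotient_orbitRel_zpowers_quot,
      Finset.prod_congr rfl (fun q _ => hterm q), Finset.prod_pow_eq_pow_sum]
    congr 1
    exact (Subgroup.index_eq_sum_minimalPeriod (T : Subgroup G) u).symm
  obtain ⟨k, hk⟩ : Odd (T : Subgroup G).index := by
    rw [← Nat.not_even_iff_odd, even_iff_two_dvd]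
    exact T.not_dvd_index
  rw [hV, hk, pow_succ, pow_mul, hs2, one_pow, one_mul] at h4
  exact hs h4.symm

end CfsgLib.Transfer
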