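import Cfsg.Agent.Lib.Transfer.PGroup
import Mathlib.Data.Nat.Choose.Dvd

/-!
# Groups of class two, `Ω₁` for odd primes, maximal normal elementary abelian subgroups
-/

set_option autoImplicit false

namespace CfsgLib.Transfer

open Cfsg
open scoped commutatorElement

universe u

variable {G : Type u} [Group G] {p : ℕ}

theorem commutatorElement_mem_center_of_le (hc : commutator G ≤ Subgroup.center G) (x y : G) :
    ⁅x, y⁆ ∈ Subgroup.center G :=
  hc (Subgroup.commutator_mem_commutator (Subgroup.mem_top x) (Subgroup.mem_top y))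

/-- Left multiplicativity of the commutator when commutators with `z` are central. -/
theorem commutatorElement_mul_left_central {x y z : G} (h : ⁅y, z⁆ ∈ Subgroup.center G) :
    ⁅x * y, z⁆ = ⁅x, z⁆ * ⁅y, z⁆ := by
  have h1 : ⁅x * y, z⁆ = x * ⁅y, z⁆ * x⁻¹ * ⁅x, z⁆ := by
    simp only [commutatorElement_def]; group
  rw [h1, Subgroup.mem_center_iff.mp h x, mul_inv_cancel_right,
    ← Subgroup.mem_center_iff.mp h ⁅x, z⁆]

theorem commutatorElement_mul_right_central {x y z : G} (h : ⁅x, z⁆ ∈ Subgroup.center G) :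
    ⁅x, y * z⁆ = ⁅x, y⁆ * ⁅x, z⁆ := by
  have h1 : ⁅x, y * z⁆ = ⁅x, y⁆ * (y * ⁅x, z⁆ * y⁻¹) := by
    simp only [commutatorElement_def]; group
  rw [h1, Subgroup.mem_center_iff.mp h y, mul_inv_cancel_right]

theorem commutatorElement_pow_left (hc : commutator G ≤ Subgroup.center G) (x y : G) (n : ℕ) :
    ⁅x ^ n, y⁆ = ⁅x, y⁆ ^ n := by
  induction n with
  | zero => simp
  | succ n ih =>
    rw [pow_succ, commutatorElement_mul_left_central (commutatorElement_mem_center_of_le hc _ _),
      ih, pow_succ]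

/-- The commutator with a fixed element, as a homomorphism into the centre. -/
def commutatorHom (hc : commutator G ≤ Subgroup.center G) (y : G) : G →* Subgroup.center G :=
  MonoidHom.mk' (fun x => ⟨⁅x, y⁆, commutatorElement_mem_center_of_le hc x y⟩) fun a b =>
    Subtype.ext (commutatorElement_mul_left_central (commutatorElement_mem_center_of_le hc b y))

theorem commutatorHom_apply (hc : commutator G ≤ Subgroup.center G) (x y : G) :
    ((commutatorHom hc y x : Subgroup.center G) : G) = ⁅x, y⁆ := rfl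

/-- Powers of a product when `⁅y, x⁆` commutes with `x` and `y`. -/
theorem mul_pow_of_commute_commutator {x y : G} (hx : Commute ⁅y, x⁆ x) (hy : Commute ⁅y, x⁆ y)
    (n : ℕ) : (x * y) ^ n = x ^ n * y ^ n * ⁅y, x⁆ ^ (n.choose 2) := by
  set c := ⁅y, x⁆ with hc
  have hyx : y * x = c * (x * y) := by rw [hc, commutatorElement_def]; group
  have hmove : ∀ m : ℕ, y ^ m * x = c ^ m * (x * y ^ m) := by
    intro m
    induction m with
    | zero => simp
    | succ m ih =>
      rw [pow_succ', mul_assoc, ih, ← mul_assoc, ← (hy.pow_left m).eq, mul_assoc, ← mul_assoc y,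
        hyx, pow_succ c m]
      simp [mul_assoc]
  induction n with
  | zero => simp
  | succ n ih =>
    have h1 : (x * y) ^ (n + 1) = x ^ n * (y ^ n * x) * y * c ^ (n.choose 2) := by
      rw [pow_succ, ih]
      have h2 : Commute (c ^ (n.choose 2)) (x * y) := (hx.mul_right hy).pow_left _
      rw [mul_assoc _ (c ^ _), h2.eq]
      simp [mul_assoc]
    rw [h1, hmove, Nat.choose_succ_succ, Nat.choose_one_right, pow_add c, pow_succ x, pow_succ y]
    have h3 : Commute (c ^ n) x := hx.pow_left _
    have h4 : Commute (c ^ n) (y ^ n * y) := (hy.pow_left _).pow_right _ |>.mul_right (hy.pow_left _)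
    rw [← mul_assoc (c ^ n), h3.eq]
    simp only [mul_assoc]
    rw [← mul_assoc (c ^ n) (y ^ n), ← mul_assoc (c ^ n * y ^ n) y, mul_assoc (c ^ n) (y ^ n) y,
      h4.eq]
    simp [mul_assoc]

/-- In odd characteristic, elements of order `p` with central `p`-torsion commutator are closed
under multiplication. -/
theorem mul_pow_prime_eq_one [hp : Fact p.Prime] (h2 : p ≠ 2) {x y : G} (hx : x ^ p = 1)
    (hy : y ^ p = 1) (hcx : Commute ⁅y, x⁆ x) (hcy : Commute ⁅y, x⁆ y) : (x * y) ^ p = 1 := by
  rw [mul_pow_of_commute_commutator hcx hcy, hx, hy, one_mul, one_mul]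
  obtain ⟨k, hk⟩ := hp.out.dvd_choose_self two_ne_zero
    (lt_of_le_of_ne hp.out.two_le (Ne.symm h2))
  rw [hk, pow_mul]
  have h3 : ⁅y, x⁆ ^ p = 1 := by
    have key : ∀ m : ℕ, y ^ m * x * (y ^ m)⁻¹ = ⁅y, x⁆ ^ m * x := by
      intro m
      induction m with
      | zero => simp
      | succ m ih =>
        have e : y ^ (m + 1) * x * (y ^ (m + 1))⁻¹ = y * (y ^ m * x * (y ^ m)⁻¹) * y⁻¹ := by
          rw [pow_succ']; group
        rw [e, ih, pow_succ ⁅y, x⁆ m]
        have e2 : y * (⁅y, x⁆ ^ m * x) * y⁻¹ = ⁅y, x⁆ ^ m * (y * x * y⁻¹) := by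
          rw [← mul_assoc y, ← (hcy.pow_left m).eq]; group
        rw [e2, mul_assoc (⁅y, x⁆ ^ m)]
        congr 1
        rw [commutatorElement_def]; group
    have := key p
    rwa [hy, inv_one, one_mul, mul_one, eq_comm, mul_eq_right] at this
  rw [h3, one_pow]

/-- Alperin: for odd `p`, an element of order `p` centralizing a maximal normal elementary abelian
subgroup `A` lies in `A`. -/
theorem mem_of_pow_eq_one_of_maximal_normal [Finite G] [hp : Fact p.Prime] (hG : IsPGroup p G)
    (h2 : p ≠ 2) {A : Subgroup G} [hn : A.Normal] (hA : IsElementaryAbelian p A)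
    (hmax : ∀ B : Subgroup G, B.Normal → IsElementaryAbelian p B → A ≤ B → B = A) {x : G}
    (hx : x ∈ Subgroup.centralizer (A : Set G)) (hxp : x ^ p = 1) : x ∈ A := by
  by_contra hxA
  have := hG.isNilpotent
  -- minimal normal subgroups above `A` generated by such an element
  let S : Set (Subgroup G) := {X | X.Normal ∧ A ≤ X ∧ X ≤ Subgroup.centralizer (A : Set G) ∧
    ∃ z ∈ X, z ^ p = 1 ∧ z ∉ A}
  have hC : (Subgroup.centralizer (A : Set G)).Normal := inferInstance
  have hcen : A ≤ Subgroup.centralizer (A : Set G) := by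
    have := hA.1; exact A.le_centralizer
  obtain ⟨X, hX, hXmin⟩ := (Set.toFinite S).exists_minimal
    ⟨_, hC, hcen, le_rfl, x, hx, hxp, hxA⟩
  obtain ⟨hXn, hAX, hXC, z, hzX, hzp, hzA⟩ := hX
  set Y := A ⊔ ⁅X, (⊤ : Subgroup G)⁆ with hY
  have hYX : Y ≤ X := sup_le hAX (Subgroup.commutator_le_left X ⊤)
  have hzY : z ∉ Y := fun hz => by
    have hXY : X ≤ Y := hXmin ⟨inferInstance, le_sup_left, hYX.trans hXC, z, hz, hzp, hzA⟩ hYX
    exact hzA (le_of_le_sup_commutator hXY hzX)
  have hYA : ∀ w ∈ Y, w ^ p = 1 → w ∈ A := by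
    intro w hw hwp
    by_contra hwA
    exact hzY (hXmin ⟨inferInstance, le_sup_left, hYX.trans hXC, w, hw, hwp, hwA⟩ hYX hzX)
  -- quotients of conjugate elements of order p have order p
  have key : ∀ (U : Subgroup G), ∀ a b : G, a ∈ U → b ∈ U → a ∈ X → a ^ p = 1 → b ^ p = 1 →
      b * a⁻¹ ∈ Y → b * a⁻¹ ∈ A := by
    intro U
    induction U using (wellFounded_lt (α := Subgroup G)).induction with
    | _ U ih =>
      intro a b ha hb haX hap hbp hab
      have hbX : b ∈ X := by
        have := mul_mem (hYX hab) haX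
        rwa [inv_mul_cancel_right] at this
      by_cases hc : Commute b a
      · exact hYA _ hab (by rw [(hc.inv_right).mul_pow, inv_pow, hap, hbp, inv_one, one_mul])
      have hne : a ≠ b := fun h => hc (h ▸ Commute.refl a)
      -- the normal closure of `a` in `⟨a, b⟩`
      let W := Subgroup.closure {a, b}
      let V := ((Subgroup.zpowers a).subgroupOf W ⊔ commutator W).map W.subtype
      have haW : a ∈ W := Subgroup.subset_closure (by simp)
      have hbW : b ∈ W := Subgroup.subset_closure (by simp)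
      have hWU : W ≤ U := (Subgroup.closure_le _).mpr (by
        rintro w (rfl | rfl) <;> assumption)
      have hVW : V < W := by
        refine lt_of_le_of_ne (Subgroup.map_subtype_le _) fun h => hc ?_
        have htop : (Subgroup.zpowers a).subgroupOf W ⊔ commutator W = ⊤ :=
          Subgroup.map_injective W.subtype_injective (h.trans (by
            rw [← MonoidHom.range_eq_map, Subgroup.range_subtype]))
        have hnil : Group.IsNilpotent W := inferInstance
        have h3 := eq_top_of_sup_commutator htop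
        have h4 : (⟨b, hbW⟩ : W) ∈ (Subgroup.zpowers a).subgroupOf W := by
          rw [h3]; exact Subgroup.mem_top _
        obtain ⟨k, hk⟩ := Subgroup.mem_zpowers_iff.mp h4
        have hk' : a ^ k = b := hk
        rw [← hk']
        exact (Commute.refl a).zpow_left k
      have haV : a ∈ V := ⟨⟨a, haW⟩, Subgroup.mem_sup_left (Subgroup.mem_zpowers a), rfl⟩
      have hcV : ⁅b, a⁆ ∈ V :=
        ⟨⁅⟨b, hbW⟩, ⟨a, haW⟩⁆, Subgroup.mem_sup_right (Subgroup.commutator_mem_commutator
          (Subgroup.mem_top _) (Subgroup.mem_top _)), rfl⟩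
      have hd : b * a * b⁻¹ ∈ V := by
        have h5 := mul_mem hcV haV
        rwa [commutatorElement_def, mul_assoc, inv_mul_cancel, mul_one] at h5
      have hcY : b * a * b⁻¹ * a⁻¹ ∈ Y := Subgroup.mem_sup_right
        (Subgroup.commutator_mem_commutator hbX (Subgroup.mem_top a))
      have hcA : b * a * b⁻¹ * a⁻¹ ∈ A := ih V (hVW.trans_le hWU) a _ haV hd haX hap
        (by rw [conj_pow, hap, mul_one, mul_inv_cancel]) hcY
      have hcomm : ∀ w ∈ X, Commute ⁅b, a⁆ w := fun w hw => by
        have h6 : ⁅b, a⁆ ∈ A := by rw [commutatorElement_def]; exact hcA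
        exact Subgroup.mem_centralizer_iff.mp (hXC hw) _ h6
      refine hYA _ hab (mul_pow_prime_eq_one h2 hbp (by rw [inv_pow, hap, inv_one]) ?_ ?_)
      all_goals
        have h7 : ⁅a⁻¹, b⁆ = a⁻¹ * ⁅b, a⁆ * a := by simp only [commutatorElement_def]; group
        rw [h7, mul_assoc, (hcomm a haX).eq, inv_mul_cancel_left]
      · exact hcomm b hbX
      · exact hcomm a⁻¹ (inv_mem haX)
  -- hence `A` and `z` generate a larger normal elementary abelian subgroup
  have hconj : ∀ g : G, ⁅g, z⁆ ∈ A := by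
    intro g
    have hY' : g * z * g⁻¹ * z⁻¹ ∈ Y := by
      refine Subgroup.mem_sup_right ?_
      rw [Subgroup.commutator_comm]
      exact Subgroup.commutator_mem_commutator (Subgroup.mem_top g) hzX
    exact key ⊤ z (g * z * g⁻¹) (Subgroup.mem_top _) (Subgroup.mem_top _) hzX hzp
      (by rw [conj_pow, hzp, mul_one, mul_inv_cancel]) hY'
  have hzc : ∀ a ∈ A, Commute a z := fun a ha =>
    Subgroup.mem_centralizer_iff.mp (hXC hzX) a ha
  let B := A ⊔ Subgroup.zpowers z
  have hB : IsElementaryAbelian p B := by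
    have hmem : ∀ b ∈ B, ∃ a ∈ A, ∃ k : ℤ, a * z ^ k = b := fun b hb => by
      obtain ⟨a, ha, w, hw, rfl⟩ := Subgroup.mem_sup_of_normal_left.mp hb
      obtain ⟨k, rfl⟩ := Subgroup.mem_zpowers_iff.mp hw
      exact ⟨a, ha, k, rfl⟩
    refine ⟨⟨⟨fun u v => Subtype.ext ?_⟩⟩, fun b hb => ?_⟩
    · obtain ⟨a, ha, k, hu⟩ := hmem u u.2
      obtain ⟨a', ha', k', hv⟩ := hmem v v.2
      have haa : Commute a a' := by
        have := hA.1
        exact congrArg Subtype.val (mul_comm' (⟨a, ha⟩ : A) ⟨a', ha'⟩)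
      simp only [Subgroup.coe_mul, ← hu, ← hv]
      exact (Commute.mul_left (haa.mul_right ((hzc a ha).zpow_right k'))
        (Commute.mul_right ((hzc a' ha').symm.zpow_left k) ((Commute.refl z).zpow_zpow k k'))).eq
    · obtain ⟨a, ha, k, rfl⟩ := hmem b hb
      rw [((hzc a ha).zpow_right k).mul_pow, hA.2 a ha, one_mul, ← zpow_natCast, ← zpow_mul,
        mul_comm, zpow_mul, zpow_natCast, hzp, one_zpow]
  have hBn : B.Normal := by
    rw [← Subgroup.normalizer_eq_top_iff, eq_top_iff]
    intro g _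
    have key2 : ∀ g : G, B.map (MulAut.conj g).toMonoidHom ≤ B := fun g => by
      refine Subgroup.map_le_iff_le_comap.mpr (sup_le (fun a ha => ?_) ?_)
      · exact Subgroup.mem_sup_left (hn.conj_mem a ha g)
      · rw [Subgroup.zpowers_le, Subgroup.mem_comap]
        have : g * z * g⁻¹ = ⁅g, z⁆ * z := by simp only [commutatorElement_def]; group
        change g * z * g⁻¹ ∈ B
        rw [this]
        exact mul_mem (Subgroup.mem_sup_left (hconj g))
          (Subgroup.mem_sup_right (Subgroup.mem_zpowers z))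
    refine Subgroup.mem_normalizer_iff_map_conj_eq.mpr (le_antisymm (key2 g) fun b hb => ?_)
    exact ⟨g⁻¹ * b * g⁻¹⁻¹, key2 g⁻¹ ⟨b, hb, rfl⟩, by simp [mul_assoc]⟩
  exact hzA ((hmax B hBn hB le_sup_left).le
    (Subgroup.mem_sup_right (Subgroup.mem_zpowers z)))

end CfsgLib.Transfer
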