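import Cfsg.Agent.Lib.Transfer.ClassTwo
import Mathlib.GroupTheory.SpecificGroups.Cyclic
import Mathlib.Tactic.Ring
import Mathlib.Tactic.LinearCombination

/-!
# Extraspecial groups: hyperbolic pairs and classification by induction
-/

set_option autoImplicit false

namespace CfsgLib.Transfer

open Cfsg
open scoped commutatorElement

universe u v w

variable {E : Type u} [Group E] {p : ℕ}

/-- A finite `p`-group of class at most two whose centre has order `p`. -/
structure CentreOrderP (p : ℕ) (E : Type u) [Group E] : Prop where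
  class_two : commutator E ≤ Subgroup.center E
  card_center : Nat.card (Subgroup.center E) = p

theorem centreOrderP_of_isExtraspecial (h : IsExtraspecial p E) : CentreOrderP p E :=
  ⟨h.1.2.2.le, h.2⟩

namespace CentreOrderP

theorem pow_eq_one (h : CentreOrderP p E) {z : E} (hz : z ∈ Subgroup.center E) : z ^ p = 1 := by
  have h1 := congrArg Subtype.val (pow_card_eq_one' (x := (⟨z, hz⟩ : Subgroup.center E)))
  rwa [h.card_center] at h1

theorem pow_mem_center (h : CentreOrderP p E) (x : E) : x ^ p ∈ Subgroup.center E := by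
  refine Subgroup.mem_center_iff.mpr fun g => ?_
  have h1 := commutatorElement_pow_left h.class_two x g p
  rw [h.pow_eq_one (commutatorElement_mem_center_of_le h.class_two x g),
    commutatorElement_eq_one_iff_mul_comm] at h1
  exact h1.symm

theorem exists_zpow_eq [hp : Fact p.Prime] (h : CentreOrderP p E) {z w : E}
    (hz : z ∈ Subgroup.center E) (hz1 : z ≠ 1) (hw : w ∈ Subgroup.center E) :
    ∃ k : ℤ, z ^ k = w := by
  have h1 : (⟨z, hz⟩ : Subgroup.center E) ≠ 1 := fun e => hz1 (congrArg Subtype.val e)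
  obtain ⟨k, hk⟩ := Subgroup.mem_zpowers_iff.mp
    (mem_zpowers_of_prime_card (g' := (⟨w, hw⟩ : Subgroup.center E)) h.card_center h1)
  exact ⟨k, by simpa using congrArg Subtype.val hk⟩

theorem dvd_of_zpow_eq_one [hp : Fact p.Prime] (h : CentreOrderP p E) {z : E}
    (hz : z ∈ Subgroup.center E) (hz1 : z ≠ 1) {k : ℤ} (hk : z ^ k = 1) : (p : ℤ) ∣ k := by
  rw [← orderOf_eq_prime (h.pow_eq_one hz) hz1]
  exact orderOf_dvd_iff_zpow_eq_one.mpr hk

theorem exists_partner [hp : Fact p.Prime] (h : CentreOrderP p E) {x z : E}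
    (hx : x ∉ Subgroup.center E) (hz : z ∈ Subgroup.center E) : ∃ y, ⁅x, y⁆ = z := by
  obtain ⟨g, hg⟩ : ∃ g, ⁅g, x⁆ ≠ 1 := by
    by_contra hne
    simp only [not_exists, not_not] at hne
    exact hx (Subgroup.mem_center_iff.mpr fun g =>
      commutatorElement_eq_one_iff_mul_comm.mp (hne g))
  obtain ⟨k, hk⟩ := h.exists_zpow_eq (commutatorElement_mem_center_of_le h.class_two g x) hg hz
  refine ⟨g ^ (-k), ?_⟩
  have h1 : (commutatorHom h.class_two x (g ^ (-k)) : E) = ⁅g, x⁆ ^ (-k) := by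
    rw [map_zpow, Subgroup.coe_zpow, commutatorHom_apply]
  rw [commutatorHom_apply] at h1
  rw [← commutatorElement_inv, h1, zpow_neg, inv_inv, hk]

variable {x y z : E}

theorem yx_zpow (h : CentreOrderP p E) (hxy : ⁅x, y⁆ = z) (a b : ℤ) :
    y ^ b * x ^ a = z ^ (-(b * a)) * (x ^ a * y ^ b) := by
  have h1 : ∀ k : ℤ, ⁅x ^ k, y⁆ = z ^ k := fun k => by
    have := congrArg Subtype.val (map_zpow (commutatorHom h.class_two y) x k)
    simp only [commutatorHom_apply, Subgroup.coe_zpow, hxy] at this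
    exact this
  have h2 : ⁅y ^ b, x ^ a⁆ = z ^ (-(b * a)) := by
    have := congrArg Subtype.val (map_zpow (commutatorHom h.class_two (x ^ a)) y b)
    simp only [commutatorHom_apply, Subgroup.coe_zpow] at this
    rw [this, ← commutatorElement_inv, h1, inv_zpow', ← zpow_mul]
    congr 1
    ring
  rw [← h2, commutatorElement_def]
  group

/-- Every element is `c * x ^ a * y ^ b` with `c` centralizing the pair. -/
theorem exists_normal_form [Fact p.Prime] (h : CentreOrderP p E) (hxy : ⁅x, y⁆ = z) (hz1 : z ≠ 1)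
    (g : E) : ∃ c ∈ Subgroup.centralizer ({x, y} : Set E), ∃ a b : ℤ, g = c * x ^ a * y ^ b := by
  have hz : z ∈ Subgroup.center E := hxy ▸ commutatorElement_mem_center_of_le h.class_two x y
  obtain ⟨a, ha⟩ := h.exists_zpow_eq hz hz1 (commutatorElement_mem_center_of_le h.class_two g y)
  obtain ⟨b, hb⟩ := h.exists_zpow_eq hz hz1 (commutatorElement_mem_center_of_le h.class_two x g)
  refine ⟨g * y ^ (-b) * x ^ (-a), ?_, a, b, by group⟩
  have hx0 : commutatorHom h.class_two x (g * y ^ (-b) * x ^ (-a)) = 1 := by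
    refine Subtype.ext ?_
    simp only [map_mul, map_zpow, Subgroup.coe_mul, Subgroup.coe_zpow, commutatorHom_apply,
      OneMemClass.coe_one, commutatorElement_self, one_zpow, mul_one]
    rw [← commutatorElement_inv (g₁ := x), ← commutatorElement_inv (g₁ := x) (g₂ := y), ← hb, hxy]
    group
  have hy0 : commutatorHom h.class_two y (g * y ^ (-b) * x ^ (-a)) = 1 := by
    refine Subtype.ext ?_
    simp only [map_mul, map_zpow, Subgroup.coe_mul, Subgroup.coe_zpow, commutatorHom_apply,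
      OneMemClass.coe_one, commutatorElement_self, one_zpow, mul_one]
    rw [hxy, ← ha]
    group
  rw [Subgroup.mem_centralizer_iff]
  rintro w (rfl | rfl)
  · exact (commutatorElement_eq_one_iff_mul_comm.mp (congrArg Subtype.val hx0)).symm
  · exact (commutatorElement_eq_one_iff_mul_comm.mp (congrArg Subtype.val hy0)).symm

theorem comm_left {c : E} (hc : c ∈ Subgroup.centralizer ({x, y} : Set E)) : Commute x c :=
  Subgroup.mem_centralizer_iff.mp hc x (by simp)

theorem comm_right {c : E} (hc : c ∈ Subgroup.centralizer ({x, y} : Set E)) : Commute y c :=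
  Subgroup.mem_centralizer_iff.mp hc y (by simp)

theorem normal_form_mul (h : CentreOrderP p E) (hxy : ⁅x, y⁆ = z) {c' : E}
    (hc' : c' ∈ Subgroup.centralizer ({x, y} : Set E)) (c : E) (a b a' b' : ℤ) :
    c * x ^ a * y ^ b * (c' * x ^ a' * y ^ b') =
      c * c' * z ^ (-(b * a')) * x ^ (a + a') * y ^ (b + b') := by
  have hz : z ∈ Subgroup.center E := hxy ▸ commutatorElement_mem_center_of_le h.class_two x y
  have h1 : x ^ a * y ^ b * c' = c' * (x ^ a * y ^ b) :=
    ((comm_left hc').zpow_left a).mul_left ((comm_right hc').zpow_left b)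
  have h2 := Subgroup.mem_center_iff.mp (zpow_mem hz (-(b * a'))) (x ^ a)
  calc c * x ^ a * y ^ b * (c' * x ^ a' * y ^ b')
      = c * (x ^ a * y ^ b * c') * x ^ a' * y ^ b' := by simp [mul_assoc]
    _ = c * c' * (x ^ a * (y ^ b * x ^ a')) * y ^ b' := by rw [h1]; simp [mul_assoc]
    _ = c * c' * ((z ^ (-(b * a')) * x ^ a) * (x ^ a' * y ^ b)) * y ^ b' := by
        rw [yx_zpow h hxy, ← mul_assoc (x ^ a), h2]
    _ = _ := by simp [zpow_add, mul_assoc]

theorem commutatorHom_left [Fact p.Prime] (h : CentreOrderP p E) {c : E}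
    (hxy : ⁅x, y⁆ = z) (hc : c ∈ Subgroup.centralizer ({x, y} : Set E)) (a b : ℤ) :
    ⁅c * x ^ a * y ^ b, y⁆ = z ^ a ∧ ⁅c * x ^ a * y ^ b, x⁆ = z ^ (-b) := by
  have hcy : ⁅c, y⁆ = 1 := commutatorElement_eq_one_iff_mul_comm.mpr (comm_right hc).eq.symm
  have hcx : ⁅c, x⁆ = 1 := commutatorElement_eq_one_iff_mul_comm.mpr (comm_left hc).eq.symm
  constructor
  · rw [← commutatorHom_apply h.class_two, map_mul, map_mul, map_zpow, map_zpow]
    simp [commutatorHom_apply, hcy, hxy]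
  · rw [← commutatorHom_apply h.class_two, map_mul, map_mul, map_zpow, map_zpow]
    simp [commutatorHom_apply, hcx, ← commutatorElement_inv (g₁ := x) (g₂ := y), hxy, inv_zpow']

theorem normal_form_eq [Fact p.Prime] (h : CentreOrderP p E) (hxy : ⁅x, y⁆ = z) (hz1 : z ≠ 1)
    {e f : ℤ} (hxp : x ^ p = z ^ e) (hyp : y ^ p = z ^ f) {c c' : E}
    (hc : c ∈ Subgroup.centralizer ({x, y} : Set E))
    (hc' : c' ∈ Subgroup.centralizer ({x, y} : Set E)) (a b a' b' : ℤ) :
    c * x ^ a * y ^ b = c' * x ^ a' * y ^ b' ↔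
      ∃ k l : ℤ, a' = a + p * k ∧ b' = b + p * l ∧ c = c' * z ^ (e * k + f * l) := by
  have hz : z ∈ Subgroup.center E := hxy ▸ commutatorElement_mem_center_of_le h.class_two x y
  have key : ∀ k l : ℤ, c' * x ^ (a + p * k) * y ^ (b + p * l) =
      c' * z ^ (e * k + f * l) * x ^ a * y ^ b := by
    intro k l
    have h1 : x ^ (a + p * k) = z ^ (e * k) * x ^ a := by
      rw [zpow_add, zpow_mul, zpow_natCast, hxp, ← zpow_mul,
        Subgroup.mem_center_iff.mp (zpow_mem hz _)]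
    have h2 : y ^ (b + p * l) = z ^ (f * l) * y ^ b := by
      rw [zpow_add, zpow_mul, zpow_natCast, hyp, ← zpow_mul,
        Subgroup.mem_center_iff.mp (zpow_mem hz _)]
    have h3 := Subgroup.mem_center_iff.mp (zpow_mem hz (f * l)) (x ^ a)
    calc c' * x ^ (a + p * k) * y ^ (b + p * l)
        = c' * z ^ (e * k) * (x ^ a * z ^ (f * l)) * y ^ b := by rw [h1, h2]; simp [mul_assoc]
      _ = c' * z ^ (e * k) * (z ^ (f * l) * x ^ a) * y ^ b := by rw [h3]
      _ = _ := by simp [zpow_add, mul_assoc]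
  constructor
  · intro heq
    obtain ⟨h1, h2⟩ := commutatorHom_left h hxy hc a b
    obtain ⟨h3, h4⟩ := commutatorHom_left h hxy hc' a' b'
    rw [heq] at h1 h2
    rw [h3] at h1
    rw [h4] at h2
    obtain ⟨k, hk⟩ := h.dvd_of_zpow_eq_one hz hz1 (k := a' - a)
      (by rw [zpow_sub, h1, mul_inv_cancel])
    obtain ⟨l, hl⟩ := h.dvd_of_zpow_eq_one hz hz1 (k := -b - -b')
      (by rw [zpow_sub, h2, mul_inv_cancel])
    have hk' : a' = a + p * k := by omega
    have hl' : b' = b + p * l := by omega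
    refine ⟨k, l, hk', hl', ?_⟩
    rw [hk', hl', key] at heq
    exact mul_right_cancel (mul_right_cancel heq)
  · rintro ⟨k, l, rfl, rfl, rfl⟩
    exact (key k l).symm

/-- The pair centralizer again has centre of order `p`, and index `p ^ 2`. -/
theorem centralizer_pair [Finite E] [hp : Fact p.Prime] (h : CentreOrderP p E) (hxy : ⁅x, y⁆ = z)
    (hz1 : z ≠ 1) :
    CentreOrderP p (Subgroup.centralizer ({x, y} : Set E)) ∧
      (Subgroup.center (Subgroup.centralizer ({x, y} : Set E))).map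
        (Subgroup.centralizer ({x, y} : Set E)).subtype = Subgroup.center E ∧
      Nat.card E = Nat.card (Subgroup.centralizer ({x, y} : Set E)) * p ^ 2 := by
  set C := Subgroup.centralizer ({x, y} : Set E) with hC
  have hmap : (Subgroup.center C).map C.subtype = Subgroup.center E := by
    refine le_antisymm ?_ fun w hw => ⟨⟨w, Subgroup.center_le_centralizer _ hw⟩, ?_, rfl⟩
    · rintro _ ⟨w, hw, rfl⟩
      refine Subgroup.mem_center_iff.mpr fun g => ?_
      obtain ⟨c, hc, a, b, rfl⟩ := h.exists_normal_form hxy hz1 g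
      have h1 : Commute c (w : E) :=
        congrArg Subtype.val (Subgroup.mem_center_iff.mp hw (⟨c, hc⟩ : C))
      exact (h1.mul_left ((comm_left w.2).zpow_left a)).mul_left ((comm_right w.2).zpow_left b)
    · exact Subgroup.mem_center_iff.mpr fun g => Subtype.ext (Subgroup.mem_center_iff.mp hw g)
  refine ⟨⟨?_, ?_⟩, hmap, ?_⟩
  · rw [commutator_def, Subgroup.commutator_le]
    intro a _ b _
    refine Subgroup.mem_center_iff.mpr fun g => Subtype.ext ?_
    exact Subgroup.mem_center_iff.mp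
      (commutatorElement_mem_center_of_le h.class_two (a : E) b) (g : E)
  · rw [← h.card_center, ← hmap, Subgroup.card_map_of_injective C.subtype_injective]
  · have hz : z ∈ Subgroup.center E := hxy ▸ commutatorElement_mem_center_of_le h.class_two x y
    let π : E →* Subgroup.center E × Subgroup.center E :=
      (commutatorHom h.class_two y).prod (commutatorHom h.class_two x)
    have hker : π.ker = C := by
      ext g
      rw [MonoidHom.mem_ker, hC, Subgroup.mem_centralizer_iff]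
      simp only [π, MonoidHom.prod_apply, Prod.mk_eq_one, Subtype.ext_iff, commutatorHom_apply,
        OneMemClass.coe_one, commutatorElement_eq_one_iff_mul_comm]
      constructor
      · rintro ⟨h1, h2⟩ w (rfl | rfl)
        · exact h2.symm
        · exact h1.symm
      · intro hg
        exact ⟨(hg y (by simp)).symm, (hg x (by simp)).symm⟩
    have hsurj : Function.Surjective π := by
      rintro ⟨⟨u, hu⟩, ⟨w, hw⟩⟩
      obtain ⟨a, ha⟩ := h.exists_zpow_eq hz hz1 hu
      obtain ⟨b, hb⟩ := h.exists_zpow_eq hz hz1 hw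
      obtain ⟨h1, h2⟩ := commutatorHom_left h hxy (one_mem C) a (-b)
      exact ⟨1 * x ^ a * y ^ (-b), Prod.ext (Subtype.ext (h1.trans ha))
        (Subtype.ext (h2.trans (by rw [neg_neg, hb])))⟩
    have h3 : π.ker.index = p * p := by
      rw [Subgroup.index_ker, MonoidHom.range_eq_top.mpr hsurj, Subgroup.card_top, Nat.card_prod,
        h.card_center]
    rw [← Subgroup.card_mul_index C, ← hker, h3, pow_two]

/-- Gluing: an isomorphism of pair centralizers extends. -/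
theorem exists_extend_equiv {E' : Type v} [Group E'] [Finite E] [Finite E'] [hp : Fact p.Prime]
    (h : CentreOrderP p E) (h' : CentreOrderP p E') {x' y' z' : E'} (hxy : ⁅x, y⁆ = z)
    (hxy' : ⁅x', y'⁆ = z') (hz1 : z ≠ 1) (hz1' : z' ≠ 1) {e f : ℤ} (hxp : x ^ p = z ^ e)
    (hyp : y ^ p = z ^ f) (hxp' : x' ^ p = z' ^ e) (hyp' : y' ^ p = z' ^ f)
    (φ : Subgroup.centralizer ({x, y} : Set E) ≃* Subgroup.centralizer ({x', y'} : Set E'))
    (hφ : ∀ hm : z ∈ Subgroup.centralizer ({x, y} : Set E), (φ ⟨z, hm⟩ : E') = z') :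
    ∃ ψ : E ≃* E', ψ z = z' := by
  have hz : z ∈ Subgroup.center E := hxy ▸ commutatorElement_mem_center_of_le h.class_two x y
  revert φ hφ
  set C := Subgroup.centralizer ({x, y} : Set E) with hC
  intro φ hφ
  have hzC : z ∈ C := Subgroup.center_le_centralizer _ hz
  choose c hc a b hg using h.exists_normal_form hxy hz1
  let F : E → E' := fun g => (φ ⟨c g, hc g⟩ : E') * x' ^ a g * y' ^ b g
  have hval : ∀ (d : E) (hd : d ∈ C) (i j : ℤ),
      F (d * x ^ i * y ^ j) = (φ ⟨d, hd⟩ : E') * x' ^ i * y' ^ j := by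
    intro d hd i j
    obtain ⟨k, l, hk, hl, he⟩ :=
      (h.normal_form_eq hxy hz1 hxp hyp hd (hc _) i j _ _).mp (hg (d * x ^ i * y ^ j))
    have h1 : (⟨d, hd⟩ : C) = ⟨c _, hc (d * x ^ i * y ^ j)⟩ * ⟨z, hzC⟩ ^ (e * k + f * l) :=
      Subtype.ext (by simpa using he)
    refine ((h'.normal_form_eq hxy' hz1' hxp' hyp' (φ ⟨d, hd⟩).2
      (φ ⟨c _, hc _⟩).2 i j _ _).mpr ⟨k, l, hk, hl, ?_⟩).symm
    rw [h1, map_mul, map_zpow, Subgroup.coe_mul, Subgroup.coe_zpow, hφ hzC]
  have hmul : ∀ g g', F (g * g') = F g * F g' := by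
    intro g g'
    conv_lhs => rw [hg g, hg g', h.normal_form_mul hxy (hc g')]
    have hm : c g * c g' * z ^ (-(b g * a g')) ∈ C :=
      mul_mem (mul_mem (hc g) (hc g')) (zpow_mem hzC _)
    rw [hval _ hm, h'.normal_form_mul hxy' (φ ⟨c g', hc g'⟩).2]
    congr 2
    rw [show (⟨_, hm⟩ : C) = ⟨c g, hc g⟩ * ⟨c g', hc g'⟩ * ⟨z, hzC⟩ ^ (-(b g * a g')) from
      Subtype.ext (by simp), map_mul, map_mul, map_zpow]
    simp [hφ hzC]
  have hinj : Function.Injective (MonoidHom.mk' F hmul) := by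
    refine (injective_iff_map_eq_one _).mpr fun g hg1 => ?_
    have h2 : (φ ⟨c g, hc g⟩ : E') * x' ^ a g * y' ^ b g = 1 * x' ^ (0 : ℤ) * y' ^ (0 : ℤ) := by
      simpa using hg1
    obtain ⟨k, l, hk, hl, he⟩ :=
      (h'.normal_form_eq hxy' hz1' hxp' hyp' (φ ⟨c g, hc g⟩).2 (one_mem _) _ _ _ _).mp h2
    rw [hg g, show (1 : E) = 1 * x ^ (0 : ℤ) * y ^ (0 : ℤ) by simp]
    refine (h.normal_form_eq hxy hz1 hxp hyp (hc g) (one_mem _) _ _ _ _).mpr ⟨k, l, hk, hl, ?_⟩
    have h1 : (⟨c g, hc g⟩ : C) = ⟨z, hzC⟩ ^ (e * k + f * l) := by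
      refine φ.injective (Subtype.ext ?_)
      rw [map_zpow, Subgroup.coe_zpow, hφ hzC]
      simpa using he
    simpa using congrArg Subtype.val h1
  have hcard : Nat.card E' ≤ Nat.card E := by
    rw [(h.centralizer_pair hxy hz1).2.2, (h'.centralizer_pair hxy' hz1').2.2,
      Nat.card_congr φ.toEquiv]
  refine ⟨MulEquiv.ofBijective _ (hinj.bijective_of_nat_card_le hcard), ?_⟩
  have h1 := hval z hzC 0 0
  simp only [zpow_zero, mul_one, hφ hzC] at h1
  exact h1

/-- Groups equal to their centre: of order `p`. -/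
theorem exists_equiv_of_center_top {E' : Type v} [Group E'] [Finite E] [Finite E']
    [hp : Fact p.Prime] (h : CentreOrderP p E) (h' : CentreOrderP p E')
    (hE : Nat.card E = p) (hE' : Nat.card E' = p) {z' : E'} (hz : z ≠ 1) (hz' : z' ≠ 1) :
    ∃ ψ : E ≃* E', ψ z = z' := by
  have g1 : ∀ g, g ∈ Subgroup.zpowers z := fun g => mem_zpowers_of_prime_card hE hz
  have g2 : ∀ g, g ∈ Subgroup.zpowers z' := fun g => mem_zpowers_of_prime_card hE' hz'
  have ho : orderOf z = orderOf z' := by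
    rw [orderOf_eq_prime (by have := pow_card_eq_one' (x := z); rwa [hE] at this) hz,
      orderOf_eq_prime (by have := pow_card_eq_one' (x := z'); rwa [hE'] at this) hz']
  exact ⟨mulEquivOfOrderOfEq g1 g2 ho, mulEquivOfOrderOfEq_apply_gen g1 g2 ho⟩

theorem card_eq_prime_of_center_top (h : CentreOrderP p E) (hE : Subgroup.center E = ⊤) :
    Nat.card E = p := by
  rw [← h.card_center, hE, Subgroup.card_top]

theorem exists_pair [Fact p.Prime] (h : CentreOrderP p E) (hE : Subgroup.center E ≠ ⊤)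
    (hz : z ∈ Subgroup.center E) : ∃ x y : E, ⁅x, y⁆ = z := by
  obtain ⟨x, hx⟩ : ∃ x, x ∉ Subgroup.center E := by
    by_contra hne
    simp only [not_exists, not_not] at hne
    exact hE (eq_top_iff.mpr fun x _ => hne x)
  obtain ⟨y, hy⟩ := h.exists_partner hx hz
  exact ⟨x, y, hy⟩

theorem exists_center_ne_one [hp : Fact p.Prime] (h : CentreOrderP p E) :
    ∃ z ∈ Subgroup.center E, z ≠ 1 := by
  have : Finite (Subgroup.center E) :=
    Nat.finite_of_card_ne_zero (h.card_center ▸ hp.out.ne_zero)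
  have : Nontrivial (Subgroup.center E) :=
    Finite.one_lt_card_iff_nontrivial.mp (h.card_center ▸ hp.out.one_lt)
  obtain ⟨z, hz⟩ := exists_ne (1 : Subgroup.center E)
  exact ⟨z, z.2, fun e => hz (Subtype.ext e)⟩

theorem center_ne_top_iff_card [hp : Fact p.Prime] [Finite E] (h : CentreOrderP p E) :
    Subgroup.center E ≠ ⊤ ↔ Nat.card E ≠ p := by
  refine not_congr ⟨h.card_eq_prime_of_center_top, fun hE => ?_⟩
  exact Subgroup.eq_top_of_card_eq _ (h.card_center.trans hE.symm)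

theorem pair_subgroup_card_lt [Finite E] [hp : Fact p.Prime] (h : CentreOrderP p E)
    (hxy : ⁅x, y⁆ = z) (hz1 : z ≠ 1) :
    Nat.card (Subgroup.centralizer ({x, y} : Set E)) < Nat.card E := by
  rw [(h.centralizer_pair hxy hz1).2.2]
  exact lt_mul_of_one_lt_right Nat.card_pos (Nat.one_lt_pow two_ne_zero hp.out.one_lt)

theorem mem_center_centralizer_pair (hz : z ∈ Subgroup.center E) :
    (⟨z, Subgroup.center_le_centralizer _ hz⟩ : Subgroup.centralizer ({x, y} : Set E)) ∈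
      Subgroup.center _ :=
  Subgroup.mem_center_iff.mpr fun g => Subtype.ext (Subgroup.mem_center_iff.mp hz g)

/-- The order is an odd power of `p`. -/
theorem exists_card_eq [Finite E] [hp : Fact p.Prime] (h : CentreOrderP p E) :
    ∃ n : ℕ, Nat.card E = p ^ (2 * n + 1) := by
  suffices key : ∀ (N : ℕ) (E : Type u) [Group E] [Finite E], CentreOrderP p E → Nat.card E = N →
      ∃ n : ℕ, N = p ^ (2 * n + 1) from key _ E h rfl
  intro N
  induction N using Nat.strong_induction_on with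
  | _ N ih =>
    intro E _ _ h hN
    by_cases hE : Subgroup.center E = ⊤
    · exact ⟨0, by rw [← hN, h.card_eq_prime_of_center_top hE]; simp⟩
    obtain ⟨z, hz, hz1⟩ := h.exists_center_ne_one
    obtain ⟨x, y, hxy⟩ := h.exists_pair hE hz
    obtain ⟨hC, -, hcard⟩ := h.centralizer_pair hxy hz1
    obtain ⟨n, hn⟩ := ih _ (hN ▸ h.pair_subgroup_card_lt hxy hz1) _ hC rfl
    exact ⟨n + 1, by rw [← hN, hcard, hn, ← pow_add]; congr 1⟩

/-- Exponent `p`: determined by the order. -/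
theorem exists_equiv_exponent_p {E' : Type v} [Group E'] [Finite E] [Finite E'] [hp : Fact p.Prime]
    (h : CentreOrderP p E) (h' : CentreOrderP p E') (hE : ∀ g : E, g ^ p = 1)
    (hE' : ∀ g : E', g ^ p = 1) (hcard : Nat.card E = Nat.card E') {z' : E'}
    (hz : z ∈ Subgroup.center E) (hz1 : z ≠ 1) (hz' : z' ∈ Subgroup.center E') (hz1' : z' ≠ 1) :
    ∃ ψ : E ≃* E', ψ z = z' := by
  suffices key : ∀ (N : ℕ) (E : Type u) (E' : Type v) [Group E] [Group E'] [Finite E] [Finite E'],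
      CentreOrderP p E → CentreOrderP p E' → (∀ g : E, g ^ p = 1) → (∀ g : E', g ^ p = 1) →
      Nat.card E = N → Nat.card E' = N → ∀ (z : E) (z' : E'), z ∈ Subgroup.center E → z ≠ 1 →
      z' ∈ Subgroup.center E' → z' ≠ 1 → ∃ ψ : E ≃* E', ψ z = z' from
    key _ E E' h h' hE hE' rfl hcard.symm z z' hz hz1 hz' hz1'
  intro N
  induction N using Nat.strong_induction_on with
  | _ N ih =>
    intro E E' _ _ _ _ h h' hE hE' hN hN' z z' hz hz1 hz' hz1'
    by_cases hc : Nat.card E = p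
    · exact exists_equiv_of_center_top h h' hc (hN'.trans (hN.symm.trans hc)) hz1 hz1'
    obtain ⟨x, y, hxy⟩ := h.exists_pair (h.center_ne_top_iff_card.mpr hc) hz
    obtain ⟨x', y', hxy'⟩ := h'.exists_pair
      (h'.center_ne_top_iff_card.mpr fun e => hc (hN.trans (hN'.symm.trans e))) hz'
    obtain ⟨hC, -, hcard⟩ := h.centralizer_pair hxy hz1
    obtain ⟨hC', -, hcard'⟩ := h'.centralizer_pair hxy' hz1'
    obtain ⟨φ, hφ⟩ := ih _ (hN ▸ h.pair_subgroup_card_lt hxy hz1) _ _ hC hC'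
      (fun g => Subtype.ext (hE g)) (fun g => Subtype.ext (hE' g)) rfl
      (Nat.eq_of_mul_eq_mul_right (pow_pos hp.out.pos 2) (hcard'.symm.trans (hN'.trans
        (hN.symm.trans hcard))))
      ⟨z, Subgroup.center_le_centralizer _ hz⟩ ⟨z', Subgroup.center_le_centralizer _ hz'⟩
      (mem_center_centralizer_pair hz) (fun e => hz1 (congrArg Subtype.val e))
      (mem_center_centralizer_pair hz') (fun e => hz1' (congrArg Subtype.val e))
    exact exists_extend_equiv h h' hxy hxy' hz1 hz1' (e := 0) (f := 0)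
      (by rw [hE, zpow_zero]) (by rw [hE, zpow_zero]) (by rw [hE', zpow_zero])
      (by rw [hE', zpow_zero]) φ (fun _ => congrArg Subtype.val hφ)

/-- For `p = 2`: a pair of involutions, or order 8 and a pair squaring to `z`. -/
theorem exists_normalized_pair [Finite E] (h : CentreOrderP 2 E) (hz : z ∈ Subgroup.center E)
    (hz1 : z ≠ 1) (hE : Nat.card E ≠ 2) :
    (∃ x y : E, ⁅x, y⁆ = z ∧ x ^ 2 = z ^ (0 : ℤ) ∧ y ^ 2 = z ^ (0 : ℤ)) ∨
      Nat.card E = 8 ∧ ∃ x y : E, ⁅x, y⁆ = z ∧ x ^ 2 = z ^ (1 : ℤ) ∧ y ^ 2 = z ^ (1 : ℤ) := by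
  have : Fact (Nat.Prime 2) := ⟨Nat.prime_two⟩
  have hsq : ∀ g : E, g ^ 2 = 1 ∨ g ^ 2 = z := by
    intro g
    obtain ⟨k, hk⟩ := h.exists_zpow_eq hz hz1 (h.pow_mem_center g)
    have hz2 : z ^ (2 : ℤ) = 1 := by exact_mod_cast h.pow_eq_one hz
    rcases Int.emod_two_eq_zero_or_one k with hk2 | hk2
    · left; rw [← hk, show k = 2 * (k / 2) by omega, zpow_mul, hz2, one_zpow]
    · right
      rw [← hk, show k = 2 * (k / 2) + 1 by omega, zpow_add, zpow_mul, hz2, one_zpow, one_mul,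
        zpow_one]
  by_cases hinv : ∃ x : E, x ∉ Subgroup.center E ∧ x ^ 2 = 1
  · obtain ⟨x, hx, hx2⟩ := hinv
    obtain ⟨y, hy⟩ := h.exists_partner hx hz
    left
    rcases hsq y with hy2 | hy2
    · exact ⟨x, y, hy, by simpa using hx2, by simpa using hy2⟩
    · refine ⟨x, x * y, ?_, by simpa using hx2, ?_⟩
      · rw [commutatorElement_mul_right_central (hy ▸ hz), commutatorElement_self, one_mul, hy]
      · have hzz : z * z = 1 := by rw [← pow_two, h.pow_eq_one hz]
        rw [zpow_zero, pow_two]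
        have e2 : x * y * (x * y) = ⁅x, y⁆ * (y * (x * (x * y))) := by
          rw [commutatorElement_def]; simp [mul_assoc]
        rw [e2, ← mul_assoc x x, ← pow_two x, hx2, one_mul, ← pow_two y, hy2, hy, hzz]
  · right
    simp only [not_exists, not_and] at hinv
    have hnc : ∀ x : E, x ∉ Subgroup.center E → x ^ 2 = z ^ (1 : ℤ) := fun x hx => by
      rw [zpow_one]; exact (hsq x).resolve_left (hinv x hx)
    obtain ⟨x, y, hxy⟩ := h.exists_pair (h.center_ne_top_iff_card.mpr hE) hz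
    have hx : x ∉ Subgroup.center E := fun hx => hz1 (hxy ▸
      commutatorElement_eq_one_iff_mul_comm.mpr (Subgroup.mem_center_iff.mp hx y).symm)
    have hy : y ∉ Subgroup.center E := fun hy => hz1 (hxy ▸
      commutatorElement_eq_one_iff_mul_comm.mpr (Subgroup.mem_center_iff.mp hy x))
    refine ⟨?_, x, y, hxy, hnc x hx, hnc y hy⟩
    obtain ⟨hC, hmap, hcard⟩ := h.centralizer_pair hxy hz1
    rw [hcard]
    suffices Nat.card (Subgroup.centralizer ({x, y} : Set E)) = 2 by rw [this]; rfl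
    refine hC.card_eq_prime_of_center_top (eq_top_iff.mpr fun c _ => ?_)
    by_contra hc
    have hcE : (c : E) ∉ Subgroup.center E := fun h1 => hc
      (Subgroup.mem_center_iff.mpr fun g => Subtype.ext (Subgroup.mem_center_iff.mp h1 g))
    have hxc : x * c ∉ Subgroup.center E := by
      intro h1
      refine hz1 (hxy ▸ commutatorElement_eq_one_iff_mul_comm.mpr ?_)
      have h2 := Subgroup.mem_center_iff.mp h1 y
      have h3 : y * (c : E) = c * y := comm_right c.2
      rw [← mul_assoc, mul_assoc x, ← h3, ← mul_assoc] at h2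
      exact (mul_right_cancel h2).symm
    refine hinv _ hxc ?_
    rw [(comm_left c.2).mul_pow, hnc x hx, hnc c hcE, zpow_one, ← pow_two, h.pow_eq_one hz]

/-- Gluing in order eight. -/
theorem glue_eight {A : Type _} {B : Type _} [Group A] [Group B] [Finite A] [Finite B] [Fact (Nat.Prime 2)]
    (hA : CentreOrderP 2 A) (hB : CentreOrderP 2 B) (nA : Nat.card A = 8) (nB : Nat.card B = 8)
    {a b z : A} {a' b' z' : B} (c : ⁅a, b⁆ = z) (c' : ⁅a', b'⁆ = z') (o : z ≠ 1) (o' : z' ≠ 1)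
    {e f : ℤ} (hp1 : a ^ 2 = z ^ e) (hq1 : b ^ 2 = z ^ f) (hp2 : a' ^ 2 = z' ^ e)
    (hq2 : b' ^ 2 = z' ^ f) : ∃ ψ : A ≃* B, ψ z = z' := by
  obtain ⟨kA, -, mA⟩ := hA.centralizer_pair c o
  obtain ⟨kB, -, mB⟩ := hB.centralizer_pair c' o'
  rw [nA] at mA
  rw [nB] at mB
  have hz : z ∈ Subgroup.center A := c ▸ commutatorElement_mem_center_of_le hA.class_two a b
  have hz' : z' ∈ Subgroup.center B := c' ▸ commutatorElement_mem_center_of_le hB.class_two a' b'
  obtain ⟨φ, hφ⟩ := exists_equiv_of_center_top kA kB (by omega) (by omega)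
    (z := ⟨z, Subgroup.center_le_centralizer _ hz⟩)
    (z' := ⟨z', Subgroup.center_le_centralizer _ hz'⟩)
    (fun e => o (congrArg Subtype.val e)) (fun e => o' (congrArg Subtype.val e))
  exact exists_extend_equiv hA hB c c' o o' hp1 hq1 hp2 hq2 φ fun _ => congrArg Subtype.val hφ

/-- Two types of extraspecial 2-groups of each order. -/
theorem exists_equiv_of_three {E₁ : Type u} {E₂ : Type v} {E₃ : Type w} [Group E₁] [Group E₂]
    [Group E₃] [Finite E₁] [Finite E₂] [Finite E₃] (h₁ : CentreOrderP 2 E₁)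
    (h₂ : CentreOrderP 2 E₂) (h₃ : CentreOrderP 2 E₃) (h12 : Nat.card E₁ = Nat.card E₂)
    (h23 : Nat.card E₂ = Nat.card E₃) {z₁ : E₁} {z₂ : E₂} {z₃ : E₃}
    (hz₁ : z₁ ∈ Subgroup.center E₁) (o₁ : z₁ ≠ 1) (hz₂ : z₂ ∈ Subgroup.center E₂) (o₂ : z₂ ≠ 1)
    (hz₃ : z₃ ∈ Subgroup.center E₃) (o₃ : z₃ ≠ 1) :
    (∃ ψ : E₁ ≃* E₂, ψ z₁ = z₂) ∨ (∃ ψ : E₂ ≃* E₃, ψ z₂ = z₃) ∨ ∃ ψ : E₁ ≃* E₃, ψ z₁ = z₃ := by
  have : Fact (Nat.Prime 2) := ⟨Nat.prime_two⟩
  suffices key : ∀ (N : ℕ) (E₁ : Type u) (E₂ : Type v) (E₃ : Type w) [Group E₁] [Group E₂]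
      [Group E₃] [Finite E₁] [Finite E₂] [Finite E₃], CentreOrderP 2 E₁ → CentreOrderP 2 E₂ →
      CentreOrderP 2 E₃ → Nat.card E₁ = N → Nat.card E₂ = N → Nat.card E₃ = N →
      ∀ (z₁ : E₁) (z₂ : E₂) (z₃ : E₃), z₁ ∈ Subgroup.center E₁ → z₁ ≠ 1 →
      z₂ ∈ Subgroup.center E₂ → z₂ ≠ 1 → z₃ ∈ Subgroup.center E₃ → z₃ ≠ 1 →
      (∃ ψ : E₁ ≃* E₂, ψ z₁ = z₂) ∨ (∃ ψ : E₂ ≃* E₃, ψ z₂ = z₃) ∨ ∃ ψ : E₁ ≃* E₃, ψ z₁ = z₃ from
    key _ E₁ E₂ E₃ h₁ h₂ h₃ rfl h12.symm (h23.symm.trans h12.symm) z₁ z₂ z₃ hz₁ o₁ hz₂ o₂ hz₃ o₃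
  intro N
  induction N using Nat.strong_induction_on with
  | _ N ih =>
    intro E₁ E₂ E₃ _ _ _ _ _ _ h₁ h₂ h₃ n₁ n₂ n₃ z₁ z₂ z₃ hz₁ o₁ hz₂ o₂ hz₃ o₃
    by_cases hN : N = 2
    · subst hN
      exact Or.inl (exists_equiv_of_center_top h₁ h₂ n₁ n₂ o₁ o₂)
    have c₁ := h₁.exists_normalized_pair hz₁ o₁ (n₁ ▸ hN)
    have c₂ := h₂.exists_normalized_pair hz₂ o₂ (n₂ ▸ hN)
    have c₃ := h₃.exists_normalized_pair hz₃ o₃ (n₃ ▸ hN)
    by_cases h8 : N = 8
    · -- order eight: the pair centralizer is the centre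
      rcases c₁ with ⟨a₁, b₁, c₁, p₁, q₁⟩ | ⟨-, a₁, b₁, c₁, p₁, q₁⟩ <;>
      rcases c₂ with ⟨a₂, b₂, c₂, p₂, q₂⟩ | ⟨-, a₂, b₂, c₂, p₂, q₂⟩ <;>
      rcases c₃ with ⟨a₃, b₃, c₃, p₃, q₃⟩ | ⟨-, a₃, b₃, c₃, p₃, q₃⟩
      all_goals
        first
        | exact Or.inl (glue_eight h₁ h₂ (n₁.trans h8) (n₂.trans h8) c₁ c₂ o₁ o₂ p₁ q₁ p₂ q₂)
        | exact Or.inr (Or.inl
            (glue_eight h₂ h₃ (n₂.trans h8) (n₃.trans h8) c₂ c₃ o₂ o₃ p₂ q₂ p₃ q₃))
        | exact Or.inr (Or.inr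
            (glue_eight h₁ h₃ (n₁.trans h8) (n₃.trans h8) c₁ c₃ o₁ o₃ p₁ q₁ p₃ q₃))
    · obtain ⟨a₁, b₁, c₁, p₁, q₁⟩ := c₁.resolve_right (fun e => h8 (n₁.symm.trans e.1))
      obtain ⟨a₂, b₂, c₂, p₂, q₂⟩ := c₂.resolve_right (fun e => h8 (n₂.symm.trans e.1))
      obtain ⟨a₃, b₃, c₃, p₃, q₃⟩ := c₃.resolve_right (fun e => h8 (n₃.symm.trans e.1))
      obtain ⟨k₁, -, m₁⟩ := h₁.centralizer_pair c₁ o₁
      obtain ⟨k₂, -, m₂⟩ := h₂.centralizer_pair c₂ o₂
      obtain ⟨k₃, -, m₃⟩ := h₃.centralizer_pair c₃ o₃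
      rw [n₁] at m₁
      rw [n₂] at m₂
      rw [n₃] at m₃
      rcases ih _ (n₁ ▸ h₁.pair_subgroup_card_lt c₁ o₁) _ _ _ k₁ k₂ k₃ rfl (by omega) (by omega)
        ⟨z₁, Subgroup.center_le_centralizer _ hz₁⟩ ⟨z₂, Subgroup.center_le_centralizer _ hz₂⟩
        ⟨z₃, Subgroup.center_le_centralizer _ hz₃⟩
        (mem_center_centralizer_pair hz₁) (fun e => o₁ (congrArg Subtype.val e))
        (mem_center_centralizer_pair hz₂) (fun e => o₂ (congrArg Subtype.val e))
        (mem_center_centralizer_pair hz₃) (fun e => o₃ (congrArg Subtype.val e))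
        with ⟨φ, hφ⟩ | ⟨φ, hφ⟩ | ⟨φ, hφ⟩
      · exact Or.inl (exists_extend_equiv h₁ h₂ c₁ c₂ o₁ o₂ p₁ q₁ p₂ q₂ φ
          fun _ => congrArg Subtype.val hφ)
      · exact Or.inr (Or.inl (exists_extend_equiv h₂ h₃ c₂ c₃ o₂ o₃ p₂ q₂ p₃ q₃ φ
          fun _ => congrArg Subtype.val hφ))
      · exact Or.inr (Or.inr (exists_extend_equiv h₁ h₃ c₁ c₃ o₁ o₃ p₁ q₁ p₃ q₃ φ
          fun _ => congrArg Subtype.val hφ))

end CentreOrderP

end CfsgLib.Transfer
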