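import Cfsg.Agent.Lib.Transfer.Tate
import Mathlib.GroupTheory.SpecificGroups.Quaternion
import Mathlib.LinearAlgebra.Matrix.SpecialLinearGroup
import Mathlib.LinearAlgebra.Matrix.Notation
import Mathlib.GroupTheory.SpecificGroups.Cyclic
import Mathlib.Data.Fintype.Prod
import Mathlib.Tactic.FinCases
import Mathlib.Algebra.Field.ZMod

/-!
# Generalized quaternion Sylow 2-subgroups: `SL(2,3)` sections
-/

set_option autoImplicit false

namespace CfsgLib.Transfer

open Cfsg

universe u v

/-- An automorphism `σ` with `σ ^ m = 1` fixes `y` when `σ y = y * a` with `a` a fixed element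
whose order is prime to `m`. -/
theorem fix_of_mul_fixed {D : Type u} [Group D] (σ : MulAut D) {m : ℕ} (hm : σ ^ m = 1) {y a : D}
    (hy : σ y = y * a) (ha : σ a = a) (hcop : Nat.Coprime (orderOf a) m) : σ y = y := by
  have key : ∀ i : ℕ, (σ ^ i) y = y * a ^ i := by
    intro i
    induction i with
    | zero => simp
    | succ i ih => rw [pow_succ', MulAut.mul_apply, ih, map_mul, map_pow, hy, ha, pow_succ', mul_assoc]
  have h1 := key m
  rw [hm, MulAut.one_apply, left_eq_mul] at h1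
  have h2 : orderOf a ∣ 1 := hcop.gcd_eq_one ▸ Nat.dvd_gcd dvd_rfl (orderOf_dvd_of_pow_eq_one h1)
  rw [hy, orderOf_eq_one_iff.mp (Nat.dvd_one.mp h2), mul_one]

/-- An automorphism of odd order fixes every element of an invariant cyclic 2-subgroup. -/
theorem fix_cyclic_two_subgroup {D : Type u} [Group D] [Finite D] (σ : MulAut D) {m : ℕ}
    (hm : σ ^ m = 1) (hodd : Odd m) {C : Subgroup D} [IsCyclic C] (hC : IsPGroup 2 C)
    (hinv : ∀ x ∈ C, σ x ∈ C) : ∀ x ∈ C, σ x = x := by
  suffices key : ∀ (N : ℕ), ∀ x ∈ C, orderOf x = N → σ x = x from fun x hx => key _ x hx rfl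
  intro N
  induction N using Nat.strong_induction_on with
  | _ N ih =>
    intro x hx hN
    have : Fact (Nat.Prime 2) := ⟨Nat.prime_two⟩
    obtain ⟨r, hr⟩ := IsPGroup.iff_orderOf.mp hC ⟨x, hx⟩
    rw [Subgroup.orderOf_mk, hN] at hr
    rcases Nat.eq_zero_or_pos r with rfl | hr0
    · rw [orderOf_eq_one_iff.mp (hN.trans (by simpa using hr)), map_one]
    have hox : orderOf (σ x) = N := by rw [MulEquiv.orderOf_eq, hN]
    obtain ⟨k, hk⟩ : ∃ k : ℕ, x ^ k = σ x := by
      have h1 : (⟨σ x, hinv x hx⟩ : C) ∈ Subgroup.zpowers (⟨x, hx⟩ : C) := by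
        have : Subgroup.zpowers (⟨x, hx⟩ : C) = Subgroup.zpowers ⟨σ x, hinv x hx⟩ := by
          open scoped IsMulCommutative in
          have hkey : ∀ y : C, orderOf y = N →
              Subgroup.zpowers y = (powMonoidHom N : C →* C).ker := by
            intro y hy
            refine Subgroup.eq_of_le_of_card_ge ?_ ?_
            · rw [Subgroup.zpowers_le, MonoidHom.mem_ker, powMonoidHom_apply, ← hy]
              exact pow_orderOf_eq_one y
            · rw [IsCyclic.card_powMonoidHom_ker, Nat.card_zpowers, hy]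
              exact Nat.gcd_le_right _ (hr ▸ pow_pos (by decide) r)
          rw [hkey _ (by rw [Subgroup.orderOf_mk, hN]), hkey _ (by rw [Subgroup.orderOf_mk, hox])]
        rw [this]
        exact Subgroup.mem_zpowers _
      rw [← mem_powers_iff_mem_zpowers, Submonoid.mem_powers_iff] at h1
      obtain ⟨k, hk⟩ := h1
      exact ⟨k, congrArg Subtype.val hk⟩
    have hkodd : k % 2 = 1 := by
      by_contra h
      have hk0 : k = 2 * (k / 2) := by omega
      have h1 : (σ x) ^ 2 ^ (r - 1) = 1 := by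
        rw [← hk, hk0, mul_comm 2, pow_mul, ← pow_mul, ← pow_succ', Nat.sub_add_cancel hr0,
          pow_right_comm, ← hr, ← hN, pow_orderOf_eq_one, one_pow]
      have h2 := orderOf_dvd_of_pow_eq_one h1
      rw [hox, hr, Nat.pow_dvd_pow_iff_le_right (by omega)] at h2
      omega
    have hlt : orderOf (x ^ (k - 1)) < N := by
      have h1 : (x ^ (k - 1)) ^ 2 ^ (r - 1) = 1 := by
        rw [show k - 1 = 2 * ((k - 1) / 2) by omega, mul_comm 2, pow_mul, ← pow_mul, ← pow_succ',
          Nat.sub_add_cancel hr0, pow_right_comm, ← hr, ← hN, pow_orderOf_eq_one, one_pow]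
      refine lt_of_le_of_lt (Nat.le_of_dvd (pow_pos (by omega) _) (orderOf_dvd_of_pow_eq_one h1)) ?_
      rw [hr]
      exact Nat.pow_lt_pow_right (by omega) (by omega)
    refine fix_of_mul_fixed σ hm (a := x ^ (k - 1)) ?_ (ih _ hlt _ (pow_mem hx _) rfl) ?_
    · rw [← pow_succ', Nat.sub_add_cancel (by omega), hk]
    · obtain ⟨s, hs⟩ := IsPGroup.iff_orderOf.mp hC ⟨_, pow_mem hx (k - 1)⟩
      rw [Subgroup.orderOf_mk] at hs
      rw [hs]
      exact Nat.Coprime.pow_left _ (Nat.coprime_two_left.mpr hodd)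

/-- The configuration forced by a nontrivial automorphism of odd order of a subgroup of a
generalized quaternion group. -/
theorem quaternion_subgroup_config {D : Type u} [Group D] [Finite D] {l : ℕ} [NeZero l]
    (hl : ∃ e, l = 2 ^ e) (ι : D →* QuaternionGroup l) (hι : Function.Injective ι)
    (σ : MulAut D) {m : ℕ} (hm : σ ^ m = 1) (hodd : Odd m) (hσ : σ ≠ 1) :
    ∃ a y : D, σ a = y ∧ σ y = a * y ∧ orderOf a = 4 ∧ y ^ 2 = a ^ 2 ∧ y * a * y⁻¹ = a⁻¹ ∧
      y ∉ Subgroup.zpowers a ∧ (∀ d : D, d ∈ Subgroup.zpowers a ∨ d * y⁻¹ ∈ Subgroup.zpowers a) ∧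
      σ ^ 3 = 1 := by
  obtain ⟨e, he⟩ := hl
  have hD2 : IsPGroup 2 D := by
    refine IsPGroup.of_injective ?_ ι hι
    refine IsPGroup.of_card (n := e + 2) ?_
    rw [Nat.card_eq_fintype_card, QuaternionGroup.card, he, pow_add, mul_comm (2 ^ e)]
    norm_num
  let A : Subgroup (QuaternionGroup l) := Subgroup.zpowers (QuaternionGroup.a 1)
  have hA : ∀ i, QuaternionGroup.a i ∈ A := fun i => by
    have h := Subgroup.pow_mem _ (Subgroup.mem_zpowers (QuaternionGroup.a (1 : ZMod (2 * l)))) i.val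
    rwa [QuaternionGroup.a_one_pow, ZMod.natCast_zmod_val] at h
  have hAc : ∀ x, x ∈ A → ∃ i, x = QuaternionGroup.a i := by
    intro x hx
    rw [← mem_powers_iff_mem_zpowers, Submonoid.mem_powers_iff] at hx
    obtain ⟨k, rfl⟩ := hx
    exact ⟨k, QuaternionGroup.a_one_pow k⟩
  let C : Subgroup D := A.comap ι
  have : IsCyclic C := isCyclic_of_injective ((ι.comp C.subtype).codRestrict A fun c => c.2)
    (fun a b h => Subtype.ext (hι (congrArg Subtype.val h)))
  have hCp : IsPGroup 2 C := hD2.to_subgroup C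
  have hout : ∀ d : D, d ∉ C → ∃ i, ι d = QuaternionGroup.xa i := by
    intro d hd
    rcases hq : ι d with i | i
    · exact absurd (show ι d ∈ A from hq ▸ hA i) hd
    · exact ⟨i, rfl⟩
  have hsq : ∀ d : D, d ∉ C → ι (d ^ 2) = QuaternionGroup.a (l : ZMod (2 * l)) := by
    intro d hd
    obtain ⟨i, hi⟩ := hout d hd
    rw [map_pow, hi, pow_two, QuaternionGroup.xa_mul_xa, add_sub_cancel_right]
  have hord : ∀ d : D, d ∉ C → orderOf d = 4 := by
    intro d hd
    obtain ⟨i, hi⟩ := hout d hd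
    rw [← orderOf_injective ι hι, hi, QuaternionGroup.orderOf_xa]
  have hinvC : ∀ d y : D, d ∈ C → y ∉ C → y * d * y⁻¹ = d⁻¹ := by
    intro d y hd hy
    obtain ⟨i, hi⟩ := hout y hy
    obtain ⟨j, hj⟩ := hAc _ hd
    refine mul_inv_eq_iff_eq_mul.mpr (hι ?_)
    rw [map_mul, map_mul, map_inv, hi, hj, QuaternionGroup.xa_mul_a]
    rw [show (QuaternionGroup.a j : QuaternionGroup l)⁻¹ = QuaternionGroup.a (-j) from rfl,
      QuaternionGroup.a_mul_xa]
    simp [add_comm]
  -- `C` is not invariant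
  have hnot : ¬ ∀ x ∈ C, σ x ∈ C := by
    intro hinv
    have hfix := fix_cyclic_two_subgroup σ hm hodd hCp hinv
    refine hσ (MulEquiv.ext fun d => ?_)
    rw [MulAut.one_apply]
    by_cases hd : d ∈ C
    · exact hfix d hd
    have hσd : σ d ∉ C := fun h => hd (by
      have := hfix _ h
      rwa [σ.injective this] at h)
    obtain ⟨i, hi⟩ := hout d hd
    obtain ⟨j, hj⟩ := hout _ hσd
    have ha : d⁻¹ * σ d ∈ C := by
      change ι (d⁻¹ * σ d) ∈ A
      rw [map_mul, map_inv, hi, hj, show (QuaternionGroup.xa i : QuaternionGroup l)⁻¹ =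
        QuaternionGroup.xa ((l : ZMod (2 * l)) + i) from rfl, QuaternionGroup.xa_mul_xa]
      exact hA _
    refine fix_of_mul_fixed σ hm (a := d⁻¹ * σ d) (by simp) (hfix _ ha) ?_
    obtain ⟨s, hs⟩ := IsPGroup.iff_orderOf.mp hD2 (d⁻¹ * σ d)
    rw [hs]
    exact Nat.Coprime.pow_left _ (Nat.coprime_two_left.mpr hodd)
  obtain ⟨a, ha⟩ := IsCyclic.exists_generator (α := C)
  have hCa : Subgroup.zpowers (a : D) = C := by
    refine le_antisymm (Subgroup.zpowers_le.mpr a.2) fun x hx => ?_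
    obtain ⟨k, hk⟩ := Subgroup.mem_zpowers_iff.mp (ha ⟨x, hx⟩)
    exact ⟨k, by simpa using congrArg Subtype.val hk⟩
  have hy : σ a ∉ C := fun h => hnot fun x hx => by
    rw [← hCa] at hx
    obtain ⟨k, rfl⟩ := hx
    change σ ((a : D) ^ k) ∈ C
    rw [map_zpow]
    exact zpow_mem h k
  have ha4 : orderOf (a : D) = 4 := by rw [← MulEquiv.orderOf_eq σ, hord _ hy]
  have hy2 : (σ a) ^ 2 = (a : D) ^ 2 := by
    refine hι ?_
    rw [hsq _ hy, map_pow]
    obtain ⟨j, hj⟩ := hAc _ (show ι a ∈ A from a.2)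
    rw [hj, pow_two, QuaternionGroup.a_mul_a]
    have h4 : orderOf (ι (a : D)) = 4 := by rw [orderOf_injective ι hι, ha4]
    rw [hj] at h4
    have h1 : QuaternionGroup.a (j + j + (j + j)) = (1 : QuaternionGroup l) := by
      have := pow_orderOf_eq_one (QuaternionGroup.a j : QuaternionGroup l)
      rw [h4] at this
      rw [← this, show (4 : ℕ) = 2 + 2 from rfl, pow_add, pow_two, QuaternionGroup.a_mul_a,
        QuaternionGroup.a_mul_a]
    have h2 : j + j ≠ 0 := by
      intro h
      have : (QuaternionGroup.a j : QuaternionGroup l) ^ 2 = 1 := by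
        rw [pow_two, QuaternionGroup.a_mul_a, h]; rfl
      have := orderOf_dvd_of_pow_eq_one this
      rw [h4] at this
      exact absurd (Nat.le_of_dvd (by norm_num) this) (by norm_num)
    rw [QuaternionGroup.one_def] at h1
    injection h1 with h1
    congr 1
    -- the unique element of order two of `ZMod (2 * l)`
    have key : ∀ x : ZMod (2 * l), x + x = 0 → x ≠ 0 → x = l := by
      intro x hx hx0
      have h5 : ((x.val + x.val : ℕ) : ZMod (2 * l)) = 0 := by
        rw [Nat.cast_add, ZMod.natCast_zmod_val, hx]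
      obtain ⟨c, hc⟩ := (ZMod.natCast_eq_zero_iff _ _).mp h5
      have h6 := ZMod.val_lt x
      have h7 : x.val ≠ 0 := fun h => hx0 (by rw [← ZMod.natCast_zmod_val x, h, Nat.cast_zero])
      have h8 : c = 1 := by
        rcases Nat.lt_or_ge c 2 with h | h
        · rcases Nat.eq_zero_or_pos c with rfl | hc0
          · omega
          · omega
        · have := Nat.mul_le_mul_left (2 * l) h
          omega
      rw [h8, mul_one] at hc
      rw [← ZMod.natCast_zmod_val x, show x.val = l by omega]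
    exact (key _ h1 h2).symm
  have hcov : ∀ d : D, d ∈ Subgroup.zpowers (a : D) ∨ d * (σ a)⁻¹ ∈ Subgroup.zpowers (a : D) := by
    intro d
    rw [hCa]
    by_cases hd : d ∈ C
    · exact Or.inl hd
    refine Or.inr ?_
    obtain ⟨i, hi⟩ := hout d hd
    obtain ⟨j, hj⟩ := hout _ hy
    change ι (d * (σ a)⁻¹) ∈ A
    rw [map_mul, map_inv, hi, hj, show (QuaternionGroup.xa j : QuaternionGroup l)⁻¹ =
      QuaternionGroup.xa ((l : ZMod (2 * l)) + j) from rfl, QuaternionGroup.xa_mul_xa]
    exact hA _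
  have hyy : σ a ∉ Subgroup.zpowers (a : D) := by rw [hCa]; exact hy
  have hinv' : σ a * (a : D) * (σ a)⁻¹ = (a : D)⁻¹ := hinvC a _ a.2 hy
  have hzp : ∀ x ∈ Subgroup.zpowers (a : D),
      x = 1 ∨ x = (a : D) ∨ x = (a : D) ^ 2 ∨ x = (a : D)⁻¹ := by
    intro x hx
    rw [← mem_powers_iff_mem_zpowers, Submonoid.mem_powers_iff] at hx
    obtain ⟨k, rfl⟩ := hx
    have h4 : (a : D) ^ 4 = 1 := ha4 ▸ pow_orderOf_eq_one _
    rw [← pow_mod_orderOf, ha4]
    have := Nat.mod_lt k (show 0 < 4 by norm_num)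
    interval_cases h : k % 4
    · simp
    · simp
    · simp
    · right; right; right
      exact eq_inv_of_mul_eq_one_left (by rw [← pow_succ]; exact h4)
  -- odd powers detect fixed elements
  have hodd2 : ∀ d : D, (σ * σ) d = d → σ d = d := by
    intro d hd
    have : ∀ k : ℕ, ((σ * σ) ^ k) d = d := by
      intro k
      induction k with
      | zero => simp
      | succ k ih => rw [pow_succ, MulAut.mul_apply, hd, ih]
    obtain ⟨k, hk⟩ := hodd
    have h2 := this k
    rw [← pow_two, ← pow_mul] at h2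
    have h3 : (σ ^ (2 * k + 1)) d = d := by rw [← hk, hm, MulAut.one_apply]
    rw [pow_succ', MulAut.mul_apply, h2] at h3
    exact h3
  have hσy : σ (σ a) = (a : D) * σ a ∨ σ (σ a) = (a : D)⁻¹ * σ a := by
    rcases hcov (σ (σ a)) with h | h
    · exfalso
      rcases hzp _ h with h1 | h1 | h1 | h1
      · have h2 : orderOf (σ (σ (a : D))) = 4 := by rw [MulEquiv.orderOf_eq, MulEquiv.orderOf_eq, ha4]
        rw [h1, orderOf_one] at h2
        norm_num at h2
      · exact hyy (by rw [hodd2 _ h1]; exact Subgroup.mem_zpowers _)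
      · have h2 : orderOf (σ (σ (a : D))) = 4 := by rw [MulEquiv.orderOf_eq, MulEquiv.orderOf_eq, ha4]
        rw [h1, orderOf_pow, ha4] at h2
        norm_num at h2
      · refine hyy ?_
        have h2 : σ (σ (σ (σ (a : D)))) = a := by rw [h1, map_inv, map_inv, h1, inv_inv]
        have hk : ∀ k : ℕ, (((σ * σ) * (σ * σ)) ^ k) (a : D) = a := by
          intro k
          induction k with
          | zero => simp
          | succ k ih => rw [pow_succ, MulAut.mul_apply, show ((σ * σ) * (σ * σ)) (a : D) = a from h2, ih]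
        obtain ⟨k, hk'⟩ := hodd
        have h3 : (σ * σ) (a : D) = a := by
          have h5 := hk k
          have h6 : ((σ * σ) ^ (2 * k + 1)) (a : D) = a := by
            rw [← pow_two σ, ← pow_mul, mul_comm 2, pow_mul, ← hk', hm, one_pow, MulAut.one_apply]
          rw [pow_succ', MulAut.mul_apply, pow_mul, pow_two, h5] at h6
          exact h6
        rw [hodd2 _ h3]
        exact Subgroup.mem_zpowers _
    · rcases hzp _ h with h1 | h1 | h1 | h1
      · exfalso
        refine hyy ?_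
        rw [mul_inv_eq_one] at h1
        rw [σ.injective h1]
        exact Subgroup.mem_zpowers _
      · left; exact (inv_mul_cancel_right _ (σ (a : D))).symm.trans (congrArg (· * σ (a : D)) h1)
      · exfalso
        refine hyy ?_
        have h2 : σ (σ a) = (σ a)⁻¹ := by
          refine eq_inv_of_mul_eq_one_left ?_
          calc σ (σ (a : D)) * σ a = (σ (σ (a : D)) * (σ a)⁻¹) * (σ a) ^ 2 := by
                simp [pow_two, mul_assoc]
            _ = (a : D) ^ 4 := by rw [h1, hy2, ← pow_add]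
            _ = 1 := by rw [← ha4, pow_orderOf_eq_one]
        rw [← map_inv] at h2
        rw [σ.injective h2]
        exact inv_mem (Subgroup.mem_zpowers _)
      · right; exact (inv_mul_cancel_right _ (σ (a : D))).symm.trans (congrArg (· * σ (a : D)) h1)
  -- normalise the choice of generator
  obtain ⟨b, hb, hbz, hb4⟩ : ∃ b : D, σ (σ b) = b * σ b ∧
      Subgroup.zpowers b = Subgroup.zpowers (a : D) ∧ orderOf b = 4 := by
    rcases hσy with h | h
    · exact ⟨a, h, rfl, ha4⟩
    · refine ⟨(a : D)⁻¹, ?_, Subgroup.zpowers_inv, by rw [orderOf_inv, ha4]⟩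
      rw [map_inv, map_inv, h, mul_inv_rev, inv_inv]
      have h5 := congrArg (fun t => (σ (a : D))⁻¹ * t) hinv'
      simp only [← mul_assoc, inv_mul_cancel, one_mul] at h5
      calc (σ (a : D))⁻¹ * a = (σ (a : D))⁻¹ * a * (σ a) * (σ a)⁻¹ := (mul_inv_cancel_right _ _).symm
        _ = _ := by
          congr 1
          calc (σ (a : D))⁻¹ * a * σ a = ((σ a)⁻¹ * (a : D)⁻¹ * σ a)⁻¹ := by simp [mul_assoc]
            _ = ((σ a)⁻¹ * (σ a * a * (σ a)⁻¹) * σ a)⁻¹ := by rw [hinv']
            _ = _ := by simp [mul_assoc]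
  have hbC : b ∈ C := by rw [← hCa, ← hbz]; exact Subgroup.mem_zpowers b
  have hby : σ b ∉ C := fun h => hnot fun x hx => by
    rw [← hCa, ← hbz] at hx
    obtain ⟨k, rfl⟩ := hx
    change σ (b ^ k) ∈ C
    rw [map_zpow]
    exact zpow_mem h k
  have hb2 : (σ b) ^ 2 = b ^ 2 := by
    have h1 : b = (a : D) ∨ b = (a : D)⁻¹ := by
      rcases hzp b (hbz ▸ Subgroup.mem_zpowers b) with h | h | h | h
      · rw [h, orderOf_one] at hb4; norm_num at hb4
      · exact Or.inl h
      · rw [h, orderOf_pow, ha4] at hb4; norm_num at hb4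
      · exact Or.inr h
    rcases h1 with h | h
    · rw [h, hy2]
    · rw [h, map_inv, inv_pow, inv_pow, hy2]
  refine ⟨b, σ b, rfl, hb, hb4, hb2, hinvC _ _ hbC hby, by rwa [hbz, hCa], fun d => ?_, ?_⟩
  · rw [hbz, hCa]
    by_cases hd : d ∈ C
    · exact Or.inl hd
    refine Or.inr ?_
    obtain ⟨i, hi⟩ := hout d hd
    obtain ⟨j, hj⟩ := hout _ hby
    change ι (d * (σ b)⁻¹) ∈ A
    rw [map_mul, map_inv, hi, hj, show (QuaternionGroup.xa j : QuaternionGroup l)⁻¹ =
      QuaternionGroup.xa ((l : ZMod (2 * l)) + j) from rfl, QuaternionGroup.xa_mul_xa]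
    exact hA _
  · have hb3 : σ (σ (σ b)) = b := by
      rw [hb, map_mul, hb]
      have h1 : σ b * (b * σ b) = b⁻¹ * (σ b) ^ 2 := by
        rw [← hinvC _ _ hbC hby]; simp [mul_assoc, pow_two]
      rw [h1, hb2, pow_two, inv_mul_cancel_left]
    have hall : ∀ x ∈ Subgroup.zpowers b, (σ ^ 3) x = x := by
      intro x hx
      obtain ⟨k, rfl⟩ := hx
      change (σ ^ 3) (b ^ k) = b ^ k
      rw [map_zpow]
      exact congrArg (· ^ k) hb3
    refine MulEquiv.ext fun d => ?_
    rw [MulAut.one_apply]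
    by_cases hd : d ∈ C
    · exact hall d (by rwa [hbz, hCa])
    · obtain ⟨i, hi⟩ := hout d hd
      obtain ⟨j, hj⟩ := hout _ hby
      have h1 : d * (σ b)⁻¹ ∈ Subgroup.zpowers b := by
        rw [hbz, hCa]
        change ι (d * (σ b)⁻¹) ∈ A
        rw [map_mul, map_inv, hi, hj, show (QuaternionGroup.xa j : QuaternionGroup l)⁻¹ =
          QuaternionGroup.xa ((l : ZMod (2 * l)) + j) from rfl, QuaternionGroup.xa_mul_xa]
        exact hA _
      have h2 : (σ ^ 3) (σ b) = σ b := congrArg σ hb3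
      rw [← inv_mul_cancel_right d (σ b), map_mul, hall _ h1, h2]

/-- The parametrisation `a ^ i y ^ j g ^ k`. -/
def binTetWord {M : Type v} [Group M] (a y g : M) (t : Fin 4 × Fin 2 × Fin 3) : M :=
  a ^ (t.1 : ℕ) * y ^ (t.2.1 : ℕ) * g ^ (t.2.2 : ℕ)

theorem binTetWord_eq {M : Type v} [Group M] (a y g : M) (ha : a ^ 4 = 1) (i j k : ℕ)
    (hj : j < 2) (hk : k < 3) :
    a ^ i * y ^ j * g ^ k =
      binTetWord a y g (⟨i % 4, Nat.mod_lt i (by norm_num)⟩, ⟨j, hj⟩, ⟨k, hk⟩) := by
  simp only [binTetWord]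
  rw [← pow_eq_pow_mod i ha]

/-- Right multiplication by the generators on the parametrisation. -/
theorem binTetWord_mul_gen {M : Type v} [Group M] {a y g : M} (ha : a ^ 4 = 1) (hy2 : y ^ 2 = a ^ 2)
    (hya : y * a * y⁻¹ = a⁻¹) (hga : g * a * g⁻¹ = y) (hgy : g * y * g⁻¹ = a * y) (hg : g ^ 3 = 1)
    (t : Fin 4 × Fin 2 × Fin 3) :
    binTetWord a y g t * g = binTetWord a y g (t.1, t.2.1, t.2.2 + 1) ∧
    binTetWord a y g t * a = binTetWord a y g
      ((![![t.1 + 1, t.1 + 3], ![t.1, t.1 + 2], ![t.1 + 1, t.1 + 1]] : Fin 3 → Fin 2 → Fin 4)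
          t.2.2 t.2.1,
        (![![0, 1], ![1, 0], ![1, 0]] : Fin 3 → Fin 2 → Fin 2) t.2.2 t.2.1, t.2.2) := by
  obtain ⟨i, j, k⟩ := t
  have hai : ∀ c d : ℕ, c % 4 = d % 4 → a ^ c = a ^ d := fun c d h => by
    rw [pow_eq_pow_mod c ha, pow_eq_pow_mod d ha, h]
  have hya' : y * a = a ^ 3 * y := by
    rw [mul_inv_eq_iff_eq_mul.mp hya]
    congr 1
    exact (eq_inv_of_mul_eq_one_left (by rw [← pow_succ]; exact ha)).symm
  have hga' : g * a = y * g := mul_inv_eq_iff_eq_mul.mp hga
  have hgy' : g * y = a * y * g := mul_inv_eq_iff_eq_mul.mp hgy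
  have hgga : g * g * a = a * y * g * g := by
    rw [mul_assoc, hga', ← mul_assoc, hgy']
  have hyy : y * y = a ^ 2 := by rw [← pow_two, hy2]
  have haa : ∀ c d : ℕ, a ^ c * a ^ d = a ^ (c + d) := fun c d => (pow_add a c d).symm
  constructor
  · simp only [binTetWord]
    rw [mul_assoc _ (g ^ (k : ℕ)), ← pow_succ]
    congr 1
    rw [pow_eq_pow_mod _ hg]
    congr 1
  · fin_cases j <;> fin_cases k <;>
      simp only [binTetWord, Fin.isValue, Fin.val_zero, Fin.val_one, pow_zero, pow_one,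
        mul_one, Matrix.cons_val_zero, Matrix.cons_val_one, Fin.zero_eta, Fin.mk_one,
        Fin.reduceFinMk, Matrix.cons_val, Fin.val_two, pow_two g]
    · rw [← pow_succ]; exact hai _ _ (by simp [Fin.val_add] <;> omega)
    · rw [mul_assoc (a ^ _) g, hga', ← mul_assoc]
    · rw [mul_assoc (a ^ _), hgga]
      simp only [← mul_assoc]
      rw [← pow_succ, hai ((i : ℕ) + 1) ((i + 1 : Fin 4) : ℕ) (by simp [Fin.val_add] <;> omega)]
    · rw [mul_assoc (a ^ _), hya', ← mul_assoc, haa]
      congr 1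
      exact hai _ _ (by simp [Fin.val_add] <;> omega)
    · rw [mul_assoc _ g, hga', ← mul_assoc, mul_assoc (a ^ _) y, hyy, haa]
      congr 1
      exact hai _ _ (by simp [Fin.val_add] <;> omega)
    · rw [mul_assoc _ (g * g), hgga]
      simp only [← mul_assoc]
      rw [mul_assoc (a ^ _) y a, hya', ← mul_assoc (a ^ _), haa, mul_assoc (a ^ _) y y, hyy, haa]
      congr 2
      exact hai _ _ (by simp [Fin.val_add] <;> omega)

/-- Generators of `SL(2,3)`. -/
def binTetA : Matrix.SpecialLinearGroup (Fin 2) (ZMod 3) := ⟨!![0, 2; 1, 0], by decide +kernel⟩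

/-- Generators of `SL(2,3)`. -/
def binTetY : Matrix.SpecialLinearGroup (Fin 2) (ZMod 3) := ⟨!![1, 1; 1, 2], by decide +kernel⟩

/-- Generators of `SL(2,3)`. -/
def binTetB : Matrix.SpecialLinearGroup (Fin 2) (ZMod 3) := ⟨!![1, 1; 0, 1], by decide +kernel⟩

theorem sl_two_three_facts :
    binTetA ^ 4 = 1 ∧ binTetY ^ 2 = binTetA ^ 2 ∧ binTetY * binTetA * binTetY⁻¹ = binTetA⁻¹ ∧
      binTetB * binTetA * binTetB⁻¹ = binTetY ∧
      binTetB * binTetY * binTetB⁻¹ = binTetA * binTetY ∧ binTetB ^ 3 = 1 ∧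
      Function.Surjective (binTetWord binTetA binTetY binTetB) ∧
      Fintype.card (Matrix.SpecialLinearGroup (Fin 2) (ZMod 3)) = 24 := by
  decide +kernel

/-- A group generated as in the configuration, of order at least 24, is `SL(2,3)`. -/
theorem nonempty_mulEquiv_sl_two_three {M : Type v} [Group M] [Finite M] {a y g : M}
    (ha : a ^ 4 = 1) (hy2 : y ^ 2 = a ^ 2) (hya : y * a * y⁻¹ = a⁻¹) (hga : g * a * g⁻¹ = y)
    (hgy : g * y * g⁻¹ = a * y) (hg : g ^ 3 = 1) (hgen : Subgroup.closure ({a, g} : Set M) = ⊤)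
    (hcard : 24 ≤ Nat.card M) :
    Nonempty (M ≃* Matrix.SpecialLinearGroup (Fin 2) (ZMod 3)) := by
  let SL := Matrix.SpecialLinearGroup (Fin 2) (ZMod 3)
  let A : SL := binTetA
  let Y : SL := binTetY
  let B : SL := binTetB
  obtain ⟨hA, hY2, hYA, hBA, hBY, hB, hsurj, hcardSL⟩ := sl_two_three_facts
  let S : Subgroup (M × SL) := Subgroup.closure {(a, A), (g, B)}
  let R : Fin 4 × Fin 2 × Fin 3 → M × SL := fun t => (binTetWord a y g t, binTetWord A Y B t)
  have hS : ∀ x ∈ S, x ∈ Set.range R := by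
    intro x hx
    have hpow : ∀ s : M × SL, s ∈ ({(a, A), (g, B)} : Set (M × SL)) →
        ∀ z ∈ Set.range R, z * s ∈ Set.range R := by
      rintro s (rfl | rfl) _ ⟨t, rfl⟩
      · exact ⟨_, Prod.ext (binTetWord_mul_gen ha hy2 hya hga hgy hg t).2.symm
          (binTetWord_mul_gen hA hY2 hYA hBA hBY hB t).2.symm⟩
      · exact ⟨_, Prod.ext (binTetWord_mul_gen ha hy2 hya hga hgy hg t).1.symm
          (binTetWord_mul_gen hA hY2 hYA hBA hBY hB t).1.symm⟩
    have hpowk : ∀ s : M × SL, s ∈ ({(a, A), (g, B)} : Set (M × SL)) → ∀ (k : ℕ),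
        ∀ z ∈ Set.range R, z * s ^ k ∈ Set.range R := by
      intro s hs k
      induction k with
      | zero => intro z hz; simpa using hz
      | succ k ih => intro z hz; rw [pow_succ, ← mul_assoc]; exact hpow s hs _ (ih z hz)
    have h1 : (1 : M × SL) ∈ Set.range R :=
      ⟨(0, 0, 0), Prod.ext (by simp [R, binTetWord]) (by simp [R, binTetWord])⟩
    induction hx using Subgroup.closure_induction_right with
    | one => exact h1
    | mul_right z hz s hs ih => exact hpow s hs z ih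
    | mul_inv_cancel z hz s hs ih =>
      have hfin : IsOfFinOrder s := isOfFinOrder_of_finite s
      have : s⁻¹ = s ^ (orderOf s - 1) := by
        refine inv_eq_of_mul_eq_one_right ?_
        rw [← pow_succ', Nat.sub_add_cancel hfin.orderOf_pos, pow_orderOf_eq_one]
      rw [this]
      exact hpowk s hs _ z ih
  have hle : Nat.card S ≤ 24 := by
    calc Nat.card S ≤ Nat.card (Set.range R) :=
          Nat.card_mono (Set.toFinite _) hS
      _ ≤ Nat.card (Fin 4 × Fin 2 × Fin 3) :=
          Nat.card_le_card_of_surjective (Set.rangeFactorization R) Set.rangeFactorization_surjective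
      _ = 24 := by simp
  have hAS : (a, A) ∈ S := Subgroup.subset_closure (by simp)
  have hBS : (g, B) ∈ S := Subgroup.subset_closure (by simp)
  let π₁ : S →* M := (MonoidHom.fst M SL).comp S.subtype
  let π₂ : S →* SL := (MonoidHom.snd M SL).comp S.subtype
  have h1 : Function.Surjective π₁ := by
    rw [← MonoidHom.range_eq_top, eq_top_iff, ← hgen, Subgroup.closure_le]
    rintro x (rfl | rfl)
    · exact ⟨(⟨_, hAS⟩ : S), rfl⟩
    · exact ⟨(⟨_, hBS⟩ : S), rfl⟩
  have h2 : Function.Surjective π₂ := by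
    intro v
    obtain ⟨t, rfl⟩ := hsurj v
    have hY : binTetY ∈ π₂.range := by
      rw [← hBA]
      exact mul_mem (mul_mem (MonoidHom.mem_range.mpr ⟨(⟨_, hBS⟩ : S), rfl⟩)
        (MonoidHom.mem_range.mpr ⟨(⟨_, hAS⟩ : S), rfl⟩)) (inv_mem (MonoidHom.mem_range.mpr ⟨(⟨_, hBS⟩ : S), rfl⟩))
    exact MonoidHom.mem_range.mp (mul_mem (mul_mem (pow_mem (MonoidHom.mem_range.mpr ⟨(⟨_, hAS⟩ : S), rfl⟩) _)
      (pow_mem hY _)) (pow_mem (MonoidHom.mem_range.mpr ⟨(⟨_, hBS⟩ : S), rfl⟩) _))
  have hc : Nat.card SL = 24 := by rw [Nat.card_eq_fintype_card, hcardSL]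
  exact ⟨(MulEquiv.ofBijective π₁ (h1.bijective_of_nat_card_le (by omega))).symm.trans
    (MulEquiv.ofBijective π₂ (h2.bijective_of_nat_card_le (by omega)))⟩

theorem quaternion_sylow_dichotomy {G : Type u} [Group G] [Finite G] (T : Sylow 2 G) (n : ℕ)
    (hT : Nonempty ((T : Subgroup G) ≃* QuaternionGroup (2 ^ n))) :
    HasNormalPComplement 2 G ∨ ∃ (H K : Subgroup G) (_ : (K.subgroupOf H).Normal),
      Nonempty ((H ⧸ K.subgroupOf H) ≃* Matrix.SpecialLinearGroup (Fin 2) (ZMod 3)) := by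
  have : Fact (Nat.Prime 2) := ⟨Nat.prime_two⟩
  refine or_iff_not_imp_left.mpr fun hN => ?_
  rw [hasNormalPComplement_iff_frobenius] at hN
  simp only [not_forall] at hN
  obtain ⟨D, hD, g, hg, hgo, hgc⟩ := hN
  obtain ⟨S, hS⟩ := hD.exists_le_sylow
  obtain ⟨e⟩ := hT
  let ι : D →* QuaternionGroup (2 ^ n) :=
    ((S.equiv T).trans e).toMonoidHom.comp (Subgroup.inclusion hS)
  have hι : Function.Injective ι :=
    ((S.equiv T).trans e).injective.comp (Subgroup.inclusion_injective hS)
  let σ : MulAut D := D.normalizerMonoidHom ⟨g, hg⟩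
  have hσd : ∀ d : D, (σ d : G) = g * d * g⁻¹ := fun d => rfl
  have hodd : Odd (orderOf g) := by
    rw [← Nat.coprime_two_left]; exact hgo.symm
  have hm : σ ^ orderOf g = 1 := by
    rw [← map_pow, ← map_one (D.normalizerMonoidHom)]
    congr 1
    exact Subtype.ext (pow_orderOf_eq_one g)
  have hσ1 : σ ≠ 1 := by
    intro h
    refine hgc (Subgroup.mem_centralizer_iff.mpr fun d hd => ?_)
    have h1 := congrArg (fun τ : MulAut D => ((τ ⟨d, hd⟩ : D) : G)) h
    simp only [MulAut.one_apply] at h1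
    exact (mul_inv_eq_iff_eq_mul.mp ((hσd ⟨d, hd⟩).symm.trans h1)).symm
  have : NeZero (2 ^ n) := ⟨(pow_pos (by norm_num) n).ne'⟩
  obtain ⟨a, y, hay, hyy, ha4, hy2, hya, hynz, hcov, h3⟩ :=
    quaternion_subgroup_config ⟨n, rfl⟩ ι hι σ hm hodd hσ1
  have hga : g * (a : G) * g⁻¹ = y := (hσd a).symm.trans (congrArg Subtype.val hay)
  have hgy : g * (y : G) * g⁻¹ = (a : G) * y := (hσd y).symm.trans (congrArg Subtype.val hyy)
  let H : Subgroup G := Subgroup.closure {(a : G), g}
  have haH : (a : G) ∈ H := Subgroup.subset_closure (by simp)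
  have hgH : g ∈ H := Subgroup.subset_closure (by simp)
  have hg3 : ∀ d : D, g ^ 3 * (d : G) = d * g ^ 3 := by
    intro d
    have h1 : ((σ ^ 3) d : G) = d := by rw [h3]; rfl
    rw [← map_pow] at h1
    exact mul_inv_eq_iff_eq_mul.mp h1
  let K := Subgroup.zpowers (g ^ 3)
  have hKH : K ≤ H := Subgroup.zpowers_le.mpr (pow_mem hgH 3)
  have hHC : H ≤ Subgroup.centralizer ({g ^ 3} : Set G) := by
    rw [Subgroup.closure_le]
    rintro x (rfl | rfl)
    · exact Subgroup.mem_centralizer_singleton_iff.mpr (hg3 a).symm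
    · exact Subgroup.mem_centralizer_singleton_iff.mpr (pow_succ' x 3 ▸ (pow_succ x 3).symm ▸ rfl)
  have hK : (K.subgroupOf H).Normal := by
    refine ⟨fun k hk x => ?_⟩
    rw [Subgroup.mem_subgroupOf] at hk ⊢
    obtain ⟨i, hi⟩ := hk
    have hi' : (g ^ 3) ^ i = (k : G) := hi
    have hcm : Commute (x : G) (g ^ 3) := Subgroup.mem_centralizer_singleton_iff.mp (hHC x.2)
    rw [Subgroup.coe_mul, Subgroup.coe_mul, Subgroup.coe_inv, ← hi', (hcm.zpow_right i).eq,
      mul_inv_cancel_right]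
    exact ⟨i, rfl⟩
  refine ⟨H, K, hK, ?_⟩
  let q := QuotientGroup.mk' (K.subgroupOf H)
  have hDH : ∀ d : D, (d : G) ∈ H := by
    have hyH : (y : G) ∈ H := hga ▸ mul_mem (mul_mem hgH haH) (inv_mem hgH)
    intro d
    rcases hcov d with h | h
    · obtain ⟨k, hk⟩ := Subgroup.mem_zpowers_iff.mp h
      rw [← hk, Subgroup.coe_zpow]; exact zpow_mem haH k
    · obtain ⟨k, hk⟩ := Subgroup.mem_zpowers_iff.mp h
      have h5 : (d : G) = ((d * y⁻¹ : D) : G) * y := by simp
      rw [h5, ← hk, Subgroup.coe_zpow]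
      exact mul_mem (zpow_mem haH k) hyH
  let inc : D →* H := D.subtype.codRestrict H hDH
  let a' := q (inc a)
  let y' := q (inc y)
  let g' := q ⟨g, hgH⟩
  refine nonempty_mulEquiv_sl_two_three (a := a') (y := y') (g := g') ?_ ?_ ?_ ?_ ?_ ?_ ?_ ?_
  · rw [← map_pow, ← map_pow, ← ha4, pow_orderOf_eq_one, map_one, map_one]
  · rw [← map_pow, ← map_pow, hy2, map_pow, map_pow]
  · rw [← map_inv, ← map_inv, ← map_mul, ← map_mul, ← map_inv, ← map_mul, ← map_mul, hya, map_inv, map_inv]
  · rw [← map_inv, ← map_mul, ← map_mul]; exact congrArg q (Subtype.ext hga)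
  · rw [← map_inv, ← map_mul, ← map_mul, ← map_mul]; exact congrArg q (Subtype.ext hgy)
  · rw [← map_pow]
    exact (QuotientGroup.eq_one_iff _).mpr (show ((⟨g, hgH⟩ : H) ^ 3 : H).1 ∈ K from
      Subgroup.mem_zpowers _)
  · have hgen : Subgroup.closure ({inc a, ⟨g, hgH⟩} : Set H) = ⊤ := by
      refine Subgroup.map_injective H.subtype_injective ?_
      rw [MonoidHom.map_closure, ← MonoidHom.range_eq_map, Subgroup.range_subtype, Set.image_pair]
      rfl
    rw [← Subgroup.map_top_of_surjective q (QuotientGroup.mk'_surjective _), ← hgen,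
      MonoidHom.map_closure, Set.image_pair]
  · let f := q.comp inc
    have hf : Function.Injective f := by
      refine (injective_iff_map_eq_one f).mpr fun d hd => ?_
      have h1 : (d : G) ∈ K := (QuotientGroup.eq_one_iff (inc d)).mp hd
      have h2 : orderOf (d : G) ∣ orderOf g :=
        (Subgroup.orderOf_dvd_natCard K h1).trans (by rw [Nat.card_zpowers]; exact orderOf_pow_dvd 3)
      obtain ⟨s, hs⟩ := IsPGroup.iff_orderOf.mp hD d
      rw [Subgroup.orderOf_coe, hs] at h2
      rcases Nat.eq_zero_or_pos s with rfl | hs0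
      · exact orderOf_eq_one_iff.mp (by simpa using hs)
      · exfalso
        obtain ⟨k, hk⟩ := hodd
        have := (dvd_pow_self 2 (by omega : s ≠ 0)).trans h2
        omega
    have h8 : 8 ≤ Nat.card D := by
      have hdvd : Nat.card (Subgroup.zpowers a) ∣ Nat.card D := Subgroup.card_subgroup_dvd_card _
      rw [Nat.card_zpowers, ha4] at hdvd
      obtain ⟨c, hc⟩ := hdvd
      rcases Nat.lt_or_ge c 2 with hlt | hge
      · exfalso
        refine hynz ?_
        have : Subgroup.zpowers a = ⊤ := by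
          refine Subgroup.eq_top_of_le_card _ ?_
          rw [Nat.card_zpowers, ha4, hc]
          have : 0 < Nat.card D := Nat.card_pos
          omega
        rw [this]; exact Subgroup.mem_top y
      · omega
    have hdvd1 : Nat.card D ∣ Nat.card (H ⧸ K.subgroupOf H) := by
      rw [← Nat.card_congr (MonoidHom.ofInjective hf).toEquiv.symm]
      exact Subgroup.card_subgroup_dvd_card _
    have hg3ne : g' ≠ 1 := by
      intro h
      have h1 : g ∈ Subgroup.centralizer (D : Set G) := by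
        have hgK : g ∈ K := (QuotientGroup.eq_one_iff (⟨g, hgH⟩ : H)).mp h
        obtain ⟨i, hi⟩ := hgK
        refine Subgroup.mem_centralizer_iff.mpr fun d hd => ?_
        have hc : Commute (g ^ 3) d := hg3 ⟨d, hd⟩
        rw [← show (g ^ 3) ^ i = g from hi]
        exact (hc.zpow_left i).eq.symm
      exact hgc h1
    have hord : orderOf g' = 3 := orderOf_eq_prime (by
      rw [← map_pow]
      exact (QuotientGroup.eq_one_iff _).mpr (show ((⟨g, hgH⟩ : H) ^ 3 : H).1 ∈ K from
        Subgroup.mem_zpowers _)) hg3ne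
    have h3d : 3 ∣ Nat.card (H ⧸ K.subgroupOf H) := hord ▸ orderOf_dvd_natCard g'
    obtain ⟨r, hr⟩ := hD.exists_card_eq
    have hcop : Nat.Coprime (Nat.card D) 3 := by rw [hr]; exact Nat.Coprime.pow_left _ (by norm_num)
    have := Nat.le_of_dvd Nat.card_pos (hcop.mul_dvd_of_dvd_of_dvd hdvd1 h3d)
    omega

end CfsgLib.Transfer
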