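import Cfsg.Agent.Lib.Transfer.Focal
import Mathlib.GroupTheory.SpecificGroups.Dihedral

/-!
# Dihedral Sylow 2-subgroups without 2-quotient: one class of involutions
-/

set_option autoImplicit false

namespace CfsgLib.Transfer

open Cfsg

universe u

variable {G : Type u} [Group G]

theorem dihedral_one_class_involutions [Finite G] (T : Sylow 2 G) (n : ℕ) (hn : 2 ≤ n)
    (hT : Nonempty ((T : Subgroup G) ≃* DihedralGroup (2 ^ n))) (hO : pResidual 2 G = ⊤) (x y : G)
    (hx : orderOf x = 2) (hy : orderOf y = 2) : ∃ g : G, g * x * g⁻¹ = y := by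
  obtain ⟨e⟩ := hT
  have : Fact (Nat.Prime 2) := ⟨Nat.prime_two⟩
  let a : (T : Subgroup G) := e.symm (DihedralGroup.r 1)
  have ha : orderOf a = 2 ^ n := by
    rw [MulEquiv.orderOf_eq, DihedralGroup.orderOf_r_one]
  have hTcard : Nat.card (T : Subgroup G) = 2 * 2 ^ n := by
    rw [Nat.card_congr e.toEquiv, DihedralGroup.nat_card]
  have hM : (Subgroup.zpowers a).index = 2 := by
    have := Subgroup.card_mul_index (Subgroup.zpowers a)
    rw [Nat.card_zpowers, ha, hTcard, mul_comm 2] at this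
    exact Nat.eq_of_mul_eq_mul_left (pow_pos (by norm_num) n) this
  let z : G := ((a ^ 2 ^ (n - 1) : (T : Subgroup G)) : G)
  have key : ∀ u : G, orderOf u = 2 → ∃ g : G, g * u * g⁻¹ = z := by
    intro u hu
    have hu2 : u ^ 2 = 1 := hu ▸ pow_orderOf_eq_one u
    obtain ⟨g, hg, hgM⟩ := exists_conj_mem_of_pResidual_eq_top T hO _ hM u hu2
    refine ⟨g, ?_⟩
    obtain ⟨k, hk⟩ := (Subgroup.mem_zpowers_iff.mp hgM)
    have hconj : orderOf (g * u * g⁻¹) = 2 := by
      have h1 := MulEquiv.orderOf_eq (MulAut.conj g) u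
      rw [hu] at h1
      exact h1
    have hk1 : a ^ k ≠ 1 := fun h => by
      rw [hk] at h
      have h' : g * u * g⁻¹ = 1 := congrArg Subtype.val h
      rw [h'] at hconj
      simp at hconj
    have hk2 : a ^ (k * 2) = 1 := by
      rw [zpow_mul, zpow_two, hk]
      refine Subtype.ext ?_
      have h3 : (g * u * g⁻¹) ^ 2 = 1 := hconj ▸ pow_orderOf_eq_one _
      simpa [pow_two] using h3
    have hd := orderOf_dvd_iff_zpow_eq_one.mpr hk2
    have hd' : ¬ ((2 ^ n : ℕ) : ℤ) ∣ k := fun h => hk1 (orderOf_dvd_iff_zpow_eq_one.mp (ha ▸ h))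
    rw [ha] at hd
    obtain ⟨c, hc⟩ := hd
    have hsplit : ((2 ^ n : ℕ) : ℤ) = (2 ^ (n - 1) : ℕ) * 2 := by
      have h6 : 2 ^ n = 2 ^ (n - 1) * 2 := by
        rw [← pow_succ, Nat.sub_add_cancel (by omega)]
      exact_mod_cast h6
    have hkc : k = ((2 ^ (n - 1) : ℕ) : ℤ) * c := by
      have h4 := hc
      rw [hsplit, mul_right_comm] at h4
      exact mul_right_cancel₀ two_ne_zero h4
    have hodd : c % 2 = 1 := by
      by_contra h
      have hc2 : c = 2 * (c / 2) := by omega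
      refine hd' ⟨c / 2, ?_⟩
      rw [hkc, hsplit, mul_assoc, ← hc2]
    have : a ^ k = a ^ (2 ^ (n - 1) : ℕ) := by
      rw [hkc, show c = 2 * (c / 2) + 1 by omega, mul_add, mul_one, ← mul_assoc, ← hsplit, zpow_add,
        zpow_mul, zpow_natCast a (2 ^ n), ← ha, pow_orderOf_eq_one, one_zpow, one_mul, zpow_natCast]
    have h5 := congrArg Subtype.val (hk.symm.trans this)
    exact h5
  obtain ⟨g, hg⟩ := key x hx
  obtain ⟨h, hh⟩ := key y hy
  refine ⟨h⁻¹ * g, ?_⟩
  have e1 : h⁻¹ * g * x * (h⁻¹ * g)⁻¹ = h⁻¹ * (g * x * g⁻¹) * h := by simp [mul_assoc]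
  rw [e1, hg, ← hh]
  simp [mul_assoc]

end CfsgLib.Transfer
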