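import Cfsg.Agent.Lib.Transfer.Tate

/-!
# Weakly closed central subgroups control fusion (Gruen)
-/

set_option autoImplicit false

namespace CfsgLib.Transfer

open Cfsg
open scoped Pointwise

universe u

variable {G : Type u} [Group G] {p : ℕ}

/-- `N_G(Z)` controls fusion in `P` when `Z ≤ Z(P)` is weakly closed in `P`. -/
theorem weaklyClosed_central_controls_fusion [Finite G] [Fact p.Prime] (P : Sylow p G)
    {Z : Subgroup G} (hZ : Z ≤ Subgroup.centralizer (P : Set G)) (hW : IsWeaklyClosed Z P)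
    {x g : G} (hx : x ∈ P) (hy : g * x * g⁻¹ ∈ P) :
    ∃ k ∈ Subgroup.normalizer (Z : Set G), k * x * k⁻¹ = g * x * g⁻¹ := by
  set y := g * x * g⁻¹ with hydef
  let C := Subgroup.centralizer ({y} : Set G)
  have hZC : Z ≤ C := fun z hz =>
    Subgroup.mem_centralizer_singleton_iff.mpr ((Subgroup.mem_centralizer_iff.mp (hZ hz) y hy).symm)
  let Z' := Z.map (MulAut.conj g).toMonoidHom
  have hZ'C : Z' ≤ C := by
    rintro _ ⟨z, hz, rfl⟩
    refine Subgroup.mem_centralizer_singleton_iff.mpr ?_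
    have h1 : x * z = z * x := Subgroup.mem_centralizer_iff.mp (hZ hz) x hx
    simp only [MulEquiv.coe_toMonoidHom, MulAut.conj_apply, hydef]
    simp [mul_assoc, ← mul_assoc z x, ← h1]
  obtain ⟨S, hS⟩ := ((P.2.to_le hW.1).comap_subtype (K := C)).exists_le_sylow
  obtain ⟨T, hT⟩ := (((P.2.to_le hW.1).map (MulAut.conj g).toMonoidHom).comap_subtype
    (K := C)).exists_le_sylow
  obtain ⟨c, hc⟩ := MulAction.exists_smul_eq C T S
  obtain ⟨R, hR⟩ := (S.2.map C.subtype).exists_le_sylow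
  obtain ⟨k, hk⟩ := MulAction.exists_smul_eq G R P
  have hin : ∀ r : G, r ∈ R → k * r * k⁻¹ ∈ P := fun r hr => by
    rw [← hk, mem_sylow_smul_iff]
    simpa [mul_assoc] using hr
  have h1 : k ∈ Subgroup.normalizer (Z : Set G) := by
    refine Subgroup.mem_normalizer_iff_map_conj_eq.mpr (hW.2 k ?_)
    rintro _ ⟨z, hz, rfl⟩
    exact hin z (hR ⟨⟨z, hZC hz⟩, hS hz, rfl⟩)
  have h2 : k * (c : G) * g ∈ Subgroup.normalizer (Z : Set G) := by
    refine Subgroup.mem_normalizer_iff_map_conj_eq.mpr (hW.2 _ ?_)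
    rintro _ ⟨z, hz, rfl⟩
    have hz' : g * z * g⁻¹ ∈ Z' := ⟨z, hz, rfl⟩
    have h3 : c * ⟨g * z * g⁻¹, hZ'C hz'⟩ * c⁻¹ ∈ S := by
      rw [← hc, mem_sylow_smul_iff]
      have h4 : (⟨g * z * g⁻¹, hZ'C hz'⟩ : C) ∈ T := hT hz'
      simpa [mul_assoc] using h4
    have h5 := hin _ (hR ⟨_, h3, rfl⟩)
    change k * c * g * z * (k * c * g)⁻¹ ∈ (P : Subgroup G)
    have h5' : k * (c * (g * z * g⁻¹) * (c : G)⁻¹) * k⁻¹ ∈ (P : Subgroup G) := h5
    simpa [mul_assoc] using h5'
  refine ⟨c * g, ?_, ?_⟩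
  · have h6 := mul_mem (inv_mem h1) h2
    simpa [mul_assoc] using h6
  · have hc' : (c : G) * y = y * c := Subgroup.mem_centralizer_singleton_iff.mp c.2
    calc (c : G) * g * x * ((c : G) * g)⁻¹ = c * y * (c : G)⁻¹ := by simp [hydef, mul_assoc]
      _ = y := by rw [hc', mul_inv_cancel_right]

theorem focal_le_commutator_normalizer [Finite G] [Fact p.Prime] (P : Sylow p G) {Z : Subgroup G}
    (hZ : Z ≤ Subgroup.centralizer (P : Set G)) (hW : IsWeaklyClosed Z P) :
    (P : Subgroup G).focalSubgroup ≤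
      ⁅Subgroup.normalizer (Z : Set G), Subgroup.normalizer (Z : Set G)⁆ :=
  (focalSubgroup_le_of_controls fun _ hx _ hy =>
    weaklyClosed_central_controls_fusion P hZ hW hx hy).trans
    (Subgroup.commutator_mono (Subgroup.le_normalizer.trans (le_normalizer_of_isWeaklyClosed hW))
      le_rfl)

/-- In a `p`-normal group the centre of a Sylow `p`-subgroup is weakly closed in it. -/
theorem weaklyClosed_of_pNormal [Finite G] [Fact p.Prime] (P : Sylow p G)
    (hn : ∀ Q : Sylow p G, (P : Subgroup G) ⊓ Subgroup.centralizer (P : Set G) ≤ (Q : Subgroup G) →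
      (Q : Subgroup G) ⊓ Subgroup.centralizer (Q : Set G) =
        (P : Subgroup G) ⊓ Subgroup.centralizer (P : Set G)) (g : G)
    (hg : ((P : Subgroup G) ⊓ Subgroup.centralizer (P : Set G)).map (MulAut.conj g).toMonoidHom
      ≤ (P : Subgroup G)) :
    ((P : Subgroup G) ⊓ Subgroup.centralizer (P : Set G)).map (MulAut.conj g).toMonoidHom =
      (P : Subgroup G) ⊓ Subgroup.centralizer (P : Set G) := by
  set Z := (P : Subgroup G) ⊓ Subgroup.centralizer (P : Set G) with hZdef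
  have h1 : Z ≤ ((g⁻¹ • P : Sylow p G) : Subgroup G) := fun z hz => by
    refine (mem_sylow_smul_iff g⁻¹ P z).mpr ?_
    rw [inv_inv]
    exact hg ⟨z, hz, rfl⟩
  refine Subgroup.eq_of_le_of_card_ge ?_ (le_of_eq ?_)
  · rintro _ ⟨z, hz, rfl⟩
    have hz' := hz
    rw [← hn _ h1] at hz'
    refine ⟨hg ⟨z, hz, rfl⟩, Subgroup.mem_centralizer_iff.mpr fun q hq => ?_⟩
    have h2 : g⁻¹ * q * g ∈ ((g⁻¹ • P : Sylow p G) : Subgroup G) := by
      refine (mem_sylow_smul_iff g⁻¹ P _).mpr ?_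
      simpa [mul_assoc] using hq
    have h3 := Subgroup.mem_centralizer_iff.mp hz'.2 _ h2
    have h4 := congrArg (fun t => g * t * g⁻¹) h3
    simpa [mul_assoc] using h4
  · exact (Subgroup.card_map_of_injective (MulAut.conj g).injective).symm

end CfsgLib.Transfer
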