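import Cfsg.Agent.Lib.Transfer.Tate
import Mathlib.GroupTheory.Transfer
import Mathlib.GroupTheory.NoncommPiCoprod

/-!
# Normal complements of Hall subgroups
-/

set_option autoImplicit false

namespace CfsgLib.Transfer

open Cfsg

universe u

variable {G : Type u} [Group G]

/-- Normal `p`-complements for all `p` dividing `|H|` give a normal complement of the Hall
subgroup `H`. -/
theorem hall_normal_complement_of_forall [Finite G] (H : Subgroup G)
    (hHall : Nat.Coprime (Nat.card H) H.index)
    (h : ∀ p : ℕ, p.Prime → p ∣ Nat.card H → HasNormalPComplement p G) :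
    ∃ N : Subgroup G, N.Normal ∧ N.IsComplement' H := by
  obtain ⟨N, hN, hNd, hNi⟩ : ∃ N : Subgroup G, N.Normal ∧
      (∀ p ∈ (Nat.card H).primeFactors, ¬ p ∣ Nat.card N) ∧ Nat.Coprime N.index H.index := by
    have key : ∀ s : Finset ℕ, s ⊆ (Nat.card H).primeFactors → ∃ N : Subgroup G, N.Normal ∧
        (∀ p ∈ s, ¬ p ∣ Nat.card N) ∧ Nat.Coprime N.index H.index := by
      intro s
      induction s using Finset.induction with
      | empty => exact fun _ => ⟨⊤, inferInstance, by simp, by simp⟩
      | insert p s _ ih =>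
        intro hs
        obtain ⟨M, hM, hMd, hMi⟩ := ih fun x hx => hs (Finset.mem_insert_of_mem hx)
        obtain ⟨hp, hpH, -⟩ := Nat.mem_primeFactors.mp (hs (Finset.mem_insert_self p s))
        have := Fact.mk hp
        obtain ⟨k, hk⟩ := index_pResidual_eq_pow (G := G) (p := p)
        refine ⟨pResidual p G ⊓ M, inferInstance, ?_, ?_⟩
        · intro q hq hdvd
          rcases Finset.mem_insert.mp hq with rfl | hq
          · exact hasNormalPComplement_iff_not_dvd.mp (h q hp hpH)
              (hdvd.trans (Subgroup.card_dvd_of_le inf_le_left))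
          · exact hMd q hq (hdvd.trans (Subgroup.card_dvd_of_le inf_le_right))
        · rw [← Subgroup.relIndex_mul_index (inf_le_right : pResidual p G ⊓ M ≤ M),
            Subgroup.inf_relIndex_right]
          refine Nat.Coprime.mul_left ?_ hMi
          refine Nat.Coprime.coprime_dvd_left (Subgroup.relIndex_dvd_index_of_normal _ _) ?_
          rw [hk]
          exact (hHall.coprime_dvd_left hpH).pow_left k
    exact key _ le_rfl
  have hcopN : Nat.Coprime (Nat.card N) (Nat.card H) :=
    Nat.coprime_of_dvd fun q hq h1 h2 =>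
      hNd q (Nat.mem_primeFactors.mpr ⟨hq, h2, Nat.card_pos.ne'⟩) h1
  have e := (Subgroup.card_mul_index N).trans (Subgroup.card_mul_index H).symm
  have h1 : Nat.card N ∣ H.index :=
    hcopN.dvd_of_dvd_mul_left (e ▸ dvd_mul_right (Nat.card N) N.index)
  have h2 : H.index ∣ Nat.card N :=
    hNi.symm.dvd_of_dvd_mul_right (e.symm ▸ dvd_mul_left H.index (Nat.card H))
  refine ⟨N, hN, Subgroup.isComplement'_of_coprime ?_ hcopN⟩
  rw [Nat.dvd_antisymm h1 h2, mul_comm]
  exact Subgroup.card_mul_index H

theorem exists_sylow_eq_map [Finite G] {H : Subgroup G} (hHall : Nat.Coprime (Nat.card H) H.index)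
    {p : ℕ} [hp : Fact p.Prime] (hpH : p ∣ Nat.card H) (P : Sylow p H) :
    ∃ S : Sylow p G, (S : Subgroup G) = (P : Subgroup H).map H.subtype := by
  have hidx : ¬ p ∣ ((P : Subgroup H).map H.subtype).index := by
    rw [Subgroup.index_map_subtype]
    exact fun h => (hp.out.dvd_mul.mp h).elim P.not_dvd_index fun h2 =>
      hp.out.ne_one (Nat.eq_one_of_dvd_coprimes hHall hpH h2)
  exact ⟨(P.2.map H.subtype).toSylow hidx, rfl⟩

theorem nilpotent_centralizer_sup_sylow [Finite G] [Group.IsNilpotent G] {p : ℕ} [hp : Fact p.Prime]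
    (P : Sylow p G) : Subgroup.centralizer ((P : Subgroup G) : Set G) ⊔ P = ⊤ := by
  rw [← Subgroup.index_eq_one]
  by_contra hne
  obtain ⟨q, hq, hqd⟩ := Nat.exists_prime_and_dvd hne
  have := Fact.mk hq
  by_cases hqp : q = p
  · subst hqp
    exact P.not_dvd_index (hqd.trans (Subgroup.index_dvd_of_le le_sup_right))
  obtain ⟨Q⟩ : Nonempty (Sylow q G) := inferInstance
  refine Q.not_dvd_index (hqd.trans (Subgroup.index_dvd_of_le (le_trans ?_ le_sup_left)))
  intro x hx
  exact Subgroup.mem_centralizer_iff.mpr fun y hy =>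
    Subgroup.commute_of_normal_of_disjoint (P : Subgroup G) Q inferInstance inferInstance
      (IsPGroup.disjoint_of_ne p q (Ne.symm hqp) _ _ P.2 Q.2) y x hy hx

theorem nilpotent_hall_normal_complement_iff [Finite G] (H : Subgroup G)
    (hH : Group.IsNilpotent H) (hHall : Nat.Coprime (Nat.card H) H.index) :
    (∃ N : Subgroup G, N.Normal ∧ N.IsComplement' H) ↔
      ∀ x ∈ H, ∀ y ∈ H, (∃ g : G, g * x * g⁻¹ = y) → ∃ h ∈ H, h * x * h⁻¹ = y := by
  constructor
  · rintro ⟨N, hN, hc⟩ x hx y hy ⟨g, hg⟩
    exact fusion_of_isComplement' hc hx hy hg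
  · intro hf
    refine hall_normal_complement_of_forall H hHall fun p hp hpH => ?_
    have := Fact.mk hp
    obtain ⟨P⟩ : Nonempty (Sylow p H) := inferInstance
    obtain ⟨S, hS⟩ := exists_sylow_eq_map hHall hpH P
    refine hasNormalPComplement_of_fusion S fun x hx g hy => ?_
    rw [hS] at hx hy
    obtain ⟨x', hx', rfl⟩ := hx
    obtain ⟨y', hy', hyy⟩ := hy
    obtain ⟨k, hk, hke⟩ := hf x' x'.2 y' y'.2 ⟨g, hyy.symm⟩
    obtain ⟨u, hu, c, hc, huc⟩ := Subgroup.mem_sup_of_normal_left.mp
      (show (⟨k, hk⟩ : H) ∈ (P : Subgroup H) ⊔ Subgroup.centralizer ((P : Subgroup H) : Set H) by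
        rw [sup_comm, nilpotent_centralizer_sup_sylow P]; exact Subgroup.mem_top _)
    refine ⟨(u : G), hS ▸ ⟨u, hu, rfl⟩, ?_⟩
    have hcx : c * x' * c⁻¹ = x' := by
      rw [← Subgroup.mem_centralizer_iff.mp hc x' hx', mul_inv_cancel_right]
    have hkx : (⟨k, hk⟩ : H) * x' * (⟨k, hk⟩ : H)⁻¹ = u * x' * u⁻¹ := by
      rw [← huc]
      calc u * c * x' * (u * c)⁻¹ = u * (c * x' * c⁻¹) * u⁻¹ := by simp [mul_assoc]
        _ = _ := by rw [hcx]
    have h5 := congrArg Subtype.val hkx
    simp only [Subgroup.coe_mul, Subgroup.coe_inv] at h5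
    have hyy' : (y' : G) = g * (x' : G) * g⁻¹ := hyy
    change (u : G) * (x' : G) * (u : G)⁻¹ = g * (x' : G) * g⁻¹
    rw [← h5, hke, hyy']

/-- **Burnside's theorem for Hall subgroups**. -/
theorem hall_normalizer_le_centralizer_normal_complement [Finite G] (H : Subgroup G)
    (hHall : Nat.Coprime (Nat.card H) H.index)
    (h : Subgroup.normalizer (H : Set G) ≤ Subgroup.centralizer (H : Set G)) :
    ∃ N : Subgroup G, N.Normal ∧ N.IsComplement' H := by
  suffices key : ∀ (n : ℕ) (G : Type u) [Group G] [Finite G], Nat.card G = n → ∀ H : Subgroup G,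
      Nat.Coprime (Nat.card H) H.index →
      Subgroup.normalizer (H : Set G) ≤ Subgroup.centralizer (H : Set G) →
      ∀ p : ℕ, p.Prime → p ∣ Nat.card H → HasNormalPComplement p G from
    hall_normal_complement_of_forall H hHall (key _ G rfl H hHall h)
  intro n
  induction n using Nat.strong_induction_on with
  | _ n ih =>
    intro G _ _ hn H hHall h p hp hpH
    have hHc : H ≤ Subgroup.centralizer (H : Set G) := Subgroup.le_normalizer.trans h
    -- the induction hypothesis applied to a proper overgroup of `H`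
    have sub : ∀ (M : Subgroup G), M ≠ ⊤ → H ≤ M → ∀ (R : Subgroup G), R ≤ H →
        M ≤ Subgroup.normalizer (R : Set G) → M ≤ Subgroup.centralizer (R : Set G) := by
      intro M hM hHM R hR hMR
      have hlt : Nat.card M < n := by
        refine hn ▸ lt_of_le_of_ne (Subgroup.card_le_card_group M) fun e => hM ?_
        exact Subgroup.eq_top_of_card_eq M e
      have hcH : Nat.card (H.subgroupOf M) = Nat.card H :=
        Nat.card_congr (Subgroup.subgroupOfEquivOfLe hHM).toEquiv
      have hHall' : Nat.Coprime (Nat.card (H.subgroupOf M)) (H.subgroupOf M).index :=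
        hcH ▸ hHall.coprime_dvd_right (Subgroup.relIndex_dvd_index_of_le hHM)
      have hh : Subgroup.normalizer ((H.subgroupOf M : Subgroup M) : Set M) ≤
          Subgroup.centralizer ((H.subgroupOf M : Subgroup M) : Set M) := by
        intro x hx
        have hx' : (x : G) ∈ Subgroup.normalizer (H : Set G) := by
          refine Subgroup.mem_normalizer_iff.mpr fun y => ⟨fun hy => ?_, fun hy => ?_⟩
          · exact (Subgroup.mem_normalizer_iff.mp hx ⟨y, hHM hy⟩).mp hy
          · have hyM : y ∈ M := by
              have h1 := mul_mem (mul_mem (inv_mem x.2) (hHM hy)) x.2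
              simpa [mul_assoc] using h1
            exact (Subgroup.mem_normalizer_iff.mp hx ⟨y, hyM⟩).mpr hy
        exact Subgroup.mem_centralizer_iff.mpr fun y hy => Subtype.ext
          (Subgroup.mem_centralizer_iff.mp (h hx') (y : G) hy)
      obtain ⟨K, hK, hKc⟩ := hall_normal_complement_of_forall (H.subgroupOf M) hHall'
        (ih _ hlt M rfl _ hHall' hh)
      intro m hm
      obtain ⟨⟨⟨k, hk⟩, ⟨a, ha⟩⟩, hka, -⟩ :=
        Subgroup.isComplement_iff_existsUnique.mp hKc ⟨m, hm⟩
      have hka' : (k : G) * (a : G) = m := congrArg Subtype.val hka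
      rw [← hka']
      refine mul_mem (Subgroup.mem_centralizer_iff.mpr fun r hr => ?_)
        (Subgroup.centralizer_le (SetLike.coe_subset_coe.mpr hR) (hHc ha))
      let rM : M := ⟨r, hHM (hR hr)⟩
      have h1 : k * rM * k⁻¹ * rM⁻¹ ∈ H.subgroupOf M := by
        refine mul_mem ?_ (inv_mem (show rM ∈ H.subgroupOf M from hR hr))
        exact hR ((Subgroup.mem_normalizer_iff.mp (hMR k.2) r).mp hr)
      have h2 : k * rM * k⁻¹ * rM⁻¹ ∈ K := by
        have h3 := mul_mem hk (hK.conj_mem _ (inv_mem hk) rM)
        simpa [mul_assoc] using h3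
      have h4 := Subgroup.disjoint_def.mp hKc.disjoint h2 h1
      rw [mul_inv_eq_one, mul_inv_eq_iff_eq_mul] at h4
      exact (congrArg Subtype.val h4).symm
    have := Fact.mk hp
    obtain ⟨P⟩ : Nonempty (Sylow p H) := inferInstance
    obtain ⟨S, hS⟩ := exists_sylow_eq_map hHall hpH P
    have hSH : (S : Subgroup G) ≤ H := hS ▸ Subgroup.map_subtype_le _
    suffices hNC : Subgroup.normalizer (S : Set G) ≤ Subgroup.centralizer (S : Set G) from
      ⟨S, _, inferInstance, MonoidHom.ker_transferSylow_isComplement' S hNC⟩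
    have hHN : ∀ R : Subgroup G, R ≤ H → H ≤ Subgroup.normalizer (R : Set G) := fun R hR =>
      le_trans (hHc.trans (Subgroup.centralizer_le (SetLike.coe_subset_coe.mpr hR)))
        (Subgroup.centralizer_le_normalizer _)
    by_cases htop : Subgroup.normalizer (S : Set G) = ⊤
    swap
    · exact sub _ htop (hHN _ hSH) _ hSH le_rfl
    rw [htop, top_le_iff]
    have hSn : (S : Subgroup G).Normal := Subgroup.normalizer_eq_top_iff.mp htop
    set C := Subgroup.centralizer (S : Set G) with hC
    have hHC : H ≤ C := hHc.trans (Subgroup.centralizer_le (SetLike.coe_subset_coe.mpr hSH))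
    have hCn : C.Normal := Subgroup.normal_centralizer
    by_contra hCtop
    -- every Sylow subgroup of `H` is then normal in `G`
    have hall : ∀ q : ℕ, q.Prime → q ∣ Nat.card H → ∀ Q : Sylow q H,
        ((Q : Subgroup H).map H.subtype).Normal := by
      intro q hq hqH Q
      have := Fact.mk hq
      obtain ⟨T, hT⟩ := exists_sylow_eq_map hHall hqH Q
      have hTH : (T : Subgroup G) ≤ H := hT ▸ Subgroup.map_subtype_le _
      rw [← hT]
      by_contra hTn
      have hne : Subgroup.normalizer (T : Set G) ≠ ⊤ := fun e =>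
        hTn (Subgroup.normalizer_eq_top_iff.mp e)
      have hNC : Subgroup.normalizer (T : Set G) ≤ C :=
        sub _ hne (hHN _ hTH) _ hSH Subgroup.le_normalizer_of_normal
      have hfr := Sylow.normalizer_sup_eq_top' T (hTH.trans hHC)
      rw [sup_eq_right.mpr hNC] at hfr
      exact hCtop hfr
    have hHn : H.Normal := by
      refine Subgroup.normalizer_eq_top_iff.mp (eq_top_iff.mpr fun g _ => ?_)
      refine Subgroup.mem_normalizer_iff_map_conj_eq.mpr (Subgroup.eq_of_le_of_card_ge ?_ ?_)
      · let X : Subgroup H := ((H.comap (MulAut.conj g).toMonoidHom)).subgroupOf H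
        have hX : X = ⊤ := by
          rw [← Subgroup.index_eq_one]
          by_contra hne
          obtain ⟨q, hq, hqX⟩ := Nat.exists_prime_and_dvd hne
          have := Fact.mk hq
          have hqH : q ∣ Nat.card H := hqX.trans (Subgroup.index_dvd_card X)
          obtain ⟨Q⟩ : Nonempty (Sylow q H) := inferInstance
          refine Q.not_dvd_index (hqX.trans (Subgroup.index_dvd_of_le ?_))
          intro x hx
          exact Subgroup.map_subtype_le (Q : Subgroup H)
            ((hall q hq hqH Q).conj_mem x ⟨x, hx, rfl⟩ g)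
        rintro _ ⟨x, hx, rfl⟩
        exact (hX ▸ Subgroup.mem_top _ : (⟨x, hx⟩ : H) ∈ X)
      · exact (Subgroup.card_map_of_injective (MulAut.conj g).injective).ge
    refine hCtop (top_le_iff.mp ?_)
    calc (⊤ : Subgroup G) = Subgroup.normalizer (H : Set G) :=
          (Subgroup.normalizer_eq_top_iff.mpr hHn).symm
      _ ≤ Subgroup.centralizer (H : Set G) := h
      _ ≤ C := Subgroup.centralizer_le (SetLike.coe_subset_coe.mpr hSH)

end CfsgLib.Transfer
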