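import Cfsg.Agent.Lib.Transfer.AbelianSylow
import Cfsg.Agent.Lib.Solvable.SchurZassenhaus
import Mathlib.GroupTheory.SchurZassenhaus

/-!
# A complement of `O^p(G)` when its Sylow `p`-subgroups are abelian
-/

set_option autoImplicit false

namespace CfsgLib.Transfer

open Cfsg

universe u

variable {G : Type u} [Group G] {p : ℕ}

theorem exists_complement_pResidual [Finite G] [hp : Fact p.Prime]
    (h : ∀ Q : Sylow p (pResidual p G), IsMulCommutative Q) :
    ∃ K : Subgroup G, K.IsComplement' (pResidual p G) := by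
  let K := pResidual p G
  obtain ⟨Q⟩ : Nonempty (Sylow p K) := inferInstance
  have hQab := h Q
  let Q' : Subgroup G := (Q : Subgroup K).map K.subtype
  have hQ'K : Q' ≤ K := Subgroup.map_subtype_le _
  let N := Subgroup.normalizer (Q' : Set G)
  have hfr : N ⊔ K = ⊤ := Q.normalizer_sup_eq_top
  -- `C_Q(N_K(Q))` is trivial
  have hQK : (Q : Subgroup K) ≤ commutator K := by
    intro x hx
    refine (Q : Subgroup K).focalSubgroup_le_commutator (sylow_inf_pResidual_le_focal Q ⟨hx, ?_⟩)
    rw [pResidual_pResidual]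
    exact Subgroup.mem_top x
  have hC : ∀ z : G, z ∈ Q' → (∀ m ∈ N ⊓ K, m * z = z * m) → z = 1 := by
    rintro _ ⟨z, hz, rfl⟩ hzc
    refine congrArg Subtype.val
      (abelian_sylow_centralPart_inf_commutator Q hQab hz ?_ (hQK hz) : z = 1)
    refine Subgroup.mem_centralizer_iff.mpr fun n hn => Subtype.ext ?_
    refine hzc n ⟨?_, n.2⟩
    exact Subgroup.le_normalizer_map K.subtype ⟨n, hn, rfl⟩
  -- a complement `R` of `Q'` in `M = N ∩ K`
  let M := N ⊓ K
  have hQM : Q' ≤ M := le_inf Subgroup.le_normalizer hQ'K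
  have hn : (Q'.subgroupOf M).Normal :=
    (Subgroup.normal_subgroupOf_iff_le_normalizer hQM).mpr inf_le_left
  obtain ⟨k, hk⟩ := Q.2.exists_card_eq
  have hcardQ' : Nat.card Q' = p ^ k := by
    rw [← hk]; exact Subgroup.card_map_of_injective K.subtype_injective
  have hidx : ¬ p ∣ (Q'.subgroupOf M).index := fun hd => Q.not_dvd_index (by
    have h1 : (Q'.subgroupOf K).index = (Q : Subgroup K).index := by
      rw [Subgroup.subgroupOf, Subgroup.comap_map_eq_self_of_injective K.subtype_injective]
    rw [← h1]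
    exact hd.trans (Dvd.intro _ (Subgroup.relIndex_mul_relIndex Q' M K hQM inf_le_right)))
  have hcardQM : Nat.card (Q'.subgroupOf M) = p ^ k := by
    rw [Nat.card_congr (Subgroup.subgroupOfEquivOfLe hQM).toEquiv, hcardQ']
  obtain ⟨R, hR⟩ := Subgroup.exists_right_complement'_of_coprime (N := Q'.subgroupOf M) (by
    rw [hcardQM]
    exact ((hp.out.coprime_iff_not_dvd).mpr hidx).pow_left k)
  let R' : Subgroup G := R.map M.subtype
  have hR'M : R' ≤ M := Subgroup.map_subtype_le _
  have hQRsup : Q' ⊔ R' = M := by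
    have h1 : Q' = (Q'.subgroupOf M).map M.subtype :=
      (Subgroup.map_subgroupOf_eq_of_le hQM).symm
    calc Q' ⊔ R' = (Q'.subgroupOf M ⊔ R).map M.subtype := by rw [Subgroup.map_sup, ← h1]
      _ = M := by rw [hR.sup_eq_top, ← MonoidHom.range_eq_map, Subgroup.range_subtype]
  have hcardR : Nat.card R' = (Q'.subgroupOf M).index := by
    rw [Subgroup.card_map_of_injective M.subtype_injective]
    exact hR.symm.index_eq_card.symm
  have hR'norm : R' ≤ Subgroup.normalizer (Q' : Set G) := hR'M.trans inf_le_left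
  let X := N ⊓ Subgroup.normalizer (R' : Set G)
  -- `N = Q' · X`
  have hNX : N ≤ Q' ⊔ X := by
    intro n hn'
    let R'' := R'.map (MulAut.conj n).toMonoidHom
    have hnM : M.map (MulAut.conj n).toMonoidHom ≤ M := by
      rintro _ ⟨m, hm, rfl⟩
      exact Subgroup.mem_inf.mpr ⟨mul_mem (mul_mem hn' (Subgroup.mem_inf.mp hm).1) (inv_mem hn'),
        pResidual_normal.conj_mem m (Subgroup.mem_inf.mp hm).2 n⟩
    obtain ⟨q, hq, hqe⟩ := CfsgLib.Solvable.exists_conj_eq_of_coprime (N := Q') (B := R'') (B' := R')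
      ((Subgroup.map_mono hR'M).trans (hnM.trans inf_le_left)) (by
        have h1 : M ≤ Q' ⊔ R'' := by
          have h2 : (Q' ⊔ R').map (MulAut.conj n).toMonoidHom = Q' ⊔ R'' := by
            rw [Subgroup.map_sup]
            exact congrArg (· ⊔ R'') (Subgroup.mem_normalizer_iff_map_conj_eq.mp hn')
          rw [← h2, hQRsup]
          exact fun m hm => ⟨n⁻¹ * m * n, Subgroup.mem_inf.mpr
            ⟨mul_mem (mul_mem (inv_mem hn') (Subgroup.mem_inf.mp hm).1) hn',
            pResidual_normal.conj_mem' m (Subgroup.mem_inf.mp hm).2 n⟩, by simp [mul_assoc]⟩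
        exact hR'M.trans h1)
      (Subgroup.card_map_of_injective (MulAut.conj n).injective).symm (by
        rw [hcardQ', Subgroup.card_map_of_injective (MulAut.conj n).injective, hcardR]
        exact ((hp.out.coprime_iff_not_dvd).mpr hidx).pow_left k)
      (Or.inl (by
        have : IsPGroup p Q' := IsPGroup.of_card hcardQ'
        have := this.isNilpotent
        infer_instance))
    have hqn : q * n ∈ X := by
      refine ⟨mul_mem (Subgroup.le_normalizer hq) hn', ?_⟩
      refine Subgroup.mem_normalizer_iff_map_conj_eq.mpr ?_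
      conv_rhs => rw [← hqe]
      change Subgroup.map (MulAut.conj (q * n)).toMonoidHom R' = Subgroup.map (MulAut.conj q).toMonoidHom R''
      ext x
      simp [R'', Subgroup.mem_map, mul_assoc]
    have e : n = q⁻¹ * (q * n) := by simp
    rw [e]
    exact mul_mem (Subgroup.mem_sup_left (inv_mem hq)) (Subgroup.mem_sup_right hqn)
  obtain ⟨U⟩ : Nonempty (Sylow p X) := inferInstance
  refine ⟨(U : Subgroup X).map X.subtype, Subgroup.IsComplement'.symm
    (Subgroup.isComplement'_of_disjoint_and_mul_eq_univ ?_ ?_)⟩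
  · -- trivial intersection
    rw [Subgroup.disjoint_def]
    rintro _ huK ⟨u, hu, rfl⟩
    have hp' : IsPGroup p ((U : Subgroup X).map X.subtype) := U.2.map X.subtype
    have huQ : (u : G) ∈ Q' := by
      have huM : (u : G) ∈ M := ⟨u.2.1, huK⟩
      have h1 : IsPGroup p (Subgroup.zpowers (⟨u, huM⟩ : M)) := by
        obtain ⟨j, hj⟩ := IsPGroup.iff_orderOf.mp U.2 ⟨u, hu⟩
        refine IsPGroup.of_card (n := j) ?_
        rw [Nat.card_zpowers, Subgroup.orderOf_mk, ← hj, Subgroup.orderOf_mk, Subgroup.orderOf_coe]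
      have h2 : IsPGroup p (Q'.subgroupOf M) := IsPGroup.of_card hcardQM
      let T : Sylow p M := h2.toSylow hidx
      obtain ⟨T', hT'⟩ := h1.exists_le_sylow
      obtain ⟨g, hg⟩ := MulAction.exists_smul_eq M T T'
      have : (T : Subgroup M).Normal := hn
      rw [Sylow.smul_eq_of_normal] at hg
      rw [← hg] at hT'
      exact hT' (Subgroup.mem_zpowers _)
    have hcR : ∀ r ∈ R', r * (u : G) = u * r := by
      intro r hr
      have h1 : (u : G) * r * (u : G)⁻¹ * r⁻¹ ∈ R' :=
        mul_mem ((Subgroup.mem_normalizer_iff.mp u.2.2 r).mp hr) (inv_mem hr)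
      have h2 : (u : G) * r * (u : G)⁻¹ * r⁻¹ ∈ Q' := by
        have h3 := mul_mem huQ ((Subgroup.mem_normalizer_iff.mp (hR'norm hr) _).mp (inv_mem huQ))
        simpa [mul_assoc] using h3
      have hd : (⟨_, hQM h2⟩ : M) = 1 := by
        refine Subgroup.disjoint_def.mp hR.disjoint (show _ ∈ Q'.subgroupOf M from h2) ?_
        obtain ⟨r', hr', hre⟩ := h1
        exact (Subtype.ext hre : r' = ⟨_, hQM h2⟩) ▸ hr'
      have h4 := congrArg Subtype.val hd
      simp only [OneMemClass.coe_one] at h4
      rw [mul_inv_eq_one, mul_inv_eq_iff_eq_mul] at h4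
      exact h4.symm
    refine hC _ huQ fun m hm => ?_
    have hmem : m ∈ Subgroup.centralizer ({(u : G)} : Set G) := by
      refine (sup_le ?_ ?_ : Q' ⊔ R' ≤ _) (hQRsup.ge hm)
      · intro q hq
        refine Subgroup.mem_centralizer_singleton_iff.mpr ?_
        obtain ⟨q', hq', rfl⟩ := hq
        obtain ⟨u', hu', hue⟩ := huQ
        change _ = (u : G) at hue
        rw [← hue]
        exact congrArg (fun x : (Q : Subgroup K) => ((x : K) : G))
          (mul_comm' (⟨q', hq'⟩ : (Q : Subgroup K)) ⟨u', hu'⟩)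
      · exact fun r hr => Subgroup.mem_centralizer_singleton_iff.mpr (hcR r hr)
    exact Subgroup.mem_centralizer_singleton_iff.mp hmem
  · rw [← Subgroup.normal_mul]
    suffices hX : X ≤ K ⊔ (U : Subgroup X).map X.subtype by
      have : (⊤ : Subgroup G) ≤ K ⊔ (U : Subgroup X).map X.subtype :=
        hfr.ge.trans (sup_le (hNX.trans (sup_le (hQ'K.trans le_sup_left) hX)) le_sup_left)
      rw [show pResidual p G ⊔ (U : Subgroup X).map X.subtype = ⊤ from top_le_iff.mp this,
        Subgroup.coe_top]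
    intro x hx
    obtain ⟨a, ha, b, hb, hab⟩ := Subgroup.mem_sup_of_normal_left.mp
      (show (⟨x, hx⟩ : X) ∈ pResidual p X ⊔ (U : Subgroup X) by
        rw [pResidual_sup_of_sylow]; exact Subgroup.mem_top _)
    rw [show x = (a : G) * b from (congrArg Subtype.val hab).symm]
    exact mul_mem (Subgroup.mem_sup_left (map_subtype_pResidual_le X ⟨a, ha, rfl⟩))
      (Subgroup.mem_sup_right ⟨b, hb, rfl⟩)

end CfsgLib.Transfer
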