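import Cfsg.Agent.Lib.Transfer.PResidual
import Mathlib.GroupTheory.Transfer
import Mathlib.GroupTheory.Nilpotent
import Mathlib.GroupTheory.SpecificGroups.Cyclic

/-!
# Coprimality criteria for `N_G(P) = C_G(P)`
-/

set_option autoImplicit false

namespace CfsgLib.Transfer

open Cfsg

universe u

variable {G : Type u} [Group G] {p : ℕ}

/-- A `q`-element normalizing a subgroup of order `p ^ n` centralizes it when `q ∤ p ^ j - 1`
for all `1 ≤ j ≤ n`. -/
theorem mem_centralizer_of_not_dvd_pow_sub_one [Finite G] [hp : Fact p.Prime] {P : Subgroup G}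
    {n : ℕ} (hn : Nat.card P = p ^ n) {g : G} (hg : g ∈ Subgroup.normalizer (P : Set G)) {q : ℕ}
    [hq : Fact q.Prime] {k : ℕ} (hgo : orderOf g = q ^ k) (hqp : q ≠ p)
    (hcond : ∀ j, 1 ≤ j → j ≤ n → ¬ q ∣ p ^ j - 1) : g ∈ Subgroup.centralizer (P : Set G) := by
  have hle : Subgroup.zpowers g ≤ Subgroup.normalizer (P : Set G) := Subgroup.zpowers_le.mpr hg
  let act : MulAction (Subgroup.zpowers g) P :=
    { smul := fun h x => ⟨h * x * (h : G)⁻¹, (Subgroup.mem_normalizer_iff.mp (hle h.2) x).mp x.2⟩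
      one_smul := fun x => Subtype.ext (show ((1 : Subgroup.zpowers g) : G) * x * _ = x by simp)
      mul_smul := fun a b x => Subtype.ext (show ((a * b : Subgroup.zpowers g) : G) * x * _ =
        (a : G) * (b * x * (b : G)⁻¹) * (a : G)⁻¹ by simp [mul_assoc]) }
  let F := P ⊓ Subgroup.centralizer (Subgroup.zpowers g : Set G)
  have hQ : IsPGroup q (Subgroup.zpowers g) :=
    IsPGroup.of_card (n := k) (by rw [Nat.card_zpowers, hgo])
  have e : MulAction.fixedPoints (Subgroup.zpowers g) P ≃ F :=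
    { toFun := fun x => ⟨x.1.1, x.1.2, Subgroup.mem_centralizer_iff.mpr fun h hh => by
        have h1 : h * (x.1 : G) * h⁻¹ = x.1 := congrArg Subtype.val (x.2 ⟨h, hh⟩)
        exact mul_inv_eq_iff_eq_mul.mp h1⟩
      invFun := fun y => ⟨⟨y.1, y.2.1⟩, fun h => Subtype.ext (show (h : G) * y * (h : G)⁻¹ = y from
        mul_inv_eq_iff_eq_mul.mpr (Subgroup.mem_centralizer_iff.mp y.2.2 h h.2))⟩
      left_inv := fun x => rfl
      right_inv := fun y => rfl }
  have hmod := hQ.card_modEq_card_fixedPoints P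
  rw [Nat.card_congr e, hn] at hmod
  obtain ⟨i, hi⟩ := ((IsPGroup.of_card (p := p) hn).to_le (inf_le_left : F ≤ P)).exists_card_eq
  rw [hi] at hmod
  have hin : i ≤ n := by
    rw [← Nat.pow_le_pow_iff_right hp.out.one_lt, ← hi, ← hn]
    exact Subgroup.card_le_of_le inf_le_left
  have heq : i = n := by
    by_contra hne
    have h1 : q ∣ p ^ n - p ^ i :=
      (Nat.modEq_iff_dvd' (Nat.pow_le_pow_right hp.out.pos hin)).mp hmod.symm
    have h2 : p ^ n - p ^ i = p ^ i * (p ^ (n - i) - 1) := by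
      rw [Nat.mul_sub, mul_one, ← pow_add, Nat.add_sub_cancel' hin]
    rw [h2] at h1
    rcases hq.out.dvd_mul.mp h1 with h3 | h3
    · exact hqp ((Nat.prime_dvd_prime_iff_eq hq.out hp.out).mp (hq.out.dvd_of_dvd_pow h3))
    · exact hcond (n - i) (by omega) (by omega) h3
  have hFP : F = P := Subgroup.eq_of_le_of_card_ge inf_le_left (by rw [hi, hn, heq])
  refine Subgroup.mem_centralizer_iff.mpr fun x hx => ?_
  have h3 : x ∈ F := by rw [hFP]; exact hx
  exact (Subgroup.mem_centralizer_iff.mp h3.2 g (Subgroup.mem_zpowers g)).symm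

/-- An abelian Sylow subgroup of order `p ^ n` with no prime divisor of `|G|` other than `p`
dividing some `p ^ j - 1`, `1 ≤ j ≤ n`, has a normal complement. -/
theorem hasNormalPComplement_of_small_sylow [Finite G] [hp : Fact p.Prime] (P : Sylow p G) {n : ℕ}
    (hn : Nat.card P = p ^ n) (hab : IsMulCommutative (P : Subgroup G))
    (hcond : ∀ q : ℕ, q.Prime → q ∣ Nat.card G → q ≠ p →
      ∀ j, 1 ≤ j → j ≤ n → ¬ q ∣ p ^ j - 1) : HasNormalPComplement p G := by
  suffices h : Subgroup.normalizer (P : Set G) ≤ Subgroup.centralizer (P : Set G) from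
    ⟨P, _, inferInstance, MonoidHom.ker_transferSylow_isComplement' P h⟩
  let N := Subgroup.normalizer (P : Set G)
  let C := (Subgroup.centralizer (P : Set G)).subgroupOf N
  suffices hC : C.index = 1 by
    exact Subgroup.subgroupOf_eq_top.mp (Subgroup.index_eq_one.mp hC)
  by_contra hne
  obtain ⟨q, hq, hqC⟩ := Nat.exists_prime_and_dvd hne
  have hqp : q ≠ p := by
    rintro rfl
    refine P.not_dvd_index (hqC.trans ?_)
    exact (Subgroup.relIndex_dvd_of_le_left N (P : Subgroup G).le_centralizer).trans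
      (Subgroup.relIndex_dvd_index_of_le (Subgroup.le_normalizer))
  have hqG : q ∣ Nat.card G :=
    hqC.trans ((Subgroup.index_dvd_card C).trans (Subgroup.card_subgroup_dvd_card N))
  have := Fact.mk hq
  obtain ⟨Q⟩ : Nonempty (Sylow q N) := inferInstance
  have hQC : ¬ (Q : Subgroup N) ≤ C := fun h =>
    Q.not_dvd_index (hqC.trans (Subgroup.index_dvd_of_le h))
  obtain ⟨x, hx, hxC⟩ := SetLike.not_le_iff_exists.mp hQC
  obtain ⟨k, hk⟩ := IsPGroup.iff_orderOf.mp Q.2 ⟨x, hx⟩
  rw [Subgroup.orderOf_mk, ← Subgroup.orderOf_coe] at hk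
  exact hxC (mem_centralizer_of_not_dvd_pow_sub_one hn x.2 hk hqp (hcond q hq hqG hqp))

theorem le_centralizer_of_prime_card [hp : Fact p.Prime] {P : Subgroup G}
    (h : Nat.card P = p ^ 1) : P ≤ Subgroup.centralizer (P : Set G) := by
  have := isCyclic_of_prime_card (hp := hp) (show Nat.card P = p by rwa [pow_one] at h)
  exact P.le_centralizer

theorem no_prime_dvd_small {q j : ℕ} (hp : p.Prime) (hq : q.Prime) (hlt : p < q) (hj1 : 1 ≤ j)
    (hj2 : j ≤ 2) (hdvd : q ∣ p ^ j - 1) (h23 : p = 2 → q = 3 → False) : False := by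
  have h2 := hp.two_le
  have hle : ¬ q ∣ p - 1 := fun h => by
    have := Nat.le_of_dvd (by omega) h
    omega
  rcases (show j = 1 ∨ j = 2 by omega) with rfl | rfl
  · rw [pow_one] at hdvd
    exact hle hdvd
  · have h3 : p ^ 2 - 1 = (p + 1) * (p - 1) := by
      simpa using Nat.sq_sub_sq p 1
    rw [h3] at hdvd
    rcases hq.dvd_mul.mp hdvd with h | h
    · have := Nat.le_of_dvd (by omega) h
      have hq1 : q = p + 1 := by omega
      rcases hp.eq_two_or_odd with hp2 | hodd
      · exact h23 hp2 (by omega)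
      · rcases hq.eq_two_or_odd with hq2 | hq2 <;> omega
    · exact hle h

theorem simple_not_hasNormalPComplement [Finite G] [IsSimpleGroup G] [hp : Fact p.Prime]
    (hpG : p ∣ Nat.card G) (hG : ∃ x y : G, x * y ≠ y * x) : ¬ HasNormalPComplement p G := by
  intro h
  rcases (pResidual_normal (p := p) (G := G)).eq_bot_or_eq_top with hb | ht
  · obtain ⟨k, hk⟩ := index_pResidual_eq_pow (G := G) (p := p)
    rw [hb, Subgroup.index_bot] at hk
    have := (IsPGroup.of_card (p := p) hk).isNilpotent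
    have := IsSimpleGroup.toNontrivial (G := G)
    have hc : Subgroup.center G = ⊤ :=
      (inferInstance : (Subgroup.center G).Normal).eq_bot_or_eq_top.resolve_left
        (Group.IsNilpotent.center_ne_bot G)
    obtain ⟨x, y, hxy⟩ := hG
    exact hxy (Subgroup.mem_center_iff.mp (hc ▸ Subgroup.mem_top y) x)
  · exact hasNormalPComplement_iff_not_dvd.mp h (by rw [ht, Subgroup.card_top]; exact hpG)

end CfsgLib.Transfer
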