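import Cfsg.Agent.Lib.Transfer.ThompsonFactor
import Cfsg.Agent.Lib.Fusion.GlaubermanThompson

/-! Thompson's normal p-complement theorem for `N(J(P))` and `C(Z(P))`. -/

set_option autoImplicit false

open scoped commutatorElement

universe u

namespace CfsgLib.ThompsonComplement

open CfsgLib.NPC CfsgLib.PLocal
open CfsgLib.GlaubermanThompson (exists_pow_coprime eq_one_of_coprime_of_pow npc_map
  npc_normalizer_of_map npc_of_top)

variable {G : Type u} [Group G] [Finite G] {p : ℕ} [hp : Fact p.Prime]

/-- The two hypotheses of Thompson's theorem, for a `p`-subgroup. -/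
def LocalHyp (p : ℕ) {G : Type*} [Group G] (U : Subgroup G) : Prop :=
  Cfsg.HasNormalPComplement p (Subgroup.normalizer (Cfsg.thompsonSubgroupOf p U : Set G)) ∧
    Cfsg.HasNormalPComplement p
      (Subgroup.centralizer ((U ⊓ Subgroup.centralizer (U : Set G) : Subgroup G) : Set G))

theorem npc_centralizer_of_map {H : Type*} [Group H] [Finite H] (f : H →* G)
    (hf : Function.Injective f) (X : Subgroup H)
    (h : Cfsg.HasNormalPComplement p (Subgroup.centralizer (X.map f : Set G))) :
    Cfsg.HasNormalPComplement p (Subgroup.centralizer (X : Set H)) := by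
  refine hasNormalPComplement_of_equiv
    ((Subgroup.centralizer (X : Set H)).equivMapOfInjective f hf).symm (hasNormalPComplement_of_le ?_ h)
  rintro _ ⟨x, hx, rfl⟩ _ ⟨y, hy, rfl⟩
  rw [← map_mul, ← map_mul, hx y hy]

theorem localHyp_of_map {H : Type*} [Group H] [Finite H] (f : H →* G) (hf : Function.Injective f)
    (U : Subgroup H) (h : LocalHyp p (U.map f)) : LocalHyp p U := by
  obtain ⟨h1, h2⟩ := h
  rw [← thompsonSubgroupOf_map hf] at h1
  rw [← map_inf_centralizer_self hf] at h2
  exact ⟨npc_normalizer_of_map f hf _ h1, npc_centralizer_of_map f hf _ h2⟩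

theorem localHyp_sylow {P : Sylow p G} (h : LocalHyp p (P : Subgroup G)) (T : Sylow p G) :
    LocalHyp p (T : Subgroup G) := by
  obtain ⟨g, hg⟩ := MulAction.exists_smul_eq G T P
  refine localHyp_of_map (MulAut.conj g).toMonoidHom (MulAut.conj g).injective _ ?_
  rw [show (T : Subgroup G).map (MulAut.conj g).toMonoidHom = (P : Subgroup G) from
    congrArg Sylow.toSubgroup hg]
  exact h

omit [Finite G] hp in
theorem thompsonSubgroupOf_map_injOn {H : Type*} [Group H] (f : G →* H) (U : Subgroup G)
    (hf : Function.Injective (f.comp U.subtype)) :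
    (Cfsg.thompsonSubgroupOf p U).map f = Cfsg.thompsonSubgroupOf p (U.map f) := by
  rw [Cfsg.thompsonSubgroupOf, Subgroup.map_map, ← thompsonSubgroupOf_top,
    thompsonSubgroupOf_map hf, ← Subgroup.map_map, ← MonoidHom.range_eq_map,
    Subgroup.range_subtype]

omit [Finite G] hp in
theorem center_map_injOn {H : Type*} [Group H] (f : G →* H) (U : Subgroup G)
    (hf : Function.Injective (f.comp U.subtype)) :
    (U ⊓ Subgroup.centralizer (U : Set G)).map f = U.map f ⊓ Subgroup.centralizer (U.map f : Set H) := by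
  have h1 := map_inf_centralizer_self U.subtype_injective ⊤
  have h2 := map_inf_centralizer_self hf ⊤
  rw [← Subgroup.map_map, ← Subgroup.map_map, h1, ← MonoidHom.range_eq_map,
    Subgroup.range_subtype] at h2
  exact h2

theorem thompsonSubgroupOf_ne_bot {U : Subgroup G} (hU : IsPGroup p U) (hU1 : U ≠ ⊥) :
    Cfsg.thompsonSubgroupOf p U ≠ ⊥ := by
  haveI := (Subgroup.nontrivial_iff_ne_bot U).mpr hU1
  obtain ⟨m, hm, hc⟩ := hU.nontrivial_iff_card.mp inferInstance
  rw [Cfsg.thompsonSubgroupOf, Ne, Subgroup.map_eq_bot_iff_of_injective _ U.subtype_injective]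
  exact thompsonSubgroup_ne_bot (hc ▸ dvd_pow_self p hm.ne')

theorem center_ne_bot {U : Subgroup G} (hU : IsPGroup p U) (hU1 : U ≠ ⊥) :
    U ⊓ Subgroup.centralizer (U : Set G) ≠ ⊥ := by
  haveI := (Subgroup.nontrivial_iff_ne_bot U).mpr hU1
  haveI := hU.center_nontrivial
  obtain ⟨⟨z, hz⟩, hz1⟩ := exists_ne (1 : Subgroup.center ↥U)
  intro h
  have : (z : G) ∈ U ⊓ Subgroup.centralizer (U : Set G) :=
    ⟨z.2, fun a ha => congrArg Subtype.val (Subgroup.mem_center_iff.mp hz ⟨a, ha⟩)⟩
  rw [h, Subgroup.mem_bot] at this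
  exact hz1 (Subtype.ext (Subtype.ext this))

omit [Finite G] hp in
theorem normalizer_le_normalizer_center (U : Subgroup G) :
    Subgroup.normalizer (U : Set G) ≤
      Subgroup.normalizer ((U ⊓ Subgroup.centralizer (U : Set G) : Subgroup G) : Set G) := by
  intro g hg
  apply mem_normalizer_of_map_conj_eq
  rw [map_inf_centralizer_self (MulAut.conj g).injective, map_conj_eq_of_mem_normalizer hg]

/-- Structure of a minimal counterexample. -/
theorem config_structure (hp2 : p ≠ 2) (P : Sylow p G) {Q : Subgroup G} [Q.Normal]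
    (hQP : Q ≤ (P : Subgroup G)) (hQmax : ∀ N : Subgroup G, N.Normal → IsPGroup p N → N ≤ Q)
    (hpc : ∀ N : Subgroup G, N.Normal → (Nat.card N).Coprime p → N = ⊥)
    (hprop : ∀ H : Subgroup G, (P : Subgroup G) ≤ H → H ≠ ⊤ → Cfsg.HasNormalPComplement p H)
    {K : Subgroup G} [K.Normal] {n : ℕ} (hK : K.index = p ^ n) (hQK : Q ≤ K) (hne : K ≠ Q)
    (hco : (Nat.card (K.map (QuotientGroup.mk' Q))).Coprime p) :
    Subgroup.centralizer (Q : Set G) ≤ Q ∧
      (∀ H : Subgroup G, (P : Subgroup G) ≤ H → H ≠ ⊤ → H = (P : Subgroup G)) ∧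
      ∀ T : Sylow 2 G, IsMulCommutative T := by
  have hpp := hp.out
  set f := QuotientGroup.mk' Q with hf
  have hfQ : ∀ x, f x = 1 ↔ x ∈ Q := fun x => QuotientGroup.eq_one_iff x
  have hQp : IsPGroup p Q := P.isPGroup'.to_le hQP
  set m := Nat.card (K.map f) with hm
  have hKel : ∀ x ∈ K, ∀ j : ℕ, x ^ p ^ j = 1 → x ∈ Q := by
    intro x hx j hj
    rw [← hfQ]
    refine eq_one_of_coprime_of_pow (j := j) (by rw [← map_pow, hj, map_one]) (hco.coprime_dvd_left ?_)
    exact Subgroup.orderOf_dvd_natCard _ (Subgroup.mem_map_of_mem f hx)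
  have hPK : ∀ x ∈ (P : Subgroup G), x ∈ K → x ∈ Q := fun x hx hxK => by
    obtain ⟨j, hj⟩ := P.isPGroup' ⟨x, hx⟩
    exact hKel x hxK j (congrArg Subtype.val hj)
  have hKco : ∀ g : G, Nat.Coprime (orderOf g) p → g ∈ K := fun g hg => mem_of_coprime hK hg
  -- `C_K(Q) ≤ Q`
  set M := Subgroup.centralizer (Q : Set G) ⊓ K with hM
  have hMn : M.Normal := inferInstance
  have hMQ : M ≤ Q := by
    obtain ⟨N, hN⟩ := hasNormalPComplement_iff.1 (frobenius_criterion (G := M) (p := p)
      (fun R hR g _ _ => Subgroup.mem_centralizer_iff.2 fun r hr => Subtype.ext (by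
        obtain ⟨j, hj⟩ := hR ⟨r, hr⟩
        have hrQ : (r : G) ∈ Q :=
          hKel r r.2.2 j (congrArg Subtype.val (congrArg Subtype.val hj))
        exact Subgroup.mem_centralizer_iff.1 g.2.1 r hrQ)))
    have hNn : (N.map M.subtype).Normal := by
      refine ⟨?_⟩
      rintro _ ⟨x, hx, rfl⟩ g
      refine ⟨⟨g * (x : G) * g⁻¹, hMn.conj_mem x x.2 g⟩, (mem_iff_coprime hN).2 ?_, rfl⟩
      rw [← Subgroup.orderOf_coe]
      change Nat.Coprime (orderOf (g * (x : G) * g⁻¹)) p
      rw [show g * (x : G) * g⁻¹ = MulAut.conj g (x : G) from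
        (MulAut.conj_apply g _).symm, MulEquiv.orderOf_eq, Subgroup.orderOf_coe]
      exact (mem_iff_coprime hN).1 hx
    have hN1 : N = ⊥ := (Subgroup.map_eq_bot_iff_of_injective _ M.subtype_injective).1
      (hpc _ hNn (by rw [Subgroup.card_map_of_injective M.subtype_injective]; exact hN.2.1))
    obtain ⟨i, hi⟩ := hN.2.2
    rw [hN1, Subgroup.index_bot] at hi
    exact hQmax M hMn (IsPGroup.of_card hi)
  have hfree : ∀ g ∈ Subgroup.centralizer (Q : Set G), Nat.Coprime (orderOf g) p → g = 1 := by
    intro g hg hgo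
    obtain ⟨j, hj⟩ := hQp ⟨g, hMQ ⟨hg, hKco g hgo⟩⟩
    exact eq_one_of_coprime_of_pow (congrArg Subtype.val hj) hgo
  have hCQ : Subgroup.centralizer (Q : Set G) ≤ Q := by
    refine hQmax _ inferInstance fun x => ?_
    obtain ⟨j, hj⟩ := hQp ⟨(x : G) ^ p ^ n, hMQ ⟨pow_mem x.2 _, hK ▸ K.pow_index_mem (x : G)⟩⟩
    refine ⟨n + j, Subtype.ext ?_⟩
    rw [Subgroup.coe_pow, pow_add, pow_mul, Subgroup.coe_one]
    exact congrArg Subtype.val hj
  -- a proper subgroup containing `P` equals `P`
  have hPmax : ∀ H : Subgroup G, (P : Subgroup G) ≤ H → H ≠ ⊤ → H = (P : Subgroup G) := by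
    intro H hPH hH
    refine P.is_maximal' (fun x => ?_) hPH
    obtain ⟨j, hj⟩ := exists_pow_coprime (p := p) x
    refine ⟨j, ?_⟩
    have hQH : Q ≤ H := hQP.trans hPH
    have h1 := mem_centralizer_of_hasNormalPComplement (p := p) (Q := Q.subgroupOf H)
      (hQp.of_equiv (Subgroup.subgroupOfEquivOfLe hQH).symm)
      (hasNormalPComplement_subgroup (hprop H hPH hH) _)
      (g := x ^ p ^ j) (by rw [Subgroup.normalizer_eq_top]; exact Subgroup.mem_top _) hj
    have hc : ((x ^ p ^ j : H) : G) ∈ Subgroup.centralizer (Q : Set G) :=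
      Subgroup.mem_centralizer_iff.2 fun q hq => congrArg Subtype.val
        (Subgroup.mem_centralizer_iff.1 h1 ⟨q, hQH hq⟩ (Subgroup.mem_subgroupOf.2 hq))
    exact Subtype.ext (hfree _ hc (by rw [Subgroup.orderOf_coe]; exact hj))
  -- irreducibility
  have hirr : ∀ R : Subgroup G, Q ≤ R → R ≤ K →
      (P : Subgroup G) ≤ Subgroup.normalizer (R : Set G) → R = Q ∨ R = K := by
    intro R hQR hRK hPR
    by_cases hH : R ⊔ (P : Subgroup G) = ⊤
    · right
      have hRn : R.Normal := by
        rw [← Subgroup.normalizer_eq_top_iff, ← top_le_iff, ← hH]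
        exact sup_le Subgroup.le_normalizer hPR
      refine le_antisymm hRK fun x hx => ?_
      obtain ⟨r, hr, y, hy, rfl⟩ := Subgroup.mem_sup_of_normal_left.1 (hH ▸ Subgroup.mem_top x :
        x ∈ R ⊔ (P : Subgroup G))
      have hyK : y ∈ K := by simpa using mul_mem (inv_mem (hRK hr)) hx
      exact mul_mem hr (hQR (hPK y hy hyK))
    · left
      refine le_antisymm (fun x hx => ?_) hQR
      have hxP : x ∈ (P : Subgroup G) := by
        rw [← hPmax _ le_sup_right hH]; exact Subgroup.mem_sup_left hx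
      exact hPK x hxP (hRK hx)
  -- `K / Q` is abelian
  have hKab : ∀ a ∈ K, ∀ b ∈ K, ⁅a, b⁆ ∈ Q := by
    set Kb := K.map f with hKb
    have hKb1 : Kb ≠ ⊥ := fun h => hne (le_antisymm (fun x hx => (hfQ x).1 (by
      have h1 : f x ∈ Kb := Subgroup.mem_map_of_mem f hx
      rwa [h, Subgroup.mem_bot] at h1)) hQK)
    have hm1 : m ≠ 1 := fun h => hKb1 (Subgroup.eq_bot_of_card_eq _ h)
    obtain ⟨q, hq, hqd⟩ := Nat.exists_prime_and_dvd hm1
    have : Fact q.Prime := ⟨hq⟩
    have hKbn : Kb.Normal := Subgroup.Normal.map inferInstance f (QuotientGroup.mk'_surjective Q)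
    set Pb := (P : Subgroup G).map f with hPb
    have hPbp : IsPGroup p Pb := P.isPGroup'.map f
    obtain ⟨i, hi⟩ := IsPGroup.iff_card.1 hPbp
    have hnil : Group.IsNilpotent Pb := hPbp.isNilpotent
    obtain ⟨S, hS⟩ := CfsgLib.Solvable.exists_invariant_sylow (A := Pb) (K := Kb)
      (by rw [Subgroup.normalizer_eq_top]; exact le_top) (by rw [hi]; exact hco.symm.pow_left i)
      (Or.inl inferInstance) q
    set Sb := (S : Subgroup Kb).map Kb.subtype with hSb
    have hSbK : Sb ≤ Kb := Subgroup.map_subtype_le _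
    have hSb1 : Sb ≠ ⊥ := fun h => S.ne_bot_of_dvd_card hqd
      ((Subgroup.map_eq_bot_iff_of_injective _ Kb.subtype_injective).1 h)
    have hQker : Q = f.ker := (QuotientGroup.ker_mk' Q).symm
    have hcK : Kb.comap f = K := by
      rw [hKb, Subgroup.comap_map_eq, ← hQker, sup_eq_left.2 hQK]
    have hSK : Kb = Sb := by
      rcases hirr (Sb.comap f) (fun x hx => by
          rw [Subgroup.mem_comap, (hfQ x).2 hx]; exact one_mem _)
          (hcK ▸ Subgroup.comap_mono hSbK) (fun x hx => by
          rw [← Subgroup.comap_normalizer_eq_of_surjective _ (QuotientGroup.mk'_surjective Q)]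
          exact hS (Subgroup.mem_map_of_mem f hx)) with h | h
      · exfalso
        apply hSb1
        have := congrArg (Subgroup.map f) h
        rwa [Subgroup.map_comap_eq_self_of_surjective (QuotientGroup.mk'_surjective Q),
          (Subgroup.map_eq_bot_iff Q).2 hQker.le] at this
      · rw [hKb, ← h, Subgroup.map_comap_eq_self_of_surjective (QuotientGroup.mk'_surjective Q)]
    have hKq : IsPGroup q Kb := by rw [hSK]; exact S.isPGroup'.map _
    have : Nontrivial Kb := (Subgroup.nontrivial_iff_ne_bot _).2 hKb1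
    have hRn : (Q ⊔ ⁅K, K⁆).Normal := inferInstance
    rcases hirr (Q ⊔ ⁅K, K⁆) le_sup_left
        (sup_le hQK (Subgroup.commutator_le_right K K))
        (by rw [Subgroup.normalizer_eq_top_iff.2 hRn]; exact le_top) with h | h
    · exact fun a ha b hb =>
        h ▸ (le_sup_right : _ ≤ Q ⊔ ⁅K, K⁆) (Subgroup.commutator_mem_commutator ha hb)
    · exfalso
      apply CfsgLib.PGroup.frattini_ne_top (G := Kb)
      apply top_le_iff.1
      refine le_trans (le_of_eq ?_) (CfsgLib.PGroup.commutator_le_frattini hKq)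
      apply Subgroup.map_injective Kb.subtype_injective
      rw [Subgroup.map_subtype_commutator, ← MonoidHom.range_eq_map, Subgroup.range_subtype]
      conv_lhs => rw [hKb, ← h]
      rw [Subgroup.map_sup, Subgroup.map_commutator, (Subgroup.map_eq_bot_iff Q).2 hQker.le,
        bot_sup_eq]
  refine ⟨hCQ, hPmax, fun T => Subgroup.le_centralizer_iff_isMulCommutative.mp fun a ha b hb => ?_⟩
  have h2p : ∀ i : ℕ, Nat.Coprime (2 ^ i) p := fun i =>
    ((Nat.coprime_primes Nat.prime_two hpp).2 (Ne.symm hp2)).pow_left i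
  have hTo : ∀ x ∈ (T : Subgroup G), Nat.Coprime (orderOf x) p := fun x hx => by
    obtain ⟨i, hi⟩ := T.isPGroup' ⟨x, hx⟩
    exact (h2p i).coprime_dvd_left (orderOf_dvd_of_pow_eq_one (congrArg Subtype.val hi))
  have hTK : ∀ x ∈ (T : Subgroup G), x ∈ K := fun x hx => hKco x (hTo x hx)
  obtain ⟨j, hj⟩ := hQp ⟨⁅b, a⁆, hKab b (hTK b hb) a (hTK a ha)⟩
  refine commutatorElement_eq_one_iff_mul_comm.1
    (eq_one_of_coprime_of_pow (congrArg Subtype.val hj) (hTo _ ?_))
  exact mul_mem (mul_mem (mul_mem hb ha) (inv_mem hb)) (inv_mem ha)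

/-- If the elements of order dividing `p` in `Z(P)` are central, so is `Z(P)`, in a group where
some normal p-subgroup contains its centralizer. -/
theorem centralizer_center_eq_top (P : Sylow p G) {Q : Subgroup G} [Q.Normal]
    (hQP : Q ≤ (P : Subgroup G)) (hC : Subgroup.centralizer (Q : Set G) ≤ Q)
    (hΩ : Subgroup.centralizer (Cfsg.omegaOne p
      ((P : Subgroup G) ⊓ Subgroup.centralizer ((P : Subgroup G) : Set G)) : Set G) = ⊤) :
    Subgroup.centralizer (((P : Subgroup G) ⊓ Subgroup.centralizer ((P : Subgroup G) : Set G) :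
      Subgroup G) : Set G) = ⊤ := by
  classical
  set A := Q ⊓ Subgroup.centralizer (Q : Set G) with hA
  haveI hAn : A.Normal := inferInstance
  haveI : IsMulCommutative A := center_sub_isMulCommutative Q
  let _ : CommGroup A := { (inferInstance : Group A) with mul_comm := fun a b => Std.Commutative.comm a b }
  set φ : G →* MulAut A := MulAut.conjNormal with hφ
  let _ : Fintype (G ⧸ (P : Subgroup G)) := Fintype.ofFinite _
  have key : ∀ j, ∀ z : A, (z : G) ∈ Subgroup.centralizer ((P : Subgroup G) : Set G) →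
      z ^ p ^ j = 1 → ∀ g, φ g z = z := by
    intro j
    induction j with
    | zero => intro z _ hz g; rw [pow_zero, pow_one] at hz; rw [hz, map_one]
    | succ j ih =>
      intro z hzP hz
      have hzp : ∀ g, φ g (z ^ p) = z ^ p := ih (z ^ p)
        (by rw [Subgroup.coe_pow]; exact pow_mem hzP p) (by rw [← pow_mul, ← pow_succ']; exact hz)
      have hPz : ∀ g ∈ (P : Subgroup G), φ g z = z := fun g hg => by
        apply Subtype.ext
        rw [hφ, MulAut.conjNormal_apply, hzP g hg, mul_inv_cancel_right]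
      let F : G ⧸ (P : Subgroup G) → A := fun c => Quotient.liftOn' c (fun x => φ x z) (by
        intro a b hab
        have h1 := hPz _ (QuotientGroup.leftRel_apply.mp hab)
        show φ a z = φ b z
        conv_lhs => rw [← h1, ← MulAut.mul_apply, ← map_mul, mul_inv_cancel_left])
      set t := ∏ c, F c with ht
      set m := (P : Subgroup G).index with hm
      have htg : ∀ g, φ g t = t := fun g => by
        rw [ht, map_prod]
        refine Eq.trans (Finset.prod_congr rfl fun c _ => ?_)
          (Equiv.prod_comp (MulAction.toPerm g : Equiv.Perm (G ⧸ (P : Subgroup G))) F)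
        induction c using QuotientGroup.induction_on with
        | _ x =>
          show φ g (φ x z) = φ (g * x) z
          rw [map_mul, MulAut.mul_apply]
      have htp : t ^ p = (z ^ m) ^ p := by
        rw [ht, ← Finset.prod_pow, ← pow_mul, mul_comm m p, pow_mul,
          show m = Fintype.card (G ⧸ (P : Subgroup G)) from
            (Subgroup.index_eq_card _).trans Nat.card_eq_fintype_card,
          ← Finset.card_univ, ← Finset.prod_const]
        refine Finset.prod_congr rfl fun c _ => ?_
        induction c using QuotientGroup.induction_on with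
        | _ x =>
          show (φ x z) ^ p = z ^ p
          rw [← map_pow, hzp]
      set w := t⁻¹ * z ^ m with hw
      have hwP : (w : G) ∈ (P : Subgroup G) ⊓ Subgroup.centralizer ((P : Subgroup G) : Set G) := by
        refine ⟨hQP w.2.1, fun g hg => ?_⟩
        have h1 : φ g w = w := by rw [hw, map_mul, map_inv, map_pow, htg g, hPz g hg]
        have h2 := congrArg Subtype.val h1
        rw [hφ, MulAut.conjNormal_apply] at h2
        exact mul_inv_eq_iff_eq_mul.mp h2
      have hwp : w ^ p = 1 := by rw [hw, mul_pow, inv_pow, htp, inv_mul_cancel]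
      have hwg : ∀ g, φ g w = w := fun g => by
        have hc : g ∈ Subgroup.centralizer (Cfsg.omegaOne p
            ((P : Subgroup G) ⊓ Subgroup.centralizer ((P : Subgroup G) : Set G)) : Set G) := by
          rw [hΩ]; trivial
        have h1 := hc (w : G) (mem_omegaOne hwP (by rw [← Subgroup.coe_pow, hwp, Subgroup.coe_one]))
        apply Subtype.ext
        rw [hφ, MulAut.conjNormal_apply, ← h1, mul_inv_cancel_right]
      intro g
      have hzm : φ g (z ^ m) = z ^ m := by
        have h1 : z ^ m = t * w := by rw [hw, mul_inv_cancel_left]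
        rw [h1, map_mul, htg, hwg]
      obtain ⟨k, hk⟩ := exists_pow_eq_self_of_coprime (x := z) (n := m)
        ((((Nat.Prime.coprime_iff_not_dvd hp.out).2 P.not_dvd_index).pow_left (j + 1)).symm.coprime_dvd_right
          (orderOf_dvd_of_pow_eq_one hz))
      rw [← hk, map_pow, hzm]
  rw [eq_top_iff]
  intro g _ z hz
  have hzA : z ∈ A := by
    have h1 : z ∈ Subgroup.centralizer (Q : Set G) := Subgroup.centralizer_le hQP hz.2
    exact ⟨hC h1, h1⟩
  obtain ⟨j, hj⟩ := P.isPGroup' ⟨z, hz.1⟩
  have h := congrArg Subtype.val (key j ⟨z, hzA⟩ hz.2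
    (Subtype.ext (congrArg Subtype.val hj :)) g)
  rw [hφ, MulAut.conjNormal_apply] at h
  exact (mul_inv_eq_iff_eq_mul.mp h).symm

omit [Finite G] hp in
theorem npc_of_localHyp_aux (p : ℕ) [hp : Fact p.Prime] (hp2 : p ≠ 2) :
    ∀ (n : ℕ) (G : Type u) [Group G] [Finite G], Nat.card G = n →
    ∀ P : Sylow p G, LocalHyp p (P : Subgroup G) → Cfsg.HasNormalPComplement p G := by
  intro n
  induction n using Nat.strong_induction_on with
  | _ n ih =>
  intro G _ _ hn P hP
  have hpp := hp.out
  by_contra hG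
  have hsub : ∀ (H : Subgroup G) (S : Sylow p H), H ≠ ⊤ →
      LocalHyp p ((S : Subgroup H).map H.subtype) → Cfsg.HasNormalPComplement p H := by
    intro H S hH hS
    refine ih (Nat.card H) ?_ H rfl S (localHyp_of_map H.subtype H.subtype_injective _ hS)
    rw [← hn]
    by_contra hge
    exact hH (Subgroup.eq_top_of_le_card H (not_lt.1 hge))
  have hprop : ∀ H : Subgroup G, (P : Subgroup G) ≤ H → H ≠ ⊤ → Cfsg.HasNormalPComplement p H := by
    intro H hPH hH
    refine hsub H (P.subtype hPH) hH ?_
    rwa [Sylow.coe_subtype, Subgroup.map_subgroupOf_eq_of_le hPH]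
  -- a nontrivial normal p-subgroup
  obtain ⟨Q0, hQ0p, hQ0ne, hQ0n⟩ : ∃ Q0 : Subgroup G, IsPGroup p Q0 ∧ Q0 ≠ ⊥ ∧ Q0.Normal := by
    have hbad : {R : Subgroup G | IsPGroup p R ∧ R ≠ ⊥ ∧
        ¬ Cfsg.HasNormalPComplement p (Subgroup.normalizer (R : Set G))}.Nonempty := by
      by_contra hc
      apply hG
      refine frobenius_local fun R hR hRne => ?_
      by_contra hR'
      exact hc ⟨R, hR, hRne, hR'⟩
    obtain ⟨R, ⟨hR, hRne, hR'⟩, hmax⟩ := Set.exists_max_image _
      (fun R : Subgroup G => (Nat.card (Subgroup.normalizer (R : Set G))).factorization p)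
      (Set.toFinite _) hbad
    set H := Subgroup.normalizer (R : Set G) with hHdef
    refine ⟨R, hR, hRne, Subgroup.normalizer_eq_top_iff.1 ?_⟩
    by_contra hH
    obtain ⟨S⟩ : Nonempty (Sylow p H) := inferInstance
    set S' := (S : Subgroup H).map H.subtype with hS'
    have hS'p : IsPGroup p S' := S.isPGroup'.map _
    set r := (Nat.card H).factorization p with hr
    have hS'card : Nat.card S' = p ^ r := by
      rw [hS', Subgroup.card_map_of_injective H.subtype_injective, S.card_eq_multiplicity]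
    have hRS : R ≤ S' := by
      have := (hR.of_equiv (Subgroup.subgroupOfEquivOfLe Subgroup.le_normalizer).symm).le_sylow_of_normal S
      rw [hS', ← Subgroup.map_subgroupOf_eq_of_le (Subgroup.le_normalizer : R ≤ H)]
      exact Subgroup.map_mono this
    have hS'ne : S' ≠ ⊥ := fun h => hRne (le_bot_iff.1 (h ▸ hRS))
    obtain ⟨T, hT⟩ := hS'p.exists_le_sylow
    apply hR'
    refine hsub H S hH ⟨?_, ?_⟩
    · by_cases hr' : p ^ (r + 1) ∣ Nat.card G
      · by_contra hbadS
        have h1 := hmax (Cfsg.thompsonSubgroupOf p S')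
          ⟨hS'p.to_le (thompsonSubgroupOf_le p S'), thompsonSubgroupOf_ne_bot hS'p hS'ne, hbadS⟩
        have h2 : p ^ (r + 1) ∣
            Nat.card (Subgroup.normalizer (Cfsg.thompsonSubgroupOf p S' : Set G)) :=
          (Sylow.prime_pow_dvd_card_normalizer hr' hS'card).trans
            (Subgroup.card_dvd_of_le (normalizer_le_normalizer_thompsonSubgroupOf S'))
        have h3 := (hpp.pow_dvd_iff_le_factorization Nat.card_pos.ne').1 h2
        omega
      · have hTS : S' = (T : Subgroup G) := by
          refine Subgroup.eq_of_le_of_card_ge hT ?_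
          rw [hS'card, T.card_eq_multiplicity]
          refine Nat.pow_le_pow_right hpp.pos ?_
          by_contra hlt
          exact hr' ((hpp.pow_dvd_iff_le_factorization Nat.card_pos.ne').2 (by omega))
        rw [← hS', hTS]
        exact (localHyp_sylow hP T).1
    · set Z := (T : Subgroup G) ⊓ Subgroup.centralizer ((T : Subgroup G) : Set G) with hZ
      have hZH : Z ≤ H := (inf_le_right.trans
        ((Subgroup.centralizer_le (hRS.trans hT)).trans (Subgroup.centralizer_le_normalizer _)))
      have hZS : Z ≤ S' := by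
        have h1 : IsPGroup p ↥((Z ⊔ S').subgroupOf H) :=
          (T.isPGroup'.to_le (sup_le inf_le_left hT)).comap_subtype (K := H)
        have h2 := S.is_maximal' h1 (fun x hx => Subgroup.mem_subgroupOf.2
          (Subgroup.mem_sup_right (Subgroup.mem_map_of_mem H.subtype hx)))
        intro z hz
        have h3 : (⟨z, hZH hz⟩ : H) ∈ (S : Subgroup H) := by
          rw [← h2]; exact Subgroup.mem_subgroupOf.2 (Subgroup.mem_sup_left hz)
        exact Subgroup.mem_map_of_mem H.subtype h3
      refine hasNormalPComplement_of_le (Subgroup.centralizer_le ?_) (localHyp_sylow hP T).2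
      exact le_inf hZS (inf_le_right.trans (Subgroup.centralizer_le hT))
  set Q := (P : Subgroup G).normalCore with hQdef
  have hQP : Q ≤ (P : Subgroup G) := Subgroup.normalCore_le _
  have hQn : Q.Normal := Subgroup.normalCore_normal _
  have hQmax : ∀ N : Subgroup G, N.Normal → IsPGroup p N → N ≤ Q := fun N hNn hNp =>
    Subgroup.normal_le_normalCore.2 (hNp.le_sylow_of_normal P)
  have hQne : Q ≠ ⊥ := fun h => hQ0ne (le_bot_iff.1 ((hQmax Q0 hQ0n hQ0p).trans h.le))
  -- no normal p'-subgroup
  have hpc : ∀ N : Subgroup G, N.Normal → (Nat.card N).Coprime p → N = ⊥ := by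
    intro N hNn hco
    by_contra hNne
    apply hG
    refine CfsgLib.Transfer.hasNormalPComplement_of_quotient N
      ((Nat.Prime.coprime_iff_not_dvd hpp).1 hco.symm) ?_
    have hlt : Nat.card (G ⧸ N) < n := by
      rw [← hn, ← Subgroup.card_mul_index N, ← Subgroup.index_eq_card]
      exact lt_mul_left (Nat.pos_of_ne_zero Subgroup.index_ne_zero_of_finite)
        (Subgroup.one_lt_card_iff_ne_bot N |>.2 hNne)
    have hsurj := QuotientGroup.mk'_surjective N
    refine ih _ hlt (G ⧸ N) rfl (P.mapSurjective hsurj) ?_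
    have hinj : Function.Injective ((QuotientGroup.mk' N).comp (P : Subgroup G).subtype) := by
      rw [injective_iff_map_eq_one]
      intro x hx
      rw [MonoidHom.comp_apply, QuotientGroup.mk'_apply, QuotientGroup.eq_one_iff] at hx
      obtain ⟨j, hj⟩ := P.isPGroup' x
      exact eq_one_of_coprime_of_pow hj (hco.coprime_dvd_left
        (by rw [← Subgroup.orderOf_coe]; exact Subgroup.orderOf_dvd_natCard _ hx))
    have hker : (Nat.card (QuotientGroup.mk' N).ker).Coprime p := by rwa [QuotientGroup.ker_mk']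
    rw [Sylow.coe_mapSurjective]
    constructor
    · rw [← thompsonSubgroupOf_map_injOn _ _ hinj,
        CfsgLib.PLoc.normalizer_map_eq hsurj hker (P.isPGroup'.to_le (thompsonSubgroupOf_le p _))]
      exact npc_map _ _ hP.1
    · rw [← center_map_injOn _ _ hinj,
        CfsgLib.PLoc.centralizer_map_eq hsurj hker (P.isPGroup'.to_le inf_le_left)]
      exact npc_map _ _ hP.2
  set J := Cfsg.thompsonSubgroupOf p (P : Subgroup G) with hJ
  have hPNJ : (P : Subgroup G) ≤ Subgroup.normalizer (J : Set G) :=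
    Subgroup.le_normalizer.trans (normalizer_le_normalizer_thompsonSubgroupOf _)
  have hNtop : Subgroup.normalizer (J : Set G) ≠ ⊤ := fun h => by
    have hN := hP.1
    rw [← hJ, h] at hN
    exact hG (npc_of_top hN)
  have hQP' : Q ≠ (P : Subgroup G) := fun h => by
    apply hNtop
    rw [eq_top_iff, ← Subgroup.normalizer_eq_top_iff.2 hQn, h]
    exact normalizer_le_normalizer_thompsonSubgroupOf _
  -- the quotient by `Q` has a normal p-complement
  set f := QuotientGroup.mk' Q with hf
  have hsurj := QuotientGroup.mk'_surjective Q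
  have hker : f.ker = Q := QuotientGroup.ker_mk' Q
  set Pb := (P : Subgroup G).map f with hPb
  have hPbp : IsPGroup p Pb := P.isPGroup'.map f
  have hPbne : Pb ≠ ⊥ := fun h => hQP' (le_antisymm hQP (by
    rw [hPb, Subgroup.map_eq_bot_iff, hker] at h; exact h))
  have hnormb : ∀ Xb : Subgroup (G ⧸ Q), Xb ≤ Pb → Xb ≠ ⊥ →
      Pb ≤ Subgroup.normalizer (Xb : Set (G ⧸ Q)) →
      Cfsg.HasNormalPComplement p (Subgroup.normalizer (Xb : Set (G ⧸ Q))) := by
    intro Xb hXb hXne hPX'
    set X := Xb.comap f with hXdef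
    have hPX : (P : Subgroup G) ≤ Subgroup.normalizer (X : Set G) := fun x hx => by
      rw [hXdef, ← Subgroup.comap_normalizer_eq_of_surjective _ hsurj]
      exact hPX' (Subgroup.mem_map_of_mem f hx)
    have hXp : IsPGroup p X := (hPbp.to_le hXb).comap_of_ker_isPGroup f
      (by rw [hker]; exact P.isPGroup'.to_le hQP)
    have hNX : Subgroup.normalizer (X : Set G) ≠ ⊤ := fun h => by
      have hXQ : X ≤ Q := hQmax X (Subgroup.normalizer_eq_top_iff.1 h) hXp
      apply hXne
      rw [← Subgroup.map_comap_eq_self_of_surjective hsurj Xb, ← hXdef, eq_bot_iff]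
      exact (Subgroup.map_mono hXQ).trans ((Subgroup.map_eq_bot_iff Q).2 hker.ge).le
    have h1 := npc_map f _ (hprop _ hPX hNX)
    rwa [hXdef, ← Subgroup.comap_normalizer_eq_of_surjective _ hsurj,
      Subgroup.map_comap_eq_self_of_surjective hsurj] at h1
  have hZb : Cfsg.HasNormalPComplement p (G ⧸ Q) := by
    have hlt : Nat.card (G ⧸ Q) < n := by
      rw [← hn, ← Subgroup.card_mul_index Q, ← Subgroup.index_eq_card]
      exact lt_mul_left (Nat.pos_of_ne_zero Subgroup.index_ne_zero_of_finite)
        (Subgroup.one_lt_card_iff_ne_bot Q |>.2 hQne)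
    refine ih _ hlt (G ⧸ Q) rfl (P.mapSurjective hsurj) ?_
    rw [Sylow.coe_mapSurjective]
    exact ⟨hnormb _ (thompsonSubgroupOf_le p _) (thompsonSubgroupOf_ne_bot hPbp hPbne)
        (Subgroup.le_normalizer.trans (normalizer_le_normalizer_thompsonSubgroupOf _)),
      hasNormalPComplement_of_le (Subgroup.centralizer_le_normalizer _)
        (hnormb _ inf_le_left (center_ne_bot hPbp hPbne)
          (Subgroup.le_normalizer.trans (normalizer_le_normalizer_center _)))⟩
  obtain ⟨Kb, hKbn, hKbco, k, hkk⟩ := hasNormalPComplement_iff.1 hZb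
  set K := Kb.comap f with hKdef
  have hKidx : K.index = p ^ k := by rw [hKdef, Subgroup.index_comap_of_surjective _ hsurj, hkk]
  have hQK : Q ≤ K := hker ▸ Subgroup.ker_le_comap f Kb
  have hKQ : K ≠ Q := fun h => by
    apply hQP'
    refine le_antisymm hQP fun x hx => ?_
    have hKb : Kb = ⊥ := by
      rw [← Subgroup.map_comap_eq_self_of_surjective hsurj Kb, ← hKdef, h]
      exact (Subgroup.map_eq_bot_iff Q).2 hker.ge
    rw [hKb, Subgroup.index_bot] at hkk
    have htopp : IsPGroup p (⊤ : Subgroup G) := by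
      have := (IsPGroup.of_card (p := p) (n := k) (G := (⊤ : Subgroup (G ⧸ Q)))
        (by rw [Subgroup.card_top, hkk])).comap_of_ker_isPGroup f
          (by rw [hker]; exact P.isPGroup'.to_le hQP)
      rwa [Subgroup.comap_top] at this
    exact hQmax ⊤ inferInstance htopp (Subgroup.mem_top x)
  have hKn : K.Normal := hKbn.comap f
  obtain ⟨hCQ, hPmax, hab⟩ := config_structure hp2 P hQP hQmax hpc hprop hKidx hQK hKQ
    (by rwa [hKdef, ← hf, Subgroup.map_comap_eq_self_of_surjective hsurj])
  have hO : Cfsg.pCore p G = Q := le_antisymm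
    (hQmax _ (CfsgLib.Solvable.pCore_normal p G) (CfsgLib.Solvable.pCore_isPGroup p G))
    (CfsgLib.Solvable.le_pCore hQn (P.isPGroup'.to_le hQP))
  have hO' : Cfsg.pPrimeCore p G = ⊥ :=
    hpc _ (CfsgLib.Solvable.pPrimeCore_normal p G) (CfsgLib.Solvable.pPrimeCore_card_coprime p G)
  have hfac := CfsgLib.ThompsonFactor.isThompsonFactorizable_of_cond hp2 (Or.inl hab)
    (by rw [hO]; exact hCQ) hO'
  set C₀ := Subgroup.centralizer (Cfsg.omegaOne p
    ((P : Subgroup G) ⊓ Subgroup.centralizer ((P : Subgroup G) : Set G)) : Set G) with hC₀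
  have hΩ : C₀ = ⊤ := by
    by_contra hne
    have hPC : (P : Subgroup G) ≤ C₀ := Subgroup.le_centralizer_iff.mp (omegaCenter_le_fixed _)
    apply hNtop
    rw [eq_top_iff]
    intro g _
    obtain ⟨a, ha, c, hc, rfl⟩ := CfsgLib.ThompsonFactor.eq_normalizer_mul_centralizer hO' hfac P g
    rw [← hJ, hPmax _ hPNJ hNtop] at ha
    rw [← hC₀, hPmax _ hPC hne] at hc
    exact hPNJ (mul_mem ha hc)
  have hN := hP.2
  rw [centralizer_center_eq_top P hQP hCQ hΩ] at hN
  exact hG (npc_of_top hN)

/-- **Thompson's normal p-complement theorem**. -/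
theorem hasNormalPComplement_iff_thompson (hp2 : p ≠ 2) (P : Sylow p G) :
    Cfsg.HasNormalPComplement p G ↔ LocalHyp p (P : Subgroup G) :=
  ⟨fun h => ⟨hasNormalPComplement_subgroup h _, hasNormalPComplement_subgroup h _⟩,
    npc_of_localHyp_aux p hp2 _ G rfl P⟩

end CfsgLib.ThompsonComplement
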